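import Groth.Agent.EGA4Lib.Rk
import Groth.Agent.RegLoc.Basic
import Groth.Agent.RegLoc.Homological
import Mathlib.RingTheory.Localization.Ideal
import Mathlib.RingTheory.KrullDimension.NonZeroDivisors
import Mathlib.RingTheory.Spectrum.Prime.Noetherian

/-!
# The regular locus: generizations, Nagata's openness criterion
-/

set_option autoImplicit false
set_option linter.style.haveILetI false

open IsLocalRing

namespace Groth.Agent.EGA4Lib

universe u

variable {A : Type u} [CommRing A]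

theorem mem_regLocus_of_le [IsNoetherianRing A] {p q : PrimeSpectrum A} (hp : p ∈ EGA4.regLocus A)
    (hle : q ≤ p) : q ∈ EGA4.regLocus A := by
  let e := IsLocalization.AtPrime.primeSpectrumOrderIso (Localization.AtPrime p.asIdeal) p.asIdeal
  let Q := e.symm ⟨q, hle⟩
  have hQ : PrimeSpectrum.comap (algebraMap A (Localization.AtPrime p.asIdeal)) Q = q :=
    congrArg Subtype.val (e.apply_symm_apply ⟨q, hle⟩)
  haveI : IsRegularLocalRing (Localization.AtPrime p.asIdeal) := hp
  haveI := RegLoc.Homological.isRegularLocalRing_localization (R := Localization.AtPrime p.asIdeal) Q.asIdeal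
  exact (isRegularLocalRing_congr hQ).1 (IsRegularLocalRing.of_ringEquiv
    (IsLocalization.localizationLocalizationAtPrimeIsoLocalization p.asIdeal.primeCompl Q.asIdeal).symm.toRingEquiv)

theorem mem_regLocus_of_ringEquiv {B : Type u} [CommRing B] (e : A ≃+* B) (p : PrimeSpectrum B) :
    PrimeSpectrum.comap e.toRingHom p ∈ EGA4.regLocus A ↔ p ∈ EGA4.regLocus B := by
  let e' : Localization.AtPrime (p.asIdeal.comap e) ≃+* Localization.AtPrime p.asIdeal :=
    IsLocalization.ringEquivOfRingEquiv (Localization.AtPrime (p.asIdeal.comap e))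
      (Localization.AtPrime p.asIdeal) e (e.map_primeCompl_comap_eq p.asIdeal)
  exact ⟨fun h => @IsRegularLocalRing.of_ringEquiv _ _ h _ _ e',
    fun h => @IsRegularLocalRing.of_ringEquiv _ _ h _ _ e'.symm⟩

theorem bot_mem_regLocus (D : Type u) [CommRing D] [IsDomain D] :
    (⟨⊥, Ideal.isPrime_bot⟩ : PrimeSpectrum D) ∈ EGA4.regLocus D := by
  show IsRegularLocalRing (Localization.AtPrime (⊥ : Ideal D))
  haveI : IsFractionRing D (Localization.AtPrime (⊥ : Ideal D)) := by
    show IsLocalization (nonZeroDivisors D) (Localization.AtPrime (⊥ : Ideal D))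
    rw [← Ideal.primeCompl_bot]
    exact Localization.isLocalization
  exact IsRegularLocalRing.of_ringEquiv
    (IsLocalization.algEquiv (nonZeroDivisors D) (FractionRing D) (Localization.AtPrime (⊥ : Ideal D))).toRingEquiv

/-- Criterion for openness in a Noetherian spectrum. -/
theorem isOpen_of_forall_exists_basicOpen [IsNoetherianRing A] (U : Set (PrimeSpectrum A))
    (hgen : ∀ p ∈ U, ∀ q ≤ p, q ∈ U)
    (h : ∀ p ∈ U, ∃ f ∉ p.asIdeal, ∀ q : PrimeSpectrum A, p ≤ q → f ∉ q.asIdeal → q ∈ U) :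
    IsOpen U := by
  rw [← isClosed_compl_iff]
  rw [← closure_subset_iff_isClosed]
  intro p hp
  obtain ⟨J, hJ⟩ := (PrimeSpectrum.isClosed_iff_zeroLocus_ideal _).1 (isClosed_closure (s := Uᶜ))
  rw [hJ] at hp
  obtain ⟨P, hP, hPp⟩ := Ideal.exists_minimalPrimes_le (show J ≤ p.asIdeal from hp)
  suffices hPU : (⟨P, hP.1.1⟩ : PrimeSpectrum A) ∉ U from fun hpU => hPU (hgen p hpU _ hPp)
  intro hPU
  obtain ⟨f, hf, hfU⟩ := h _ hPU
  classical
  let T := ((Ideal.finite_minimalPrimes_of_isNoetherianRing A J).toFinset.erase P)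
  have hT : ∀ Q ∈ T, ¬ Q ≤ P := by
    intro Q hQ hle
    simp only [T, Finset.mem_erase, Set.Finite.mem_toFinset] at hQ
    exact hQ.1 (le_antisymm hle (hP.2 hQ.2.1 hle))
  obtain ⟨g, hg, hgP⟩ : ∃ g, (∀ Q ∈ T, g ∈ Q) ∧ g ∉ P := by
    have : ¬ (T.inf id ≤ P) := by
      rw [Ideal.IsPrime.inf_le' hP.1.1]
      rintro ⟨Q, hQ, hle⟩
      exact hT Q hQ hle
    obtain ⟨g, hg, hgP⟩ := SetLike.not_le_iff_exists.1 this
    exact ⟨g, fun Q hQ => (Finset.inf_le (f := id) hQ) hg, hgP⟩
  have hmem : (⟨P, hP.1.1⟩ : PrimeSpectrum A) ∈ closure Uᶜ := by rw [hJ]; exact hP.1.2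
  obtain ⟨q, hq, hqU⟩ := mem_closure_iff.1 hmem (PrimeSpectrum.basicOpen (f * g))
    (PrimeSpectrum.basicOpen (f * g)).isOpen (hP.1.1.mul_notMem hf hgP)
  have hqfg : f * g ∉ q.asIdeal := hq
  have hqJ : q ∈ closure Uᶜ := subset_closure hqU
  rw [hJ] at hqJ
  obtain ⟨Q, hQ, hQq⟩ := Ideal.exists_minimalPrimes_le (show J ≤ q.asIdeal from hqJ)
  by_cases hQP : Q = P
  · exact hqU (hfU q (hQP ▸ hQq) fun hfq => hqfg (Ideal.mul_mem_right _ _ hfq))
  · exact hqfg (Ideal.mul_mem_left _ _ (hQq (hg Q (by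
      simp only [T, Finset.mem_erase, Set.Finite.mem_toFinset]
      exact ⟨hQP, hQ⟩))))

variable [IsNoetherianRing A]

/-- Near a regular point `p`, the regular locus of `A / p` lifts to that of `A`. -/
theorem exists_forall_mem_regLocus {p : PrimeSpectrum A} (hp : p ∈ EGA4.regLocus A) :
    ∃ f ∉ p.asIdeal, ∀ q : PrimeSpectrum A, p ≤ q → f ∉ q.asIdeal →
      ∀ Q : PrimeSpectrum (A ⧸ p.asIdeal), PrimeSpectrum.comap (Ideal.Quotient.mk p.asIdeal) Q = q →
        Q ∈ EGA4.regLocus (A ⧸ p.asIdeal) → q ∈ EGA4.regLocus A := by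
  classical
  let Ap := Localization.AtPrime p.asIdeal
  haveI : IsRegularLocalRing Ap := hp
  obtain ⟨d, hd, -⟩ := RegLoc.exists_natCast_eq_ringKrullDim Ap
  obtain ⟨s, hs, hsspan⟩ := Submodule.FG.exists_span_finset_card_eq_spanFinrank
    (IsNoetherian.noetherian (maximalIdeal Ap))
  rw [RegLoc.spanFinrank_eq_dim hd] at hs
  have hlift : ∀ y : Ap, ∃ a : A, (y ∈ maximalIdeal Ap → a ∈ p.asIdeal) ∧
      Ideal.span {algebraMap A Ap a} = Ideal.span {y} := by
    intro y
    obtain ⟨a, t, rfl⟩ := IsLocalization.exists_mk'_eq p.asIdeal.primeCompl y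
    refine ⟨a, fun hy => (IsLocalization.AtPrime.mk'_mem_maximal_iff Ap p.asIdeal a t).1 hy, ?_⟩
    rw [← IsLocalization.mk'_spec Ap a t, Ideal.span_singleton_mul_right_unit
      (IsLocalization.map_units Ap t)]
  choose a ha haspan using hlift
  let I : Ideal A := Ideal.span ((s.image a : Finset A) : Set A)
  have hImap : I.map (algebraMap A Ap) = maximalIdeal Ap := by
    refine le_antisymm ?_ ?_
    · rw [Ideal.map_le_iff_le_comap, Ideal.span_le]
      intro x hx
      obtain ⟨y, hy, rfl⟩ := Finset.mem_image.1 (Finset.mem_coe.1 hx)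
      have : algebraMap A Ap (a y) ∈ Ideal.span {y} := haspan y ▸ Ideal.mem_span_singleton_self _
      have hym : y ∈ maximalIdeal Ap := hsspan ▸ Ideal.subset_span (Finset.mem_coe.2 hy)
      exact (Ideal.span_singleton_le_iff_mem _).2 hym this
    · rw [← hsspan]
      refine Ideal.span_le.2 fun y hy => ?_
      have h1 : Ideal.span {algebraMap A Ap (a y)} ≤ I.map (algebraMap A Ap) :=
        (Ideal.span_singleton_le_iff_mem _).2 (Ideal.mem_map_of_mem _
          (Ideal.subset_span (Finset.mem_coe.2 (Finset.mem_image_of_mem a hy))))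
      rw [haspan y] at h1
      exact h1 (Ideal.mem_span_singleton_self y)
  obtain ⟨G, hG⟩ := IsNoetherian.noetherian p.asIdeal
  have hc : ∀ b ∈ G, ∃ c ∉ p.asIdeal, c * b ∈ I := by
    intro b hb
    have hbm : algebraMap A Ap b ∈ maximalIdeal Ap :=
      (IsLocalization.AtPrime.to_map_mem_maximal_iff Ap p.asIdeal b).2 (hG ▸ Submodule.subset_span hb)
    rw [← hImap, IsLocalization.algebraMap_mem_map_algebraMap_iff p.asIdeal.primeCompl] at hbm
    obtain ⟨c, hc, hcb⟩ := hbm
    exact ⟨c, hc, hcb⟩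
  choose c hc1 hc2 using hc
  refine ⟨∏ b ∈ G.attach, c b.1 b.2, ?_, ?_⟩
  · intro hmem
    obtain ⟨b, -, hb⟩ := p.isPrime.prod_mem_iff.1 hmem
    exact hc1 b.1 b.2 hb
  intro q hpq hfq Q hQ hQreg
  let Aq := Localization.AtPrime q.asIdeal
  let J := p.asIdeal.map (algebraMap A Aq)
  have hJle : J ≤ Ideal.span (((s.image a).image (algebraMap A Aq) : Finset Aq) : Set Aq) := by
    rw [Finset.coe_image, ← Ideal.map_span]
    show p.asIdeal.map (algebraMap A Aq) ≤ I.map (algebraMap A Aq)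
    rw [← hG, Ideal.map_le_iff_le_comap]
    refine Submodule.span_le.2 fun b hb => ?_
    have hcq : c b hb ∉ q.asIdeal := fun h => hfq (q.isPrime.prod_mem_iff.2
      ⟨⟨b, hb⟩, Finset.mem_attach _ _, h⟩)
    exact (IsLocalization.algebraMap_mem_map_algebraMap_iff q.asIdeal.primeCompl Aq I b).2
      ⟨c b hb, hcq, hc2 b hb⟩
  have hJeq : J = Ideal.span (((s.image a).image (algebraMap A Aq) : Finset Aq) : Set Aq) := by
    refine le_antisymm hJle (Ideal.span_le.2 fun z hz => ?_)
    obtain ⟨x, hx, rfl⟩ := Finset.mem_image.1 (Finset.mem_coe.1 hz)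
    obtain ⟨y, hy, rfl⟩ := Finset.mem_image.1 hx
    exact Ideal.mem_map_of_mem _ (ha y (by rw [← hsspan]; exact Ideal.subset_span hy))
  have hdisj : Disjoint (q.asIdeal.primeCompl : Set A) (p.asIdeal : Set A) :=
    Set.disjoint_left.2 fun x hx hxp => hx (hpq hxp)
  haveI hJprime : J.IsPrime :=
    IsLocalization.isPrime_of_isPrime_disjoint q.asIdeal.primeCompl Aq _ p.isPrime hdisj
  have hJd : J.height = d := by
    rw [IsLocalization.height_map_of_disjoint q.asIdeal.primeCompl p.asIdeal hdisj]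
    have := IsLocalization.AtPrime.ringKrullDim_eq_height p.asIdeal Ap
    rw [hd] at this
    exact_mod_cast this.symm
  haveI : IsLocalRing (Aq ⧸ J) := RegLoc.isLocalRing_quotient (le_maximalIdeal hJprime.ne_top)
  have hQq : Q.asIdeal.comap (Ideal.Quotient.mk p.asIdeal) = q.asIdeal :=
    congrArg PrimeSpectrum.asIdeal hQ
  have hM : Algebra.algebraMapSubmonoid (A ⧸ p.asIdeal) q.asIdeal.primeCompl = Q.asIdeal.primeCompl := by
    ext x
    obtain ⟨x, rfl⟩ := Ideal.Quotient.mk_surjective x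
    constructor
    · rintro ⟨y, hy, hyx⟩ hxQ
      exact hy (hQq ▸ (show Ideal.Quotient.mk p.asIdeal y ∈ Q.asIdeal from hyx ▸ hxQ))
    · intro hx
      exact ⟨x, fun hxq => hx (show x ∈ Q.asIdeal.comap (Ideal.Quotient.mk p.asIdeal) from hQq ▸ hxq), rfl⟩
  haveI : IsLocalization.AtPrime (Aq ⧸ J) Q.asIdeal := by
    show IsLocalization Q.asIdeal.primeCompl (Aq ⧸ J)
    rw [← hM]
    infer_instance
  haveI : IsRegularLocalRing (Localization.AtPrime Q.asIdeal) := hQreg
  haveI : IsRegularLocalRing (Aq ⧸ J) := IsRegularLocalRing.of_ringEquiv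
    (IsLocalization.algEquiv Q.asIdeal.primeCompl (Localization.AtPrime Q.asIdeal) (Aq ⧸ J)).toRingEquiv
  obtain ⟨e, he, -⟩ := RegLoc.exists_natCast_eq_ringKrullDim (Aq ⧸ J)
  refine IsRegularLocalRing.of_spanFinrank_maximalIdeal_le Aq ?_
  have h1 := RegLoc.spanFinrank_maximalIdeal_le_quotient_add J
  have h2 : J.spanFinrank ≤ d := by
    rw [hJeq]
    refine (Submodule.spanFinrank_span_le_ncard_of_finite (Finset.finite_toSet _)).trans ?_
    rw [Set.ncard_coe_finset]
    exact (Finset.card_image_le.trans Finset.card_image_le).trans hs.le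
  rw [RegLoc.spanFinrank_eq_dim he] at h1
  have h3 : ((d + e : ℕ) : WithBot ℕ∞) ≤ ringKrullDim Aq := by
    let j : PrimeSpectrum Aq := ⟨J, hJprime⟩
    have h4 : (Order.height j + Order.coheight j : ℕ∞) ≤ (⨆ x : PrimeSpectrum Aq, Order.height x + Order.coheight x) :=
      le_iSup (fun x : PrimeSpectrum Aq => Order.height x + Order.coheight x) j
    have h5 : Order.height j = d := by rw [← PrimeSpectrum.height_eq_orderHeight]; exact hJd
    have h6 : ((Order.coheight j : ℕ∞) : WithBot ℕ∞) = e := by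
      rw [Order.coheight_eq_krullDim_Ici, ← he, ringKrullDim_quotient]
      rfl
    have h7 : Order.coheight j = e := by exact_mod_cast h6
    rw [h5, h7] at h4
    have h8 : ringKrullDim Aq = ((⨆ x : PrimeSpectrum Aq, Order.height x + Order.coheight x : ℕ∞) : WithBot ℕ∞) :=
      Order.krullDim_eq_iSup_height_add_coheight_of_nonempty
    rw [h8]
    exact_mod_cast h4
  exact le_trans (by exact_mod_cast h1.trans (by omega)) h3

/-- Nagata's criterion. -/
theorem isOpen_regLocus_of_quotients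
    (h : ∀ p : PrimeSpectrum A, p ∈ EGA4.regLocus A →
      ∃ U : Set (PrimeSpectrum (A ⧸ p.asIdeal)), IsOpen U ∧ U.Nonempty ∧ U ⊆ EGA4.regLocus (A ⧸ p.asIdeal)) :
    IsOpen (EGA4.regLocus A) := by
  refine isOpen_of_forall_exists_basicOpen _ (fun p hp q hq => mem_regLocus_of_le hp hq) fun p hp => ?_
  obtain ⟨f, hf, hfreg⟩ := exists_forall_mem_regLocus hp
  obtain ⟨U, hU, ⟨x, hx⟩, hUreg⟩ := h p hp
  obtain ⟨_, ⟨g, rfl⟩, hxg, hgU⟩ :=
    PrimeSpectrum.isTopologicalBasis_basic_opens.exists_subset_of_mem_open hx hU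
  obtain ⟨g, rfl⟩ := Ideal.Quotient.mk_surjective g
  have hgp : g ∉ p.asIdeal := fun h => hxg (by simp [Ideal.Quotient.eq_zero_iff_mem.2 h])
  refine ⟨f * g, p.isPrime.mul_notMem hf hgp, fun q hpq hfgq => ?_⟩
  haveI : (q.asIdeal.map (Ideal.Quotient.mk p.asIdeal)).IsPrime :=
    Ideal.map_isPrime_of_surjective Ideal.Quotient.mk_surjective (by rw [Ideal.mk_ker]; exact hpq)
  have hQ : PrimeSpectrum.comap (Ideal.Quotient.mk p.asIdeal)
      ⟨q.asIdeal.map (Ideal.Quotient.mk p.asIdeal), inferInstance⟩ = q := by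
    apply PrimeSpectrum.ext
    show (q.asIdeal.map _).comap _ = _
    rw [Ideal.comap_map_of_surjective' _ Ideal.Quotient.mk_surjective, Ideal.mk_ker, sup_eq_left.2 hpq]
  refine hfreg q hpq (fun h => hfgq (Ideal.mul_mem_right _ _ h)) _ hQ (hUreg (hgU ?_))
  intro hgm
  apply hfgq
  refine Ideal.mul_mem_left _ _ ?_
  rw [← hQ]
  exact hgm

end Groth.Agent.EGA4Lib
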