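import Groth.Agent.EGA4Lib.RkFlat
import Groth.Agent.EGA4Lib.RegLocus
import Mathlib.RingTheory.RegularLocalRing.Polynomial
import Mathlib.RingTheory.MvPolynomial.Localization
import Mathlib.RingTheory.Smooth.StandardSmoothOfFree
import Mathlib.RingTheory.RingHom.StandardSmooth
import Mathlib.RingTheory.Unramified.LocalRing
import Mathlib.RingTheory.Etale.Basic
import Mathlib.RingTheory.Etale.StandardEtale
import Mathlib.RingTheory.Smooth.Flat

/-!
# Smooth algebras over regular rings are regular
-/

set_option autoImplicit false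
set_option linter.style.haveILetI false

open IsLocalRing

namespace Groth.Agent.EGA4Lib

universe u

/-- A point of a polynomial ring over a regular point is regular. -/
theorem mem_regLocus_mvPolynomial {R : Type u} [CommRing R] [IsNoetherianRing R] (n : ℕ)
    (P : PrimeSpectrum (MvPolynomial (Fin n) R))
    (h : PrimeSpectrum.comap MvPolynomial.C P ∈ EGA4.regLocus R) :
    P ∈ EGA4.regLocus (MvPolynomial (Fin n) R) := by
  let p := P.asIdeal.comap (MvPolynomial.C : R →+* MvPolynomial (Fin n) R)
  let Rp := Localization.AtPrime p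
  haveI : IsRegularLocalRing Rp := h
  haveI : IsRegularRing Rp := RegLoc.Homological.isRegularRing
  letI : Algebra (MvPolynomial (Fin n) R) (MvPolynomial (Fin n) Rp) := MvPolynomial.algebraMvPolynomial
  let M : Submonoid (MvPolynomial (Fin n) R) := p.primeCompl.map (MvPolynomial.C (σ := Fin n))
  haveI : IsLocalization M (MvPolynomial (Fin n) Rp) := MvPolynomial.isLocalization p.primeCompl Rp
  have hdisj : Disjoint (M : Set (MvPolynomial (Fin n) R)) (P.asIdeal : Set _) := by
    refine Set.disjoint_left.2 ?_
    rintro _ ⟨a, ha, rfl⟩ haP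
    exact ha haP
  let P' := P.asIdeal.map (algebraMap (MvPolynomial (Fin n) R) (MvPolynomial (Fin n) Rp))
  haveI : P'.IsPrime := IsLocalization.isPrime_of_isPrime_disjoint M _ _ P.isPrime hdisj
  have hcomap : P'.comap (algebraMap (MvPolynomial (Fin n) R) (MvPolynomial (Fin n) Rp)) = P.asIdeal :=
    IsLocalization.under_map_of_isPrime_disjoint M _ P.isPrime hdisj
  haveI := IsLocalization.isLocalization_isLocalization_atPrime_isLocalization M
    (Localization.AtPrime P') P'
  haveI : IsLocalization.AtPrime (Localization.AtPrime P') P.asIdeal := by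
    show IsLocalization P.asIdeal.primeCompl (Localization.AtPrime P')
    have heq : (P'.comap (algebraMap (MvPolynomial (Fin n) R) (MvPolynomial (Fin n) Rp))).primeCompl =
        P.asIdeal.primeCompl := by
      ext x; exact not_congr (by rw [hcomap])
    rw [← heq]
    assumption
  exact IsRegularLocalRing.of_ringEquiv (R := Localization.AtPrime P')
    (IsLocalization.algEquiv P.asIdeal.primeCompl (Localization.AtPrime P') (Localization.AtPrime P.asIdeal)).toRingEquiv

/-- An etale algebra is regular above regular points. -/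
theorem mem_regLocus_of_etale {R S : Type u} [CommRing R] [IsNoetherianRing R] [CommRing S]
    [IsNoetherianRing S] [Algebra R S] [Algebra.Etale R S] (q : PrimeSpectrum S)
    (h : PrimeSpectrum.comap (algebraMap R S) q ∈ EGA4.regLocus R) : q ∈ EGA4.regLocus S := by
  haveI : Algebra.Smooth R S := inferInstance
  haveI : Module.Flat R S := inferInstance
  let p := q.asIdeal.comap (algebraMap R S)
  let Rp := Localization.AtPrime p
  let Sq := Localization.AtPrime q.asIdeal
  haveI : IsRegularLocalRing Rp := h
  letI : Algebra Rp Sq := (Localization.localRingHom p q.asIdeal (algebraMap R S) rfl).toAlgebra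
  haveI : IsLocalHom (algebraMap Rp Sq) := Localization.isLocalHom_localRingHom _ _ _ rfl
  haveI : Module.Flat Rp Sq := RingHom.flat_algebraMap_iff.1 (flat_localRingHom q.asIdeal p rfl)
  haveI : IsScalarTower R Rp Sq := IsScalarTower.of_algebraMap_eq fun x => by
    rw [RingHom.algebraMap_toAlgebra, Localization.localRingHom_to_map]
    exact IsScalarTower.algebraMap_apply R S Sq x
  haveI : Algebra.FormallyUnramified S Sq := Algebra.FormallyUnramified.of_isLocalization q.asIdeal.primeCompl
  haveI : Algebra.FormallyUnramified R Sq := Algebra.FormallyUnramified.comp R S Sq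
  haveI : Algebra.FormallyUnramified Rp Sq := Algebra.FormallyUnramified.of_restrictScalars R Rp Sq
  haveI : Algebra.EssFiniteType R Sq := Algebra.EssFiniteType.comp R S Sq
  haveI : Algebra.EssFiniteType Rp Sq := Algebra.EssFiniteType.of_comp R Rp Sq
  haveI : IsRegularLocalRing (Sq ⧸ (maximalIdeal Rp).map (algebraMap Rp Sq)) := by
    rw [Algebra.FormallyUnramified.map_maximalIdeal]
    letI := Ideal.Quotient.field (maximalIdeal Sq)
    exact inferInstanceAs (IsRegularLocalRing (Sq ⧸ maximalIdeal Sq))
  exact isRegularLocalRing_of_fibre Rp Sq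

/-- A smooth algebra is regular above regular points. -/
theorem mem_regLocus_of_smooth {R S : Type u} [CommRing R] [IsNoetherianRing R] [CommRing S]
    [Algebra R S] [Algebra.Smooth R S] (q : PrimeSpectrum S)
    (h : PrimeSpectrum.comap (algebraMap R S) q ∈ EGA4.regLocus R) : q ∈ EGA4.regLocus S := by
  obtain ⟨f, hf, hstd⟩ := Algebra.IsSmoothAt.exists_notMem_isStandardSmooth R (S := S) q.asIdeal
  haveI := hstd
  let Sf := Localization.Away f
  obtain ⟨n, g, hgC, hg⟩ := RingHom.IsStandardSmooth.exists_etale_mvPolynomial
    (f := algebraMap R Sf) (RingHom.isStandardSmooth_algebraMap.2 hstd)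
  letI : Algebra (MvPolynomial (Fin n) R) Sf := g.toAlgebra
  haveI : Algebra.Etale (MvPolynomial (Fin n) R) Sf := hg
  haveI : IsNoetherianRing S := Algebra.FiniteType.isNoetherianRing R S
  haveI : IsNoetherianRing Sf := IsLocalization.isNoetherianRing (Submonoid.powers f) Sf inferInstance
  have hdisj : Disjoint (Submonoid.powers f : Set S) (q.asIdeal : Set S) := by
    refine Set.disjoint_left.2 ?_
    rintro _ ⟨m, rfl⟩ hm
    exact hf (q.isPrime.mem_of_pow_mem m hm)
  let Q : PrimeSpectrum Sf := ⟨q.asIdeal.map (algebraMap S Sf),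
    IsLocalization.isPrime_of_isPrime_disjoint (Submonoid.powers f) _ _ q.isPrime hdisj⟩
  have hQ : PrimeSpectrum.comap (algebraMap S Sf) Q = q :=
    PrimeSpectrum.ext (IsLocalization.under_map_of_isPrime_disjoint (Submonoid.powers f) _ q.isPrime hdisj)
  have hQreg : Q ∈ EGA4.regLocus Sf := by
    refine mem_regLocus_of_etale (R := MvPolynomial (Fin n) R) Q (mem_regLocus_mvPolynomial n _ ?_)
    rw [← PrimeSpectrum.comap_comp_apply, RingHom.algebraMap_toAlgebra, hgC,
      IsScalarTower.algebraMap_eq R S Sf, PrimeSpectrum.comap_comp_apply, hQ]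
    exact h
  haveI : Q.asIdeal.IsPrime := Q.isPrime
  haveI : IsRegularLocalRing (Localization.AtPrime Q.asIdeal) := hQreg
  exact (isRegularLocalRing_congr hQ).1 (IsRegularLocalRing.of_ringEquiv
    (IsLocalization.localizationLocalizationAtPrimeIsoLocalization (Submonoid.powers f) Q.asIdeal).symm.toRingEquiv)

end Groth.Agent.EGA4Lib
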