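import Groth.Agent.EGA4Lib.Rk
import Groth.Agent.Dim.LocalHom
import Groth.Agent.RegLoc.Homological
import Groth.Agent.RegLoc.Basic
import Mathlib.RingTheory.RingHom.Flat
import Mathlib.RingTheory.Flat.FaithfullyFlat.Algebra
import Mathlib.RingTheory.Ideal.GoingDown

/-!
# Ascent and descent of regularity and `(R_k)` along flat maps
-/

set_option autoImplicit false
set_option linter.style.haveILetI false

open IsLocalRing

namespace Groth.Agent.EGA4Lib

universe u

/-- A flat local map with regular base and regular closed fibre has regular target. -/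
theorem isRegularLocalRing_of_fibre (A B : Type u) [CommRing A] [CommRing B] [IsRegularLocalRing A]
    [IsNoetherianRing B] [IsLocalRing B] [Algebra A B] [IsLocalHom (algebraMap A B)] [Module.Flat A B]
    [hF : IsRegularLocalRing (B ⧸ (maximalIdeal A).map (algebraMap A B))] : IsRegularLocalRing B := by
  refine IsRegularLocalRing.of_spanFinrank_maximalIdeal_le B ?_
  haveI : IsLocalRing (B ⧸ (maximalIdeal A).map (algebraMap A B)) := inferInstance
  have h1 := RegLoc.spanFinrank_maximalIdeal_le_quotient_add ((maximalIdeal A).map (algebraMap A B))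
  have h2 := Ideal.spanFinrank_map_le_of_fg (algebraMap A B) (IsNoetherian.noetherian (maximalIdeal A))
  have h3 := (isRegularLocalRing_iff _).mp hF
  have h4 := (isRegularLocalRing_iff A).mp inferInstance
  rw [Groth.Agent.Dim.ringKrullDim_eq_add_fibre A B, ← h3, ← h4]
  exact_mod_cast h1.trans (by omega)

variable {A B : Type u} [CommRing A] [CommRing B] [IsNoetherianRing A] [IsNoetherianRing B]
  [Algebra A B] [Module.Flat A B]

omit [IsNoetherianRing A] [IsNoetherianRing B] in
theorem flat_localRingHom (q : Ideal B) [q.IsPrime] (p : Ideal A) [p.IsPrime]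
    (hp : p = q.comap (algebraMap A B)) :
    (Localization.localRingHom p q (algebraMap A B) hp).Flat :=
  RingHom.Flat.localRingHom (RingHom.flat_algebraMap_iff.2 inferInstance) q p hp

theorem hasRkAt_descent (k : ℕ) (q : Ideal B) [q.IsPrime] (h : EGA4.HasRkAt k B q) :
    EGA4.HasRkAt k A (q.comap (algebraMap A B)) := by
  rw [hasRkAt_iff] at h ⊢
  intro Q hQ hk
  haveI : q.LiesOver (q.comap (algebraMap A B)) := ⟨rfl⟩
  obtain ⟨P, hPq, hPprime, hPover⟩ := Ideal.exists_ideal_le_liesOver_of_le (p := Q.asIdeal) q hQ
  obtain ⟨q', hq', hq'P⟩ := Ideal.exists_minimalPrimes_le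
    (show Q.asIdeal.map (algebraMap A B) ≤ P from Ideal.map_le_iff_le_comap.2 hPover.over.le)
  haveI := hq'.1.1
  have hover : Q.asIdeal = q'.comap (algebraMap A B) :=
    le_antisymm (Ideal.map_le_iff_le_comap.1 hq'.1.2)
      ((Ideal.comap_mono hq'P).trans hPover.over.ge)
  haveI : q'.LiesOver Q.asIdeal := ⟨hover⟩
  have hht : q'.height ≤ k := by
    rw [Ideal.height_eq_height_add_of_liesOver_of_hasGoingDown Q.asIdeal q']
    haveI : (q'.map (Ideal.Quotient.mk (Q.asIdeal.map (algebraMap A B)))).IsPrime :=
      Ideal.map_isPrime_of_surjective Ideal.Quotient.mk_surjective (by rw [Ideal.mk_ker]; exact hq'.1.2)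
    rw [(Ideal.height_eq_zero_iff (I := q'.map (Ideal.Quotient.mk (Q.asIdeal.map (algebraMap A B))))).2 ?_, add_zero]
    · exact hk
    · refine ⟨⟨inferInstance, bot_le⟩, fun r hr hle => ?_⟩
      haveI := hr.1
      have h1 : q' ≤ r.comap (Ideal.Quotient.mk (Q.asIdeal.map (algebraMap A B))) := by
        refine hq'.2 ⟨inferInstance, fun a ha => ?_⟩ ((Ideal.comap_mono hle).trans_eq ?_)
        · simp [Ideal.Quotient.eq_zero_iff_mem.2 ha]
        · rw [Ideal.comap_map_of_surjective' _ Ideal.Quotient.mk_surjective, Ideal.mk_ker,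
            sup_eq_left.2 hq'.1.2]
      rw [Ideal.map_le_iff_le_comap]
      exact h1
  haveI : IsRegularLocalRing (Localization.AtPrime q') :=
    h ⟨q', inferInstance⟩ (hq'P.trans hPq) hht
  letI : Algebra (Localization.AtPrime Q.asIdeal) (Localization.AtPrime q') :=
    (Localization.localRingHom Q.asIdeal q' (algebraMap A B) hover).toAlgebra
  haveI : IsLocalHom (algebraMap (Localization.AtPrime Q.asIdeal) (Localization.AtPrime q')) :=
    Localization.isLocalHom_localRingHom _ _ _ hover
  haveI : Module.Flat (Localization.AtPrime Q.asIdeal) (Localization.AtPrime q') :=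
    RingHom.flat_algebraMap_iff.1 (flat_localRingHom q' Q.asIdeal hover)
  exact RegLoc.Homological.isRegularLocalRing_of_flat (Localization.AtPrime q')

theorem hasRkAt_ascent (k : ℕ)
    (hfib : ∀ (q : Ideal B) [q.IsPrime], LocCoh.HasRk k (EGA4.FibLocRing A B q))
    (q : Ideal B) [q.IsPrime] (hA : EGA4.HasRkAt k A (q.comap (algebraMap A B))) :
    EGA4.HasRkAt k B q := by
  rw [hasRkAt_iff] at hA ⊢
  rintro ⟨q', hq'⟩ hle hk
  set p := q'.comap (algebraMap A B) with hp
  haveI : q'.LiesOver p := ⟨rfl⟩
  have hpk : p.height ≤ k := by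
    rw [Ideal.height_eq_height_add_of_liesOver_of_hasGoingDown p q'] at hk
    exact le_trans le_self_add hk
  haveI : IsRegularLocalRing (Localization.AtPrime p) :=
    hA ⟨p, inferInstance⟩ (Ideal.comap_mono hle) hpk
  letI : Algebra (Localization.AtPrime p) (Localization.AtPrime q') :=
    (Localization.localRingHom p q' (algebraMap A B) rfl).toAlgebra
  haveI : IsLocalHom (algebraMap (Localization.AtPrime p) (Localization.AtPrime q')) :=
    Localization.isLocalHom_localRingHom _ _ _ rfl
  haveI : Module.Flat (Localization.AtPrime p) (Localization.AtPrime q') :=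
    RingHom.flat_algebraMap_iff.1 (flat_localRingHom q' p rfl)
  have heq : p.map (algebraMap A (Localization.AtPrime q')) =
      (maximalIdeal (Localization.AtPrime p)).map
        (algebraMap (Localization.AtPrime p) (Localization.AtPrime q')) := by
    rw [← Localization.AtPrime.map_eq_maximalIdeal, Ideal.map_map]
    congr 1
    ext a
    rw [RingHom.comp_apply, RingHom.algebraMap_toAlgebra, Localization.localRingHom_to_map,
      ← IsScalarTower.algebraMap_apply]
  haveI : Nontrivial (EGA4.FibLocRing A B q') := by
    refine Ideal.Quotient.nontrivial_iff.2 (ne_top_of_le_ne_top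
      (maximalIdeal.isMaximal (Localization.AtPrime q')).ne_top ?_)
    show p.map (algebraMap A (Localization.AtPrime q')) ≤ _
    rw [heq]
    exact map_maximalIdeal_le _
  haveI : IsLocalRing (EGA4.FibLocRing A B q') :=
    IsLocalRing.of_surjective' (Ideal.Quotient.mk _) Ideal.Quotient.mk_surjective
  have hh : (maximalIdeal (EGA4.FibLocRing A B q')).height ≤ k := by
    have h1 : ringKrullDim (EGA4.FibLocRing A B q') ≤ (k : WithBot ℕ∞) := by
      refine (ringKrullDim_quotient_le _).trans ?_
      rw [IsLocalization.AtPrime.ringKrullDim_eq_height q' (Localization.AtPrime q')]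
      exact_mod_cast hk
    rw [← maximalIdeal_height_eq_ringKrullDim] at h1
    exact_mod_cast h1
  haveI : IsRegularLocalRing (Localization.AtPrime (maximalIdeal (EGA4.FibLocRing A B q'))) :=
    hfib q' _ hh
  haveI : IsRegularLocalRing (EGA4.FibLocRing A B q') :=
    IsRegularLocalRing.of_ringEquiv (R := Localization.AtPrime (maximalIdeal (EGA4.FibLocRing A B q')))
      (IsLocalization.atUnits (EGA4.FibLocRing A B q')
      (maximalIdeal (EGA4.FibLocRing A B q')).primeCompl
      (S := Localization.AtPrime (maximalIdeal (EGA4.FibLocRing A B q')))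
      (fun x hx => IsLocalRing.notMem_maximalIdeal.1 hx)).symm.toRingEquiv
  haveI : IsRegularLocalRing (Localization.AtPrime q' ⧸
      (maximalIdeal (Localization.AtPrime p)).map
        (algebraMap (Localization.AtPrime p) (Localization.AtPrime q'))) :=
    IsRegularLocalRing.of_ringEquiv (R := EGA4.FibLocRing A B q') (Ideal.quotEquivOfEq heq)
  exact isRegularLocalRing_of_fibre (Localization.AtPrime p) (Localization.AtPrime q')

end Groth.Agent.EGA4Lib
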