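import Groth.Agent.RegLoc.Completion
import Groth.Agent.LocFlat.Basic
import Mathlib.RingTheory.AdicCompletion.RingHom
import Mathlib.RingTheory.AdicCompletion.LocalRing

/-!
# The completion of a flat local homomorphism is flat (EGA 0_I 6.6.?, IV 7.3)
-/

set_option autoImplicit false
set_option linter.style.haveILetI false

universe u

open TensorProduct IsLocalRing

namespace Groth.Agent.EGA4Lib

variable (A B : Type u) [CommRing A] [CommRing B] [IsLocalRing A] [IsLocalRing B]
  [IsNoetherianRing A] [IsNoetherianRing B] [Algebra A B] [IsLocalHom (algebraMap A B)]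

local notation "Â" => AdicCompletion (maximalIdeal A) A
local notation "B̂" => AdicCompletion (maximalIdeal B) B

theorem map_maximalIdeal_cpl_le :
    (maximalIdeal A).map (algebraMap A B̂) ≤ maximalIdeal B̂ := by
  rw [AdicCompletion.maximalIdeal_eq_map (R := B), IsScalarTower.algebraMap_eq A B B̂, ← Ideal.map_map]
  exact Ideal.map_mono (((local_hom_TFAE (algebraMap A B)).out 0 2 rfl rfl).mp ‹_›)

theorem exists_algebra_cpl :
    ∃ _ : Algebra Â B̂, IsScalarTower A Â B̂ ∧ IsLocalHom (algebraMap Â B̂) := by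
  let C := B̂
  haveI : IsAdicComplete (maximalIdeal C) C := inferInstance
  have hpow : ∀ n, maximalIdeal A ^ n ≤ (maximalIdeal C ^ n).comap (Algebra.ofId A C) := fun n => by
    rw [← Ideal.map_le_iff_le_comap, Ideal.map_pow]
    exact Ideal.pow_right_mono (map_maximalIdeal_cpl_le A B) n
  let f : (n : ℕ) → Â →ₐ[A] C ⧸ (maximalIdeal C) ^ n := fun n =>
    (Ideal.quotientMapₐ ((maximalIdeal C) ^ n) (Algebra.ofId A C) (hpow n)).comp
      (AdicCompletion.evalₐ (maximalIdeal A) n)
  have hc : ∀ {a b : ℕ} (hab : a ≤ b),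
      (Ideal.Quotient.factorPow (maximalIdeal C) hab).comp (f b).toRingHom = (f a).toRingHom := by
    intro a b hab
    ext x
    obtain ⟨y, rfl⟩ := AdicCompletion.mk_surjective (maximalIdeal A) _ x
    simp only [f, RingHom.coe_comp, AlgHom.toRingHom_eq_coe, RingHom.coe_coe, AlgHom.coe_comp,
      Function.comp_apply, AdicCompletion.evalₐ_mk]
    simp only [Ideal.quotient_map_mkₐ, Ideal.Quotient.mkₐ_eq_mk, Ideal.Quotient.factor_mk]
    rw [Ideal.Quotient.eq, ← map_sub]
    refine hpow a ?_
    have := y.2 hab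
    rw [SModEq.sub_mem, smul_eq_mul, Ideal.mul_top] at this
    rw [← neg_sub, neg_mem_iff]
    exact this
  let g := IsAdicComplete.liftRingHom (maximalIdeal C) (fun n => (f n).toRingHom) hc
  have hg : ∀ a, g (algebraMap A Â a) = algebraMap A C a := fun a => by
    refine sub_eq_zero.1 (IsHausdorff.haus (I := maximalIdeal C) inferInstance _ fun n => ?_)
    rw [SModEq.zero, smul_eq_mul, Ideal.mul_top, ← Ideal.Quotient.eq]
    show (Ideal.Quotient.mk _) (g _) = _
    rw [IsAdicComplete.mk_liftRingHom]
    show f n (algebraMap A Â a) = _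
    rw [AlgHom.commutes]
    rfl
  letI := g.toAlgebra
  haveI : IsScalarTower A Â C := IsScalarTower.of_algebraMap_eq fun a => (hg a).symm
  refine ⟨g.toAlgebra, inferInstance, ((local_hom_TFAE (algebraMap Â C)).out 0 2 rfl rfl).mpr ?_⟩
  rw [AdicCompletion.maximalIdeal_eq_map (R := A), Ideal.map_map, ← IsScalarTower.algebraMap_eq]
  exact map_maximalIdeal_cpl_le A B

theorem flat_cpl [Algebra Â B̂] [IsScalarTower A Â B̂] [Module.Flat A B] : Module.Flat Â B̂ := by
  haveI : IsNoetherianRing Â := RegLoc.Completion.isNoetherianRing_adicCompletion' _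
  haveI : IsNoetherianRing B̂ := RegLoc.Completion.isNoetherianRing_adicCompletion' _
  haveI : Module.Flat A B̂ := Module.Flat.trans A B B̂
  refine LocFlat.flat_of_forall_pow (S := B̂) B̂ (maximalIdeal Â) ?_ fun n M N _ _ _ _ a ha hN => ?_
  · rw [IsLocalRing.jacobson_eq_maximalIdeal (⊥ : Ideal B̂) bot_ne_top, AdicCompletion.maximalIdeal_eq_map (R := A),
      Ideal.map_map, ← IsScalarTower.algebraMap_eq]
    exact map_maximalIdeal_cpl_le A B
  letI : Module A M := Module.compHom M (algebraMap A Â)
  letI : Module A N := Module.compHom N (algebraMap A Â)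
  haveI : IsScalarTower A Â M := ⟨fun x y z => by
    show (x • y) • z = algebraMap A Â x • y • z
    rw [Algebra.smul_def, mul_smul]⟩
  haveI : IsScalarTower A Â N := ⟨fun x y z => by
    show (x • y) • z = algebraMap A Â x • y • z
    rw [Algebra.smul_def, mul_smul]⟩
  have hzero : ∀ (X : Type u) [AddCommGroup X] [Module Â X], maximalIdeal Â ^ n • (⊤ : Submodule Â X) = ⊥ →
      ∀ μ ∈ maximalIdeal Â ^ n, ∀ x : X, μ • x = 0 := fun X _ _ hX μ hμ x => by
    rw [← Submodule.mem_bot Â, ← hX]
    exact Submodule.smul_mem_smul hμ trivial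
  have hM : maximalIdeal Â ^ n • (⊤ : Submodule Â M) = ⊥ := by
    rw [eq_bot_iff, Submodule.smul_le]
    intro μ hμ x _
    rw [Submodule.mem_bot]
    exact ha (by rw [map_smul, hzero N hN μ hμ, map_zero])
  have hcompat : ∀ (X : Type u) [AddCommGroup X] [Module Â X] [Module A X] [IsScalarTower A Â X],
      maximalIdeal Â ^ n • (⊤ : Submodule Â X) = ⊥ → TensorProduct.CompatibleSMul A Â X B̂ :=
    fun X _ _ _ _ hX => ⟨fun α x b => by
      obtain ⟨a₀, ha₀⟩ : ∃ a₀ : A, α - algebraMap A Â a₀ ∈ maximalIdeal Â ^ n := by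
        obtain ⟨a₀, ha₀⟩ := Submodule.mkQ_surjective _ (AdicCompletion.eval (maximalIdeal A) A n α)
        refine ⟨a₀, ?_⟩
        have hk : α - algebraMap A Â a₀ ∈ (maximalIdeal A ^ n • ⊤ : Submodule A Â) := by
          rw [AdicCompletion.pow_smul_top_eq_ker_eval (IsNoetherian.noetherian _), LinearMap.mem_ker,
            map_sub, sub_eq_zero, ← ha₀]
          rfl
        rw [Ideal.smul_top_eq_map, Submodule.restrictScalars_mem, Ideal.map_pow,
          ← AdicCompletion.maximalIdeal_eq_map] at hk
        exact hk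
      have key : x ⊗ₜ[A] ((α - algebraMap A Â a₀) • b) = 0 := by
        have hmem : (α - algebraMap A Â a₀) • b ∈ (maximalIdeal A ^ n • ⊤ : Submodule A B̂) := by
          rw [Ideal.smul_top_eq_map, Submodule.restrictScalars_mem, IsScalarTower.algebraMap_eq A Â B̂,
            ← Ideal.map_map, Ideal.map_pow, ← AdicCompletion.maximalIdeal_eq_map (R := A), Algebra.smul_def]
          exact Ideal.mul_mem_right _ _ (Ideal.mem_map_of_mem _ ha₀)
        refine Submodule.smul_induction_on hmem (fun r hr b' _ => ?_) fun u v hu hv => by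
          rw [TensorProduct.tmul_add, hu, hv, add_zero]
        rw [← TensorProduct.smul_tmul, ← algebraMap_smul Â r x,
          hzero X hX (algebraMap A Â r) (by
            rw [AdicCompletion.maximalIdeal_eq_map (R := A), ← Ideal.map_pow]
            exact Ideal.mem_map_of_mem _ hr) x, TensorProduct.zero_tmul]
      rw [sub_smul, algebraMap_smul, TensorProduct.tmul_sub, sub_eq_zero] at key
      rw [key, ← TensorProduct.smul_tmul]
      congr 1
      rw [← sub_eq_zero, ← algebraMap_smul Â a₀ x, ← sub_smul, hzero X hX _ ha₀]⟩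
  haveI := hcompat M hM
  haveI := hcompat N hN
  let eM := TensorProduct.equivOfCompatibleSMul A Â A M B̂
  let eN := TensorProduct.equivOfCompatibleSMul A Â A N B̂
  intro z w hzw
  have h1 : ∀ z, eN (a.rTensor B̂ z) = (a.restrictScalars A).rTensor B̂ (eM z) := fun z => by
    induction z using TensorProduct.induction_on with
    | zero => simp only [map_zero]
    | tmul x b => rfl
    | add u v hu hv => simp only [map_add, hu, hv]
  exact eM.injective (Module.Flat.rTensor_preserves_injective_linearMap (M := B̂) (a.restrictScalars A) ha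
    ((h1 z).symm.trans ((congrArg eN hzw).trans (h1 w))))

end Groth.Agent.EGA4Lib
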