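import Groth.Prelude.Def_EGA4b
import Groth.Prelude.Def_Found
import Mathlib.RingTheory.AdicCompletion.AsTensorProduct
import Mathlib.RingTheory.AdicCompletion.Algebra
import Mathlib.RingTheory.LocalRing.ResidueField.Fiber
import Mathlib.RingTheory.Nilpotent.GeometricallyReduced

/-!
# Fibres of base changes; completions of quotients (EGA IV 7.3, 7.4)
-/

set_option autoImplicit false
set_option linter.style.haveILetI false

universe u

open TensorProduct

namespace Groth.Agent.EGA4Lib

theorem isNormalRing_of_ringEquiv {R R' : Type u} [CommRing R] [CommRing R'] (e : R ≃+* R')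
    (h : EGA4.IsNormalRing R) : EGA4.IsNormalRing R' := by
  intro q _
  let f := IsLocalization.ringEquivOfRingEquiv (M := (q.comap e.toRingHom).primeCompl)
    (T := q.primeCompl) (Localization.AtPrime (q.comap e.toRingHom)) (Localization.AtPrime q) e (by
      ext x
      exact ⟨fun ⟨y, hy, hyx⟩ => hyx ▸ hy, fun hx => ⟨e.symm x, by
        show e (e.symm x) ∉ q
        rwa [e.apply_symm_apply], e.apply_symm_apply x⟩⟩)
  haveI := (h (q.comap e.toRingHom)).1
  haveI := (h (q.comap e.toRingHom)).2
  exact ⟨f.symm.toMulEquiv.isDomain _, IsIntegrallyClosed.of_equiv f⟩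

theorem isNormalRing_of_isLocalization {R R' : Type u} [CommRing R] [CommRing R'] [Algebra R R']
    (M : Submonoid R) [IsLocalization M R'] (h : EGA4.IsNormalRing R) : EGA4.IsNormalRing R' := by
  intro q _
  haveI : IsLocalization.AtPrime (Localization.AtPrime q) (q.comap (algebraMap R R')) :=
    IsLocalization.isLocalization_isLocalization_atPrime_isLocalization (M := M) (Localization.AtPrime q) q
  let f := (IsLocalization.algEquiv (q.comap (algebraMap R R')).primeCompl
    (Localization.AtPrime (q.comap (algebraMap R R'))) (Localization.AtPrime q)).toRingEquiv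
  haveI := (h (q.comap (algebraMap R R'))).1
  haveI := (h (q.comap (algebraMap R R'))).2
  exact ⟨f.symm.toMulEquiv.isDomain _, IsIntegrallyClosed.of_equiv f⟩

section bc

variable (k K : Type u) [Field k] [Field K] [Algebra k K] (S : Type u) [CommRing S] [Algebra k S]

theorem isGeomNormal_baseChange [Module.Finite k K] (h : EGA4.IsGeomNormal k S) :
    EGA4.IsGeomNormal K (K ⊗[k] S) := by
  intro K' _ _ hfin
  letI : Algebra k K' := ((algebraMap K K').comp (algebraMap k K)).toAlgebra
  haveI : IsScalarTower k K K' := IsScalarTower.of_algebraMap_eq fun _ => rfl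
  exact isNormalRing_of_ringEquiv
    (Algebra.TensorProduct.cancelBaseChange k K K' K' S).symm.toRingEquiv
    (h K' (Module.Finite.trans K K'))

theorem isGeometricallyRegular_baseChange [Module.Finite k K] (h : CAlg.IsGeometricallyRegular k S) :
    CAlg.IsGeometricallyRegular K (K ⊗[k] S) := by
  intro K' _ _ hfin
  letI : Algebra k K' := ((algebraMap K K').comp (algebraMap k K)).toAlgebra
  haveI : IsScalarTower k K K' := IsScalarTower.of_algebraMap_eq fun _ => rfl
  haveI := h K' (Module.Finite.trans K K')
  exact IsRegularRing.of_ringEquiv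
    (Algebra.TensorProduct.cancelBaseChange k K K' K' S).symm.toRingEquiv

theorem isGeometricallyReduced_baseChange [Algebra.IsAlgebraic k K]
    [Algebra.IsGeometricallyReduced k S] : Algebra.IsGeometricallyReduced K (K ⊗[k] S) := by
  rw [Algebra.isGeometricallyReduced_field_iff]
  haveI : Algebra.IsAlgebraic k (AlgebraicClosure K) := Algebra.IsAlgebraic.trans k K (AlgebraicClosure K)
  exact isReduced_of_injective (Algebra.TensorProduct.cancelBaseChange k K K (AlgebraicClosure K) S)
    (AlgEquiv.injective _)

omit [Field K] [Algebra k K] in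
theorem isGeometricallyRegular_congr {S' : Type u} [CommRing S'] [Algebra k S'] (f : S ≃ₐ[k] S')
    (h : CAlg.IsGeometricallyRegular k S) : CAlg.IsGeometricallyRegular k S' := fun K' _ _ hfin =>
  haveI := h K' hfin
  IsRegularRing.of_ringEquiv (Algebra.TensorProduct.congr (AlgEquiv.refl (R := k) (A₁ := K')) f).toRingEquiv

omit [Field K] [Algebra k K] in
theorem isGeomNormal_congr {S' : Type u} [CommRing S'] [Algebra k S'] (f : S ≃ₐ[k] S')
    (h : EGA4.IsGeomNormal k S) : EGA4.IsGeomNormal k S' := fun K' _ _ hfin =>
  isNormalRing_of_ringEquiv (Algebra.TensorProduct.congr (AlgEquiv.refl (R := k) (A₁ := K')) f).toRingEquiv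
    (h K' hfin)

theorem nonempty_ringEquiv_of_surjective (hs : Function.Surjective (algebraMap k K)) :
    Nonempty (S ≃+* K ⊗[k] S) := by
  let f : k ≃ₐ[k] K := AlgEquiv.ofBijective (Algebra.ofId k K) ⟨(algebraMap k K).injective, hs⟩
  exact ⟨(Algebra.TensorProduct.lid k S).symm.toRingEquiv.trans
    (Algebra.TensorProduct.congr f AlgEquiv.refl).toRingEquiv⟩

end bc

section fibre

variable {A A' : Type u} [CommRing A] [CommRing A'] [Algebra A A'] {B B' : Type u} [CommRing B]
  [CommRing B'] [Algebra A B] [Algebra A' B']

/-- The residue field at `p'` is an algebra over the residue field at `p' ∩ A`. -/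
@[implicit_reducible]
noncomputable def residueAlgebra (p' : Ideal A') [p'.IsPrime] :
    Algebra (p'.comap (algebraMap A A')).ResidueField p'.ResidueField :=
  (Ideal.ResidueField.map (p'.comap (algebraMap A A')) p' (algebraMap A A') rfl).toAlgebra

theorem residueAlgebra_isScalarTower (p' : Ideal A') [p'.IsPrime] :
    letI := residueAlgebra (A := A) p'
    IsScalarTower A (p'.comap (algebraMap A A')).ResidueField p'.ResidueField := by
  letI := residueAlgebra (A := A) p'
  refine IsScalarTower.of_algebraMap_eq fun a => ?_
  rw [RingHom.algebraMap_toAlgebra, IsScalarTower.algebraMap_apply A A' p'.ResidueField]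
  exact (Ideal.ResidueField.map_algebraMap _ _ _ _ _).symm

/-- The fibre of a base change is the base change of the fibre. -/
theorem nonempty_fiber_baseChange (e : B' ≃ₐ[A'] A' ⊗[A] B) (p' : Ideal A') [p'.IsPrime] :
    letI := residueAlgebra (A := A) p'
    Nonempty (p'.Fiber B' ≃ₐ[p'.ResidueField]
      p'.ResidueField ⊗[(p'.comap (algebraMap A A')).ResidueField]
        ((p'.comap (algebraMap A A')).Fiber B)) := by
  letI := residueAlgebra (A := A) p'
  haveI := residueAlgebra_isScalarTower (A := A) p'
  exact ⟨((Algebra.TensorProduct.congr (AlgEquiv.refl (R := p'.ResidueField)) e).trans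
    (Algebra.TensorProduct.cancelBaseChange A A' p'.ResidueField p'.ResidueField B)).trans
    (Algebra.TensorProduct.cancelBaseChange A (p'.comap (algebraMap A A')).ResidueField p'.ResidueField
      p'.ResidueField B).symm⟩

variable (A A') in
/-- Hypothesis: every element of `A'` is a quotient of elements coming from `A`. -/
def IsQuotLike : Prop :=
  ∀ x : A', ∃ a s : A, IsUnit (algebraMap A A' s) ∧ x * algebraMap A A' s = algebraMap A A' a

theorem isQuotLike_of_surjective (h : Function.Surjective (algebraMap A A')) : IsQuotLike A A' :=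
  fun x => by
    obtain ⟨a, rfl⟩ := h x
    exact ⟨a, 1, by rw [map_one]; exact isUnit_one, by rw [map_one, mul_one]⟩

theorem isQuotLike_of_isLocalization (M : Submonoid A) [IsLocalization M A'] : IsQuotLike A A' :=
  fun x => by
    obtain ⟨⟨a, s⟩, h⟩ := IsLocalization.surj M x
    exact ⟨a, s, IsLocalization.map_units A' s, h⟩

theorem residue_surjective (h : IsQuotLike A A') (p' : Ideal A') [p'.IsPrime] :
    letI := residueAlgebra (A := A) p'
    Function.Surjective (algebraMap (p'.comap (algebraMap A A')).ResidueField p'.ResidueField) := by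
  letI := residueAlgebra (A := A) p'
  haveI := residueAlgebra_isScalarTower (A := A) p'
  have key : ∀ x : A', ∃ y, algebraMap (p'.comap (algebraMap A A')).ResidueField p'.ResidueField y =
      algebraMap A' p'.ResidueField x := fun x => by
    obtain ⟨a, s, hs, hx⟩ := h x
    refine ⟨algebraMap A _ a / algebraMap A _ s, ?_⟩
    rw [map_div₀, ← IsScalarTower.algebraMap_apply, ← IsScalarTower.algebraMap_apply,
      IsScalarTower.algebraMap_apply A A' p'.ResidueField a, ← hx, map_mul,
      IsScalarTower.algebraMap_apply A A' p'.ResidueField s,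
      mul_div_assoc, div_self (hs.map (algebraMap A' p'.ResidueField)).ne_zero, mul_one]
  intro z
  obtain ⟨x, y, -, rfl⟩ := IsFractionRing.div_surjective (A' ⧸ p') z
  obtain ⟨x, rfl⟩ := Ideal.Quotient.mk_surjective x
  obtain ⟨y, rfl⟩ := Ideal.Quotient.mk_surjective y
  obtain ⟨a, ha⟩ := key x
  obtain ⟨b, hb⟩ := key y
  refine ⟨a / b, ?_⟩
  rw [map_div₀, ha, hb]
  rfl

theorem finite_residue (h : IsQuotLike A A') (p' : Ideal A') [p'.IsPrime] :
    letI := residueAlgebra (A := A) p'
    Module.Finite (p'.comap (algebraMap A A')).ResidueField p'.ResidueField := by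
  letI := residueAlgebra (A := A) p'
  exact Module.Finite.of_surjective (Algebra.linearMap _ _) (residue_surjective h p')

variable (h : IsQuotLike A A') (e : B' ≃ₐ[A'] A' ⊗[A] B)
include h e

theorem nonempty_fiber_ringEquiv (p' : Ideal A') [p'.IsPrime] :
    Nonempty ((p'.comap (algebraMap A A')).Fiber B ≃+* p'.Fiber B') := by
  letI := residueAlgebra (A := A) p'
  obtain ⟨f⟩ := nonempty_fiber_baseChange e p'
  obtain ⟨g⟩ := nonempty_ringEquiv_of_surjective (p'.comap (algebraMap A A')).ResidueField
    p'.ResidueField ((p'.comap (algebraMap A A')).Fiber B) (residue_surjective h p')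
  exact ⟨g.trans f.symm.toRingEquiv⟩

theorem isGeomNormal_fiber (p' : Ideal A') [p'.IsPrime]
    (hg : EGA4.IsGeomNormal (p'.comap (algebraMap A A')).ResidueField ((p'.comap (algebraMap A A')).Fiber B)) :
    EGA4.IsGeomNormal p'.ResidueField (p'.Fiber B') := by
  letI := residueAlgebra (A := A) p'
  haveI := finite_residue h p'
  obtain ⟨f⟩ := nonempty_fiber_baseChange e p'
  exact isGeomNormal_congr p'.ResidueField _ f.symm (isGeomNormal_baseChange
    (p'.comap (algebraMap A A')).ResidueField p'.ResidueField _ hg)

theorem isGeometricallyRegular_fiber (p' : Ideal A') [p'.IsPrime]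
    (hg : CAlg.IsGeometricallyRegular (p'.comap (algebraMap A A')).ResidueField
      ((p'.comap (algebraMap A A')).Fiber B)) :
    CAlg.IsGeometricallyRegular p'.ResidueField (p'.Fiber B') := by
  letI := residueAlgebra (A := A) p'
  haveI := finite_residue h p'
  obtain ⟨f⟩ := nonempty_fiber_baseChange e p'
  exact isGeometricallyRegular_congr p'.ResidueField _ f.symm (isGeometricallyRegular_baseChange
    (p'.comap (algebraMap A A')).ResidueField p'.ResidueField _ hg)

theorem isGeometricallyReduced_fiber (p' : Ideal A') [p'.IsPrime]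
    (hg : Algebra.IsGeometricallyReduced (p'.comap (algebraMap A A')).ResidueField
      ((p'.comap (algebraMap A A')).Fiber B)) :
    Algebra.IsGeometricallyReduced p'.ResidueField (p'.Fiber B') := by
  letI := residueAlgebra (A := A) p'
  haveI := finite_residue h p'
  obtain ⟨f⟩ := nonempty_fiber_baseChange e p'
  haveI := isGeometricallyReduced_baseChange (p'.comap (algebraMap A A')).ResidueField p'.ResidueField
    ((p'.comap (algebraMap A A')).Fiber B)
  exact Algebra.IsGeometricallyReduced.of_injective f.toAlgHom f.injective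

omit h in
theorem flat_of_baseChange [Module.Flat A B] : Module.Flat A' B' :=
  Module.Flat.of_linearEquiv e.toLinearEquiv

theorem isNormalHom_baseChange (hn : EGA4.IsNormalHom A B) : EGA4.IsNormalHom A' B' :=
  haveI := hn.1
  ⟨flat_of_baseChange e, fun p' _ => isGeomNormal_fiber h e p' (hn.2 _)⟩

theorem isRegularHom_baseChange (hn : CAlg.IsRegularHom A B) : CAlg.IsRegularHom A' B' :=
  haveI := hn.1
  ⟨flat_of_baseChange e, fun p' _ => by
    obtain ⟨g⟩ := nonempty_fiber_ringEquiv h e p'
    haveI := (hn.2 (p'.comap (algebraMap A A'))).1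
    exact ⟨isNoetherianRing_of_ringEquiv _ g, isGeometricallyRegular_fiber h e p' (hn.2 _).2⟩⟩

end fibre

section completion

variable {A : Type u} [CommRing A] [IsNoetherianRing A] (J : Ideal A) (B : Type u) [CommRing B]
  [Algebra A B] (hs : Function.Surjective (algebraMap A B)) (J' : Ideal B)
  (hJ : J' = J.map (algebraMap A B))
include hs hJ

/-- The completion of a quotient is the quotient of the completion. -/
theorem nonempty_adicCompletion_quotient :
    Nonempty (AdicCompletion J' B ≃ₐ[B] B ⊗[A] AdicCompletion J A) := by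
  haveI : Module.Finite A B := Module.Finite.of_surjective (Algebra.linearMap A B) hs
  have hpow : ∀ n, (J ^ n • (⊤ : Submodule A B)) = (J' ^ n).restrictScalars A := fun n => by
    rw [Ideal.smul_top_eq_map, Ideal.map_pow, hJ]
  let G : ∀ n, (B ⧸ (J ^ n • (⊤ : Submodule A B))) →ₗ[A] B ⧸ J' ^ n := fun n =>
    Submodule.liftQ _ (Ideal.Quotient.mkₐ A (J' ^ n)).toLinearMap fun x hx =>
      Ideal.Quotient.eq_zero_iff_mem.2 (by rw [hpow n] at hx; exact hx)
  have hG : ∀ n, Function.Bijective (G n) := fun n => by
    refine ⟨(injective_iff_map_eq_zero _).2 fun x hx => ?_, fun y => ?_⟩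
    · obtain ⟨x, rfl⟩ := Submodule.Quotient.mk_surjective _ x
      rw [Submodule.Quotient.mk_eq_zero, hpow]
      exact Ideal.Quotient.eq_zero_iff_mem.1 hx
    · obtain ⟨y, rfl⟩ := Ideal.Quotient.mk_surjective y
      exact ⟨Submodule.Quotient.mk y, rfl⟩
  let q : ∀ n, A ⧸ J ^ n →ₐ[A] B ⧸ J' ^ n := fun n =>
    Ideal.quotientMapₐ (J' ^ n) (Algebra.ofId A B) (Ideal.map_le_iff_le_comap.1 (by
      show Ideal.map (algebraMap A B) (J ^ n) ≤ _
      rw [Ideal.map_pow, hJ]))
  let φ : AdicCompletion J A →ₐ[A] AdicCompletion J' B :=
    AdicCompletion.liftAlgHom J' (fun n => (q n).comp (AdicCompletion.evalₐ J n)) (by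
      intro m n hle
      ext x
      induction x using AdicCompletion.induction_on with
      | _ a =>
        simp only [AlgHom.comp_apply, AdicCompletion.evalₐ_mk]
        show Ideal.Quotient.mk (J' ^ m) (algebraMap A B (a n)) = Ideal.Quotient.mk (J' ^ m) (algebraMap A B (a m))
        refine Ideal.Quotient.eq.2 ?_
        rw [← map_sub, hJ, ← Ideal.map_pow]
        refine Ideal.mem_map_of_mem _ ?_
        have := SModEq.sub_mem.1 (a.2 hle).symm
        simpa using this)
  let ψ : B ⊗[A] AdicCompletion J A →ₐ[B] AdicCompletion J' B :=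
    Algebra.TensorProduct.lift (Algebra.ofId B _) φ fun _ _ => mul_comm _ _
  let T : B ⊗[A] AdicCompletion J A ≃ₗ[A] AdicCompletion J B :=
    (TensorProduct.comm A _ _).trans
      ((AdicCompletion.ofTensorProductEquivOfFiniteNoetherian J B).restrictScalars A)
  have key : ∀ t n, AdicCompletion.evalₐ J' n (ψ t) = G n (AdicCompletion.eval J B n (T t)) := by
    intro t n
    induction t using TensorProduct.induction_on with
    | zero => simp
    | add x y hx hy => simp [hx, hy]
    | tmul b x =>
      induction x using AdicCompletion.induction_on with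
      | _ a =>
        have h1 : AdicCompletion.evalₐ J' n (ψ (b ⊗ₜ AdicCompletion.mk J A a)) =
            Ideal.Quotient.mk (J' ^ n) b * Ideal.Quotient.mk (J' ^ n) (algebraMap A B (a n)) := by
          simp only [ψ, Algebra.TensorProduct.lift_tmul, map_mul, φ, AdicCompletion.evalₐ_liftAlgHom,
            AlgHom.comp_apply, AdicCompletion.evalₐ_mk]
          rfl
        have h2 : AdicCompletion.eval J B n (T (b ⊗ₜ AdicCompletion.mk J A a)) =
            Submodule.Quotient.mk (a n • b) := by
          simp only [T, LinearEquiv.trans_apply, TensorProduct.comm_tmul, LinearEquiv.restrictScalars_apply,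
            AdicCompletion.ofTensorProductEquivOfFiniteNoetherian_apply, AdicCompletion.ofTensorProduct_tmul,
            AdicCompletion.smul_eval, AdicCompletion.eval_of]
          simp
          rfl
        rw [h1, h2, ← map_mul, mul_comm, ← Algebra.smul_def]
        rfl
  refine ⟨(AlgEquiv.ofBijective ψ ⟨(injective_iff_map_eq_zero _).2 fun t ht => ?_, fun y => ?_⟩).symm⟩
  · refine T.injective (AdicCompletion.ext fun n => (hG n).1 ?_)
    show G n (AdicCompletion.eval J B n (T t)) = G n (AdicCompletion.eval J B n (T 0))
    rw [← key, ← key, ht, map_zero, map_zero, map_zero]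
  · choose z hz using fun n => (hG n).2 (AdicCompletion.evalₐ J' n y)
    have hc : ∀ {m n : ℕ} (hle : m ≤ n), AdicCompletion.transitionMap J B hle (z n) = z m := by
      intro m n hle
      apply (hG m).1
      rw [hz]
      have hzn := hz n
      obtain ⟨b, hb⟩ := Submodule.Quotient.mk_surjective _ (z n)
      rw [← hb] at hzn ⊢
      have : Ideal.Quotient.factorPow J' hle (AdicCompletion.evalₐ J' n y) = AdicCompletion.evalₐ J' m y := by
        induction y using AdicCompletion.induction_on with
        | _ c =>
          simp only [AdicCompletion.evalₐ_mk]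
          exact AdicCompletion.Ideal.mk_eq_mk J' hle c
      rw [← this, ← hzn]
      rfl
    obtain ⟨t, ht⟩ := T.surjective ⟨z, fun hle => hc hle⟩
    refine ⟨t, AdicCompletion.ext_evalₐ (I := J') fun n => ?_⟩
    rw [key, ht, ← hz n]
    rfl

end completion

end Groth.Agent.EGA4Lib
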