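import Groth.Agent.EGA4Lib.SkFlat
import Mathlib.RingTheory.LocalRing.ResidueField.Fiber
import Groth.Prelude.Def_CAlg

/-!
# Fibre rings and local fibre rings: depth and dimension
-/

set_option autoImplicit false
set_option linter.style.haveILetI false

universe u

open IsLocalRing TensorProduct

namespace Groth.Agent.EGA4Lib

/-- Depth and dimension of a local ring only depend on it up to isomorphism. -/
theorem depth_supportDim_ringEquiv {L L' : Type u} [CommRing L] [IsLocalRing L] [CommRing L']
    [IsLocalRing L'] (e : L ≃+* L') :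
    LocCoh.depth L L = LocCoh.depth L' L' ∧ Module.supportDim L L = Module.supportDim L' L' := by
  letI : Algebra L L' := e.toRingHom.toAlgebra
  let f : L ≃ₗ[L] L' :=
    { e.toAddEquiv with
      map_smul' := fun r x => by
        show e (r • x) = e r * e x
        rw [smul_eq_mul, map_mul] }
  obtain ⟨h1, h2⟩ := depth_supportDim_congr f
  obtain ⟨h3, h4⟩ := depth_supportDim_of_surjective (R := L) (S := L') e.surjective L'
  exact ⟨h1.trans h3.symm, h2.trans h4.symm⟩

variable (A : Type u) {B : Type u} [CommRing A] [CommRing B] [Algebra A B]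

theorem map_le_maximalIdeal (q : Ideal B) [q.IsPrime] :
    (q.comap (algebraMap A B)).map (algebraMap A (Localization.AtPrime q)) ≤
      maximalIdeal (Localization.AtPrime q) := by
  rw [IsScalarTower.algebraMap_eq A B (Localization.AtPrime q), ← Ideal.map_map,
    ← Localization.AtPrime.map_eq_maximalIdeal]
  exact Ideal.map_mono Ideal.map_comap_le

theorem isLocalRing_fibLocRing (q : Ideal B) [q.IsPrime] : IsLocalRing (EGA4.FibLocRing A B q) :=
  RegLoc.isLocalRing_quotient (map_le_maximalIdeal A q)

/-- The stalk of `B` in the fibre is the local fibre ring. -/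
theorem depth_supportDim_stalkFib_self (q : Ideal B) [q.IsPrime] [IsLocalRing (EGA4.FibLocRing A B q)] :
    LocCoh.depth (Localization.AtPrime q) (stalkFib A q B) =
        LocCoh.depth (EGA4.FibLocRing A B q) (EGA4.FibLocRing A B q) ∧
      Module.supportDim (Localization.AtPrime q) (stalkFib A q B) =
        Module.supportDim (EGA4.FibLocRing A B q) (EGA4.FibLocRing A B q) := by
  let L := Localization.AtPrime q
  let J : Ideal L := (q.comap (algebraMap A B)).map (algebraMap A L)
  let e : LocalizedModule q.primeCompl B ≃ₗ[L] L := Depth.localizedModuleSelfEquiv q.primeCompl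
  let f : stalkFib A q B ≃ₗ[L] (L ⧸ J) := Submodule.Quotient.equiv _ _ e (by
    rw [Submodule.map_smul'', Submodule.map_top, LinearEquiv.range, smul_eq_mul, Ideal.mul_top])
  obtain ⟨h1, h2⟩ := depth_supportDim_congr (L := L) f
  obtain ⟨h3, h4⟩ := depth_supportDim_of_surjective (R := L) (S := L ⧸ J)
    Ideal.Quotient.mk_surjective (L ⧸ J)
  exact ⟨h1.trans h3.symm, h2.trans h4.symm⟩

/-- A point of a fibre: depth and dimension of the fibre ring there. -/
theorem depth_supportDim_fiber (p : Ideal A) [p.IsPrime] (Q : Ideal (p.Fiber B)) [Q.IsPrime] :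
    LocCoh.depth (Localization.AtPrime Q) (Localization.AtPrime Q) =
        LocCoh.depth (Localization.AtPrime (Q.comap
          (Algebra.TensorProduct.includeRight (R := A) (A := p.ResidueField) (B := B))))
          (stalkFib A (Q.comap
            (Algebra.TensorProduct.includeRight (R := A) (A := p.ResidueField) (B := B))) B) ∧
      Module.supportDim (Localization.AtPrime Q) (Localization.AtPrime Q) =
        Module.supportDim (Localization.AtPrime (Q.comap
          (Algebra.TensorProduct.includeRight (R := A) (A := p.ResidueField) (B := B))))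
          (stalkFib A (Q.comap
            (Algebra.TensorProduct.includeRight (R := A) (A := p.ResidueField) (B := B))) B) := by
  let r := Q.comap (Algebra.TensorProduct.includeRight (R := A) (A := p.ResidueField) (B := B))
  let Br := Localization.AtPrime r
  have hr : r.comap (algebraMap A B) = p := by
    ext a
    show Algebra.TensorProduct.includeRight (R := A) (A := p.ResidueField) (algebraMap A B a) ∈ Q ↔ _
    rw [AlgHom.commutes, IsScalarTower.algebraMap_apply A p.ResidueField (p.Fiber B)]
    constructor
    · intro h
      by_contra ha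
      have hu : IsUnit (algebraMap A p.ResidueField a) :=
        Ne.isUnit fun h0 => ha (Ideal.algebraMap_residueField_eq_zero.1 h0)
      exact Ideal.IsPrime.ne_top ‹Q.IsPrime› (Ideal.eq_top_of_isUnit_mem _ h (hu.map _))
    · intro ha
      rw [Ideal.algebraMap_residueField_eq_zero.2 ha, map_zero]
      exact Q.zero_mem
  haveI := isLocalRing_fibLocRing A r
  have hI : (p.map (algebraMap A B)).map (algebraMap B Br) =
      (r.comap (algebraMap A B)).map (algebraMap A Br) := by
    rw [hr, Ideal.map_map, ← IsScalarTower.algebraMap_eq]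
  let e : Localization.AtPrime Q ≃+* EGA4.FibLocRing A B r :=
    ((Ideal.Fiber.algEquivAux₂ p Q).toRingEquiv).trans (Ideal.quotEquivOfEq hI)
  obtain ⟨h1, h2⟩ := depth_supportDim_ringEquiv (L := Localization.AtPrime Q) (L' := EGA4.FibLocRing A B r) e
  obtain ⟨h3, h4⟩ := depth_supportDim_stalkFib_self A r
  exact ⟨h1.trans h3.symm, h2.trans h4.symm⟩

theorem depth_supportDim_fiber_of_eq (p : Ideal A) [p.IsPrime] (Q : Ideal (p.Fiber B)) [Q.IsPrime]
    (r : Ideal B) [r.IsPrime]
    (hr : Q.comap (Algebra.TensorProduct.includeRight (R := A) (A := p.ResidueField) (B := B)) = r) :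
    LocCoh.depth (Localization.AtPrime Q) (Localization.AtPrime Q) =
        LocCoh.depth (Localization.AtPrime r) (stalkFib A r B) ∧
      Module.supportDim (Localization.AtPrime Q) (Localization.AtPrime Q) =
        Module.supportDim (Localization.AtPrime r) (stalkFib A r B) := by
  subst hr
  exact depth_supportDim_fiber A p Q

theorem exists_fiber_prime (q : Ideal B) [q.IsPrime] :
    ∃ (Q : Ideal ((q.comap (algebraMap A B)).Fiber B)) (_ : Q.IsPrime),
      Q.comap (Algebra.TensorProduct.includeRight (R := A)
        (A := (q.comap (algebraMap A B)).ResidueField) (B := B)) = q := by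
  let p : PrimeSpectrum A := ⟨q.comap (algebraMap A B), inferInstance⟩
  let x : PrimeSpectrum.comap (algebraMap A B) ⁻¹' {p} := ⟨⟨q, inferInstance⟩, rfl⟩
  let Q := PrimeSpectrum.preimageEquivFiber A B p x
  refine ⟨Q.asIdeal, Q.isPrime, ?_⟩
  exact congr_arg (fun y => y.1.asIdeal) ((PrimeSpectrum.preimageEquivFiber A B p).symm_apply_apply x)

/-- All fibre rings satisfy `(S_n)` iff all stalks of `B` in the fibres satisfy the inequality. -/
theorem forall_hasSk_fiber_iff (n : ℕ) :
    (∀ (p : Ideal A) [p.IsPrime], LocCoh.HasSk n (p.Fiber B) (p.Fiber B)) ↔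
      ∀ (q : Ideal B) [q.IsPrime],
        min (n : WithBot ℕ∞) (Module.supportDim (Localization.AtPrime q) (stalkFib A q B)) ≤
          ((LocCoh.depth (Localization.AtPrime q) (stalkFib A q B) : ℕ∞) : WithBot ℕ∞) := by
  constructor
  · intro h q _
    obtain ⟨Q, _, hQ⟩ := exists_fiber_prime A q
    obtain ⟨h1, h2⟩ := depth_supportDim_fiber_of_eq A _ Q q hQ
    have := h (q.comap (algebraMap A B)) Q
    obtain ⟨h3, h4⟩ := depth_supportDim_congr (L := Localization.AtPrime Q)
      (Depth.localizedModuleSelfEquiv Q.primeCompl)
    rw [h3, h4, h1, h2] at this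
    exact this
  · intro h p _ Q _
    obtain ⟨h1, h2⟩ := depth_supportDim_fiber A p Q
    obtain ⟨h3, h4⟩ := depth_supportDim_congr (L := Localization.AtPrime Q)
      (Depth.localizedModuleSelfEquiv Q.primeCompl)
    rw [h3, h4, h1, h2]
    exact h _

/-- All fibre rings are Cohen–Macaulay iff all stalks of `B` in the fibres are. -/
theorem forall_isCohenMacaulayRing_fiber_iff [IsNoetherianRing B] :
    (∀ (p : Ideal A) [p.IsPrime], LocCoh.IsCohenMacaulayRing (p.Fiber B)) ↔
      ∀ (q : Ideal B) [q.IsPrime],
        Module.supportDim (Localization.AtPrime q) (stalkFib A q B) =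
          ((LocCoh.depth (Localization.AtPrime q) (stalkFib A q B) : ℕ∞) : WithBot ℕ∞) := by
  constructor
  · intro h q _
    obtain ⟨Q, _, hQ⟩ := exists_fiber_prime A q
    obtain ⟨h1, h2⟩ := depth_supportDim_fiber_of_eq A _ Q q hQ
    haveI := h (q.comap (algebraMap A B))
    have := (LocCoh.IsCohenMacaulayRing.isCohenMacaulayLocalRing_localization Q).supportDim_eq_depth
    rw [h1, h2] at this
    exact this
  · intro h p _
    haveI : IsNoetherianRing (p.Fiber B) := isNoetherianRing_fiber A p
    refine ⟨fun Q _ => ?_⟩
    obtain ⟨h1, h2⟩ := depth_supportDim_fiber A p Q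
    exact { supportDim_eq_depth := by rw [h1, h2]; exact h _ }
where
  isNoetherianRing_fiber (A : Type u) {B : Type u} [CommRing A] [CommRing B] [Algebra A B]
      [IsNoetherianRing B] (p : Ideal A) [p.IsPrime] : IsNoetherianRing (p.Fiber B) :=
    letI : Algebra B (p.Fiber B) := Algebra.TensorProduct.rightAlgebra
    haveI : IsNoetherianRing (Localization (Algebra.algebraMapSubmonoid B p.primeCompl)) :=
      IsLocalization.isNoetherianRing (Algebra.algebraMapSubmonoid B p.primeCompl) _ inferInstance
    isNoetherianRing_of_ringEquiv _ (Ideal.Fiber.algEquivQuotient (S := B) p).toRingEquiv.symm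

/-- Stalk of a quotient ring. -/
theorem depth_supportDim_quotient_stalk (I : Ideal B) (q : Ideal B) [q.IsPrime] :
    LocCoh.depth (Localization.AtPrime q) (LocalizedModule q.primeCompl (B ⧸ I)) =
        LocCoh.depth (Localization.AtPrime q)
          (Localization.AtPrime q ⧸ I.map (algebraMap B (Localization.AtPrime q))) ∧
      Module.supportDim (Localization.AtPrime q) (LocalizedModule q.primeCompl (B ⧸ I)) =
        Module.supportDim (Localization.AtPrime q)
          (Localization.AtPrime q ⧸ I.map (algebraMap B (Localization.AtPrime q))) :=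
  depth_supportDim_congr ((LocalizedModule.equivTensorProduct q.primeCompl (B ⧸ I)).trans
    (Algebra.TensorProduct.quotIdealMapEquivTensorQuot (Localization.AtPrime q) I).toLinearEquiv.symm)

variable {C : Type u} [CommRing C] [Algebra B C] [Algebra A C] [IsScalarTower A B C]
  [IsNoetherianRing B] [IsNoetherianRing C] [Module.Flat B C]

/-- In a composite, depth and dimension of the stalk in the fibre add up. -/
theorem depth_supportDim_stalkFib_comp (r : Ideal C) [r.IsPrime] :
    LocCoh.depth (Localization.AtPrime r) (stalkFib A r C) =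
        LocCoh.depth (Localization.AtPrime (r.comap (algebraMap B C)))
            (stalkFib A (r.comap (algebraMap B C)) B) +
          LocCoh.depth (Localization.AtPrime r) (stalkFib B r C) ∧
      Module.supportDim (Localization.AtPrime r) (stalkFib A r C) =
        Module.supportDim (Localization.AtPrime (r.comap (algebraMap B C)))
            (stalkFib A (r.comap (algebraMap B C)) B) +
          Module.supportDim (Localization.AtPrime r) (stalkFib B r C) := by
  let q := r.comap (algebraMap B C)
  let p := q.comap (algebraMap A B)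
  have hp : r.comap (algebraMap A C) = p := by
    show _ = (r.comap (algebraMap B C)).comap (algebraMap A B)
    rw [Ideal.comap_comap, ← IsScalarTower.algebraMap_eq]
  let I := p.map (algebraMap A B)
  let J := p.map (algebraMap A C)
  have hIJ : I.map (algebraMap B C) = J := by
    show (p.map (algebraMap A B)).map (algebraMap B C) = _
    rw [Ideal.map_map, ← IsScalarTower.algebraMap_eq]
  have key : ∀ {R : Type u} [CommRing R] [Algebra A R] (s : Ideal R) [s.IsPrime],
      s.comap (algebraMap A R) = p →
      LocCoh.depth (Localization.AtPrime s) (stalkFib A s R) =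
          LocCoh.depth (Localization.AtPrime s) (LocalizedModule s.primeCompl (R ⧸ p.map (algebraMap A R))) ∧
        Module.supportDim (Localization.AtPrime s) (stalkFib A s R) =
          Module.supportDim (Localization.AtPrime s)
            (LocalizedModule s.primeCompl (R ⧸ p.map (algebraMap A R))) := by
    intro R _ _ s _ hs
    obtain ⟨h1, h2⟩ := depth_supportDim_quotient_stalk (p.map (algebraMap A R)) s
    let L := Localization.AtPrime s
    let e : LocalizedModule s.primeCompl R ≃ₗ[L] L := Depth.localizedModuleSelfEquiv s.primeCompl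
    let f : stalkFib A s R ≃ₗ[L] (L ⧸ (p.map (algebraMap A R)).map (algebraMap R L)) :=
      Submodule.Quotient.equiv _ _ e (by
        rw [Submodule.map_smul'', Submodule.map_top, LinearEquiv.range, smul_eq_mul, Ideal.mul_top, hs,
          Ideal.map_map, ← IsScalarTower.algebraMap_eq])
    obtain ⟨h3, h4⟩ := depth_supportDim_congr (L := L) f
    exact ⟨h3.trans h1.symm, h4.trans h2.symm⟩
  obtain ⟨hB1, hB2⟩ := key q rfl
  obtain ⟨hC1, hC2⟩ := key r hp
  haveI : Nontrivial (LocalizedModule q.primeCompl (B ⧸ I)) := by
    refine (Module.mem_support_iff (p := ⟨q, inferInstance⟩)).1 ?_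
    rw [Module.support_eq_zeroLocus, Ideal.annihilator_quotient]
    exact Ideal.map_comap_le
  haveI : Nontrivial (LocalizedModule r.primeCompl C) :=
    (Depth.localizedModuleSelfEquiv r.primeCompl).toEquiv.nontrivial
  obtain ⟨hd, hs⟩ := depth_supportDim_stalk B r (B ⧸ I) C
  let e : C ⊗[B] (B ⧸ I) ≃ₗ[C] (C ⧸ J) :=
    (Algebra.TensorProduct.quotIdealMapEquivTensorQuot C I).toLinearEquiv.symm.trans
      (Submodule.quotEquivOfEq _ _ hIJ)
  obtain ⟨he1, he2⟩ := depth_supportDim_congr (L := Localization.AtPrime r)
    (X := LocalizedModule r.primeCompl (C ⊗[B] (B ⧸ I))) (Y := LocalizedModule r.primeCompl (C ⧸ J))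
    (IsLocalizedModule.mapEquiv r.primeCompl (LocalizedModule.mkLinearMap r.primeCompl _)
      (LocalizedModule.mkLinearMap r.primeCompl _) (Localization.AtPrime r) e)
  exact ⟨by rw [hC1, ← he1, hd, ← hB1],
    by rw [hC2, ← he2, hs inferInstance inferInstance, ← hB2]⟩

end Groth.Agent.EGA4Lib
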