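import Groth.Agent.EGA4Lib.DerModel
import Groth.Agent.Nagata.Normalization

/-!
# Complete Noetherian local rings are J-2 (EGA IV 6.12.7)
-/

set_option autoImplicit false
set_option linter.style.haveILetI false

open IsLocalRing

namespace Groth.Agent.EGA4Lib

universe u

theorem charZero_of_isCohenRing (Λ : Type u) [CommRing Λ] (h : CAlg.IsCohenRing Λ) : CharZero Λ := by
  obtain ⟨_, _, -, p, hp, hm⟩ := h
  obtain ⟨q, hq⟩ := CharP.exists Λ
  rcases CharP.char_is_prime_or_zero Λ q with hqp | rfl
  · exfalso
    have hne : maximalIdeal Λ ≠ ⊥ := IsDiscreteValuationRing.not_a_field Λ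
    by_cases hpq : q = p
    · subst hpq
      exact hne (by rw [hm, CharP.cast_eq_zero, Ideal.span_singleton_eq_bot.mpr rfl])
    · have hu : IsUnit (p : Λ) :=
        (CharP.isUnit_natCast_iff hqp).mpr fun hd =>
          hpq ((Nat.prime_dvd_prime_iff_eq hqp hp).mp hd)
      rw [Ideal.span_singleton_eq_top.mpr hu] at hm
      exact (maximalIdeal.isMaximal Λ).ne_top hm
  · exact CharP.charP_to_charZero Λ

theorem isJ2_of_isAdicComplete (A : Type u) [CommRing A] [IsNoetherianRing A] [IsLocalRing A]
    [IsAdicComplete (maximalIdeal A) A] : EGA4.IsJ2 A := by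
  rw [isJ2_iff]
  intro A' _ _ _ hfin
  rw [exists_open_regLocus_iff]
  let p0 : Ideal A := RingHom.ker (algebraMap A A')
  haveI : p0.IsPrime := RingHom.ker_isPrime _
  let D := A ⧸ p0
  haveI : IsLocalRing D := IsLocalRing.of_surjective' _ Ideal.Quotient.mk_surjective
  haveI : IsAdicComplete (maximalIdeal D) D := by
    have hc : IsAdicComplete (maximalIdeal A) D :=
      Adic.isAdicComplete_of_finite (I := maximalIdeal A) (A := A) (M := D)
    have hmax : (maximalIdeal A).map (algebraMap A D) = maximalIdeal D :=
      IsLocalRing.eq_maximalIdeal (Ideal.IsMaximal.map_of_surjective_of_ker_le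
        Ideal.Quotient.mk_surjective (by rw [Ideal.mk_ker]; exact le_maximalIdeal Ideal.IsPrime.ne_top'))
    rw [← hmax, IsAdicComplete.map_algebraMap_iff]
    exact hc
  letI : Algebra D A' := (RingHom.kerLift (algebraMap A A')).toAlgebra
  haveI : IsScalarTower A D A' := IsScalarTower.of_algebraMap_eq fun _ => rfl
  haveI : Module.Finite D A' := Module.Finite.of_restrictScalars_finite A D A'
  obtain ⟨Λ, _, _, n, f, hΛ, hinjf, hfinf, -, hreg, -⟩ := Nagata.Normalization.exists_normalization D
  set R := MvPowerSeries (Fin n) Λ
  haveI : IsDomain R := hinjf.isDomain f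
  letI : Algebra R D := f.toAlgebra
  haveI : Module.Finite R D := hfinf
  letI : Algebra R A' := ((algebraMap D A').comp (algebraMap R D)).toAlgebra
  haveI : IsScalarTower R D A' := IsScalarTower.of_algebraMap_eq fun _ => rfl
  haveI : Module.Finite R A' := Module.Finite.trans D A'
  have hinj : Function.Injective (algebraMap R A') :=
    (RingHom.kerLift_injective (algebraMap A A')).comp hinjf
  by_cases hchar : CharZero R
  · haveI : IsRegularLocalRing R := hreg
    haveI : IsRegularRing R := RegLoc.Homological.isRegularRing
    let K := FractionRing R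
    let F := FractionRing A'
    haveI : FaithfulSMul R F := (faithfulSMul_iff_algebraMap_injective R F).2 (by
      rw [IsScalarTower.algebraMap_eq R A' F]
      exact (IsFractionRing.injective A' F).comp hinj)
    letI : Algebra K F := FractionRing.liftAlgebra R F
    haveI : IsScalarTower R K F := FractionRing.isScalarTower_liftAlgebra R F
    haveI : FaithfulSMul R A' := (faithfulSMul_iff_algebraMap_injective R A').mpr hinj
    haveI : Module.Finite K F := Module.Finite.of_isLocalization R A' (nonZeroDivisors R)
    haveI : CharZero K := charZero_of_injective_algebraMap (IsFractionRing.injective R K)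
    haveI : Algebra.FormallyEtale K F := Algebra.FormallyEtale.of_isSeparable K F
    haveI : Algebra.FormallySmooth K F := inferInstance
    exact exists_forall_mem_regLocus_of_formallySmooth (K := K) (F := F) hinj
      ⟨1, one_ne_zero, fun q _ => IsRegularRing.isRegularLocalRing_localization q.asIdeal⟩
  · rcases hΛ with hF | hC
    · letI : Field Λ := hF.toField
      obtain ⟨p, hp⟩ := CharP.exists Λ
      rcases CharP.char_is_prime_or_zero Λ p with hpp | rfl
      · haveI : Fact p.Prime := ⟨hpp⟩
        exact DerKernel.exists_forall_mem_regLocus_mvPowerSeries p n A' hinj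
      · haveI : CharZero Λ := CharP.charP_to_charZero Λ
        exact absurd (charZero_of_injective_algebraMap (algebraMap Λ R).injective) hchar
    · haveI := charZero_of_isCohenRing Λ hC
      have hC' : Function.Injective (algebraMap Λ R) := fun x y hxy => by
        simpa [R, MvPowerSeries.algebraMap_apply] using congrArg MvPowerSeries.constantCoeff hxy
      exact absurd (charZero_of_injective_algebraMap hC') hchar

end Groth.Agent.EGA4Lib
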