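import Groth.Agent.EGA4Lib.FibreBC
import Groth.Agent.FBase.TensorAlgClosed
import Groth.Agent.FDesc.Algebra
import Mathlib.RingTheory.Flat.FaithfullyFlat.Algebra
import Mathlib.RingTheory.Localization.BaseChange

/-!
# Normal and geometrically reduced fibres: composites and descent
-/

set_option autoImplicit false
set_option linter.style.haveILetI false

universe u

open TensorProduct

namespace Groth.Agent.EGA4Lib

theorem isDomain_isIntegrallyClosed_of_faithfullyFlat (R S : Type u) [CommRing R] [CommRing S]
    [Algebra R S] [Module.FaithfullyFlat R S] [IsDomain S] [IsIntegrallyClosed S] :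
    IsDomain R ∧ IsIntegrallyClosed R := by
  have hinj : Function.Injective (algebraMap R S) := FaithfulSMul.algebraMap_injective R S
  haveI : IsDomain R := hinj.isDomain _
  refine ⟨inferInstance, (isIntegrallyClosed_iff (FractionRing R)).2 fun {x} hx => ?_⟩
  obtain ⟨a, ⟨b, hb⟩, rfl⟩ := IsLocalization.exists_mk'_eq (nonZeroDivisors R) x
  let φ : FractionRing R →+* FractionRing S := IsFractionRing.map (A := R) (B := S) hinj
  have hb0 : algebraMap R S b ≠ 0 := fun h => nonZeroDivisors.ne_zero hb (hinj (h.trans (map_zero _).symm))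
  have hsq : φ.comp (algebraMap R (FractionRing R)) =
      (algebraMap S (FractionRing S)).comp (algebraMap R S) :=
    RingHom.ext fun r => by simp [φ, IsFractionRing.map]
  obtain ⟨p, hp, he⟩ := hx
  have hint : IsIntegral S (φ (IsLocalization.mk' _ a ⟨b, hb⟩)) := by
    refine ⟨p.map (algebraMap R S), hp.map _, ?_⟩
    rw [Polynomial.eval₂_map, ← hsq, ← Polynomial.hom_eval₂, he, map_zero]
  obtain ⟨s, hs⟩ := IsIntegrallyClosed.algebraMap_eq_of_integral hint
  have h2 : algebraMap R S a = s * algebraMap R S b := by
    apply IsFractionRing.injective S (FractionRing S)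
    have h3 := congrArg φ (IsLocalization.mk'_spec (FractionRing R) a ⟨b, hb⟩)
    rw [map_mul, ← RingHom.comp_apply, ← RingHom.comp_apply φ _ a, hsq, RingHom.comp_apply,
      RingHom.comp_apply, ← hs] at h3
    rw [map_mul]; exact h3.symm
  have hm : a ∈ ((Ideal.span {b}).map (algebraMap R S)).comap (algebraMap R S) := by
    rw [Ideal.mem_comap, Ideal.map_span, Set.image_singleton, Ideal.mem_span_singleton']
    exact ⟨s, h2.symm⟩
  rw [Ideal.comap_map_eq_self_of_faithfullyFlat, Ideal.mem_span_singleton'] at hm
  obtain ⟨c, rfl⟩ := hm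
  exact ⟨c, by rw [IsLocalization.eq_mk'_iff_mul_eq, ← map_mul]⟩

theorem isNormalRing_of_faithfullyFlat (R S : Type u) [CommRing R] [CommRing S] [Algebra R S]
    [Module.FaithfullyFlat R S] (h : EGA4.IsNormalRing S) : EGA4.IsNormalRing R := by
  intro p _
  obtain ⟨q, hq⟩ := PrimeSpectrum.comap_surjective_of_faithfullyFlat (A := R) (B := S) ⟨p, ‹_›⟩
  haveI := q.isPrime
  have hpq : p = q.asIdeal.comap (algebraMap R S) := (congrArg PrimeSpectrum.asIdeal hq).symm
  subst hpq
  haveI := (h q.asIdeal).1
  haveI := (h q.asIdeal).2
  letI : Algebra (Localization.AtPrime (q.asIdeal.comap (algebraMap R S))) (Localization.AtPrime q.asIdeal) :=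
    (Localization.localRingHom _ q.asIdeal (algebraMap R S) rfl).toAlgebra
  haveI : IsLocalHom (algebraMap (Localization.AtPrime (q.asIdeal.comap (algebraMap R S)))
      (Localization.AtPrime q.asIdeal)) := Localization.isLocalHom_localRingHom _ _ _ rfl
  haveI : Module.Flat (Localization.AtPrime (q.asIdeal.comap (algebraMap R S)))
      (Localization.AtPrime q.asIdeal) :=
    RingHom.flat_algebraMap_iff.1 (RingHom.Flat.localRingHom (f := algebraMap R S)
      (RingHom.flat_algebraMap_iff.2 inferInstance) q.asIdeal _ rfl)
  haveI : Module.FaithfullyFlat (Localization.AtPrime (q.asIdeal.comap (algebraMap R S)))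
      (Localization.AtPrime q.asIdeal) := Module.FaithfullyFlat.of_flat_of_isLocalHom
  exact isDomain_isIntegrallyClosed_of_faithfullyFlat _ (Localization.AtPrime q.asIdeal)

section comp

variable (A : Type u) {B C : Type u} [CommRing A] [CommRing B] [CommRing C] [Algebra A B] [Algebra B C]
  [Algebra A C] [IsScalarTower A B C]

/-- `(B ⊗_A K) ⊗_B C ≅ K ⊗_A C`. -/
theorem nonempty_tensor_tower (K : Type u) [CommRing K] [Algebra A K] :
    Nonempty ((B ⊗[A] K) ⊗[B] C ≃+* K ⊗[A] C) :=
  ⟨((Algebra.TensorProduct.comm B (B ⊗[A] K) C).toRingEquiv.trans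
    (Algebra.TensorProduct.cancelBaseChange A B C C K).toRingEquiv).trans
    (Algebra.TensorProduct.comm A C K).toRingEquiv⟩

theorem isNormalRing_tensor_of_faithfullyFlat [Module.FaithfullyFlat B C] (K : Type u) [CommRing K]
    [Algebra A K] (h : EGA4.IsNormalRing (K ⊗[A] C)) : EGA4.IsNormalRing (K ⊗[A] B) := by
  obtain ⟨e⟩ := nonempty_tensor_tower A (B := B) (C := C) K
  exact isNormalRing_of_ringEquiv (Algebra.TensorProduct.comm A B K).toRingEquiv
    (isNormalRing_of_faithfullyFlat (B ⊗[A] K) ((B ⊗[A] K) ⊗[B] C) (isNormalRing_of_ringEquiv e.symm h))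

theorem isReduced_tensor_of_faithfullyFlat [Module.FaithfullyFlat B C] (K : Type u) [CommRing K]
    [Algebra A K] (h : IsReduced (K ⊗[A] C)) : IsReduced (K ⊗[A] B) := by
  obtain ⟨e⟩ := nonempty_tensor_tower A (B := B) (C := C) K
  haveI := isReduced_of_injective e e.injective
  exact isReduced_of_injective
    ((algebraMap (B ⊗[A] K) ((B ⊗[A] K) ⊗[B] C)).comp (Algebra.TensorProduct.comm A K B).toRingEquiv.toRingHom)
    ((FaithfulSMul.algebraMap_injective (B ⊗[A] K) ((B ⊗[A] K) ⊗[B] C)).comp (Algebra.TensorProduct.comm A K B).injective)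

omit [Algebra A B] [IsScalarTower A B C] [Algebra A C] in
/-- A flat algebra with geometrically reduced fibres over reduced Noetherian is reduced. -/
theorem isReduced_tensor_of_isGeometricallyReduced [Module.Flat B C]
    (hBC : ∀ (q : Ideal B) [q.IsPrime], Algebra.IsGeometricallyReduced q.ResidueField (q.Fiber C))
    (T : Type u) [CommRing T] [Algebra B T] [IsReduced T] [IsNoetherianRing T] :
    IsReduced (T ⊗[B] C) := by
  classical
  haveI : Finite (minimalPrimes T) := (minimalPrimes.finite_of_isNoetherianRing T).to_subtype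
  haveI : ∀ P : minimalPrimes T, P.1.IsPrime := fun P => P.2.1.1
  haveI : Fintype (minimalPrimes T) := Fintype.ofFinite _
  have hred : ∀ P : minimalPrimes T, IsReduced (P.1.ResidueField ⊗[B] C) := fun P => by
    letI := residueAlgebra (A := B) P.1
    haveI := residueAlgebra_isScalarTower (A := B) P.1
    haveI := hBC (P.1.comap (algebraMap B T))
    haveI : IsReduced (P.1.ResidueField ⊗[(P.1.comap (algebraMap B T)).ResidueField]
        ((P.1.comap (algebraMap B T)).Fiber C)) :=
      FBase.TensorAlgClosed.isReduced_tensor_of_isGeometricallyReduced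
    exact isReduced_of_injective (Algebra.TensorProduct.cancelBaseChange B
      (P.1.comap (algebraMap B T)).ResidueField P.1.ResidueField P.1.ResidueField C).symm
      (AlgEquiv.injective _)
  let f : T →ₗ[B] (∀ P : minimalPrimes T, P.1.ResidueField) :=
    LinearMap.pi fun P => (IsScalarTower.toAlgHom B T P.1.ResidueField).toLinearMap
  have hf : Function.Injective f := by
    rw [injective_iff_map_eq_zero]
    intro x hx
    have : x ∈ nilradical T := by
      rw [nilradical, ← Ideal.sInf_minimalPrimes, Submodule.mem_sInf]
      intro p hp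
      haveI := hp.1.1
      exact Ideal.algebraMap_residueField_eq_zero.1 (congrFun hx ⟨p, hp⟩)
    exact (mem_nilradical.1 this).eq_zero
  refine ⟨fun x hx => ?_⟩
  apply Module.Flat.rTensor_preserves_injective_linearMap (M := C) f hf
  rw [map_zero]
  apply (TensorProduct.piLeft B C (fun P : minimalPrimes T => P.1.ResidueField)).injective
  rw [map_zero]
  funext P
  let g : T ⊗[B] C →ₐ[B] P.1.ResidueField ⊗[B] C :=
    Algebra.TensorProduct.map (IsScalarTower.toAlgHom B T P.1.ResidueField) (AlgHom.id B C)
  have key : ∀ y : T ⊗[B] C,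
      TensorProduct.piLeft B C (fun P : minimalPrimes T => P.1.ResidueField) (f.rTensor C y) P = g y := by
    intro y
    induction y using TensorProduct.induction_on with
    | zero => simp
    | tmul t c => simp [f, g]
    | add y z hy hz => simp only [map_add, Pi.add_apply, hy, hz]
  haveI := hred P
  rw [key x]
  exact (hx.map g).eq_zero

end comp

section geom

variable (A B C : Type u) [CommRing A] [CommRing B] [CommRing C] [Algebra A B] [Algebra B C]
  [Algebra A C] [IsScalarTower A B C]

theorem isGeomNormal_fiber_of_comp [Module.FaithfullyFlat B C] (p : Ideal A) [p.IsPrime]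
    (h : EGA4.IsGeomNormal p.ResidueField (p.Fiber C)) : EGA4.IsGeomNormal p.ResidueField (p.Fiber B) := by
  intro K _ _ hfin
  letI : Algebra A K := ((algebraMap p.ResidueField K).comp (algebraMap A p.ResidueField)).toAlgebra
  haveI : IsScalarTower A p.ResidueField K := IsScalarTower.of_algebraMap_eq fun _ => rfl
  exact isNormalRing_of_ringEquiv
    (Algebra.TensorProduct.cancelBaseChange A p.ResidueField K K B).symm.toRingEquiv
    (isNormalRing_tensor_of_faithfullyFlat A (C := C) K
      (isNormalRing_of_ringEquiv (Algebra.TensorProduct.cancelBaseChange A p.ResidueField K K C).toRingEquiv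
        (h K hfin)))

theorem isGeometricallyReduced_fiber_of_comp [Module.FaithfullyFlat B C] (p : Ideal A) [p.IsPrime]
    (h : Algebra.IsGeometricallyReduced p.ResidueField (p.Fiber C)) :
    Algebra.IsGeometricallyReduced p.ResidueField (p.Fiber B) := by
  rw [Algebra.isGeometricallyReduced_field_iff] at h ⊢
  haveI : IsReduced (AlgebraicClosure p.ResidueField ⊗[A] C) := isReduced_of_injective
    (Algebra.TensorProduct.cancelBaseChange A p.ResidueField p.ResidueField
      (AlgebraicClosure p.ResidueField) C).symm (AlgEquiv.injective _)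
  haveI := isReduced_tensor_of_faithfullyFlat A (B := B) (C := C) (AlgebraicClosure p.ResidueField) this
  exact isReduced_of_injective (Algebra.TensorProduct.cancelBaseChange A p.ResidueField p.ResidueField
      (AlgebraicClosure p.ResidueField) B) (AlgEquiv.injective _)

theorem isGeometricallyReduced_fiber_comp [IsNoetherianRing B] [Module.Flat B C]
    (hBC : ∀ (q : Ideal B) [q.IsPrime], Algebra.IsGeometricallyReduced q.ResidueField (q.Fiber C))
    (p : Ideal A) [p.IsPrime] (hAB : Algebra.IsGeometricallyReduced p.ResidueField (p.Fiber B)) :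
    Algebra.IsGeometricallyReduced p.ResidueField (p.Fiber C) := by
  haveI : IsNoetherianRing (p.Fiber B) :=
    letI : Algebra B (p.Fiber B) := Algebra.TensorProduct.rightAlgebra
    haveI : IsNoetherianRing (Localization (Algebra.algebraMapSubmonoid B p.primeCompl)) :=
      IsLocalization.isNoetherianRing (Algebra.algebraMapSubmonoid B p.primeCompl) _ inferInstance
    isNoetherianRing_of_ringEquiv _ (Ideal.Fiber.algEquivQuotient (S := B) p).toRingEquiv.symm
  have hfin : ∀ (K : Type u) [Field K] [Algebra p.ResidueField K], Module.Finite p.ResidueField K →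
      IsReduced (K ⊗[p.ResidueField] p.Fiber C) := by
    intro K _ _ hK
    letI : Algebra A K := ((algebraMap p.ResidueField K).comp (algebraMap A p.ResidueField)).toAlgebra
    haveI : IsScalarTower A p.ResidueField K := IsScalarTower.of_algebraMap_eq fun _ => rfl
    let e := Algebra.TensorProduct.cancelBaseChange A p.ResidueField K K B
    haveI : IsReduced (K ⊗[p.ResidueField] p.Fiber B) :=
      FBase.TensorAlgClosed.isReduced_tensor_of_isGeometricallyReduced
    haveI : IsNoetherianRing (K ⊗[p.ResidueField] p.Fiber B) := by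
      have : Algebra.FiniteType (p.Fiber B) ((p.Fiber B) ⊗[p.ResidueField] K) := inferInstance
      haveI := Algebra.FiniteType.isNoetherianRing (p.Fiber B) ((p.Fiber B) ⊗[p.ResidueField] K)
      exact isNoetherianRing_of_ringEquiv _
        (Algebra.TensorProduct.comm p.ResidueField (p.Fiber B) K).toRingEquiv
    let f : K ⊗[p.ResidueField] p.Fiber B ≃+* B ⊗[A] K :=
      e.toRingEquiv.trans (Algebra.TensorProduct.comm A K B).toRingEquiv
    haveI : IsReduced (B ⊗[A] K) := isReduced_of_injective f.symm f.symm.injective
    haveI : IsNoetherianRing (B ⊗[A] K) := isNoetherianRing_of_ringEquiv _ f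
    haveI := isReduced_tensor_of_isGeometricallyReduced (B := B) (C := C) hBC (B ⊗[A] K)
    obtain ⟨g⟩ := nonempty_tensor_tower A (B := B) (C := C) K
    let e' := (Algebra.TensorProduct.cancelBaseChange A p.ResidueField K K C).toRingEquiv.trans g.symm
    exact isReduced_of_injective e' e'.injective
  rw [Algebra.isGeometricallyReduced_field_iff]
  haveI : IsReduced ((p.Fiber C) ⊗[p.ResidueField] AlgebraicClosure p.ResidueField) := by
    refine IsReduced.tensorProduct_of_flat_of_forall_fg fun D hD => ?_
    haveI : Algebra.FiniteType p.ResidueField D := (Subalgebra.fg_iff_finiteType D).mp hD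
    haveI : Algebra.IsIntegral p.ResidueField D := Algebra.IsIntegral.of_injective D.val Subtype.val_injective
    haveI : Module.Finite p.ResidueField D := Algebra.IsIntegral.finite
    letI : Field D := (isField_of_isIntegral_of_isField' (Field.toIsField p.ResidueField)).toField
    haveI := hfin D inferInstance
    exact isReduced_of_injective (Algebra.TensorProduct.comm p.ResidueField (p.Fiber C) D) (AlgEquiv.injective _)
  exact isReduced_of_injective
    (Algebra.TensorProduct.comm p.ResidueField (AlgebraicClosure p.ResidueField) (p.Fiber C))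
    (AlgEquiv.injective _)

end geom

end Groth.Agent.EGA4Lib
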