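import Groth.Agent.EGA4Lib.Fibers
import Groth.Agent.EGA4Lib.FibreBC
import Groth.Agent.EGA4Lib.RkFlat
import Groth.Agent.RegLoc.Completion
import Mathlib.RingTheory.AdicCompletion.LocalRing
import Mathlib.RingTheory.AdicCompletion.AsTensorProduct

/-!
# Local fibre rings as localizations of fibres; `A_{1+J} → Â`
-/

set_option autoImplicit false
set_option linter.style.haveILetI false

universe u

open IsLocalRing TensorProduct

namespace Groth.Agent.EGA4Lib

theorem nonempty_fibLocRing_equiv (A : Type u) {B : Type u} [CommRing A] [CommRing B] [Algebra A B]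
    (q : Ideal B) [q.IsPrime] :
    ∃ (Q : Ideal ((q.comap (algebraMap A B)).Fiber B)) (_ : Q.IsPrime),
      Nonempty (Localization.AtPrime Q ≃+* EGA4.FibLocRing A B q) := by
  obtain ⟨Q, hQp, hQ⟩ := exists_fiber_prime A q
  refine ⟨Q, hQp, ?_⟩
  suffices H : ∀ (p : Ideal A) [p.IsPrime] (Q : Ideal (p.Fiber B)) [Q.IsPrime] (r : Ideal B) [r.IsPrime],
      Q.comap (Algebra.TensorProduct.includeRight (R := A) (A := p.ResidueField) (B := B)) = r →
      r.comap (algebraMap A B) = p → Nonempty (Localization.AtPrime Q ≃+* EGA4.FibLocRing A B r) from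
    H _ Q q hQ rfl
  intro p _ Q _ r _ hr hp
  subst hr
  have hI : (p.map (algebraMap A B)).map (algebraMap B (Localization.AtPrime (Q.comap
        (Algebra.TensorProduct.includeRight (R := A) (A := p.ResidueField) (B := B))))) =
      ((Q.comap (Algebra.TensorProduct.includeRight (R := A) (A := p.ResidueField) (B := B))).comap
        (algebraMap A B)).map (algebraMap A _) := by
    rw [hp, Ideal.map_map, ← IsScalarTower.algebraMap_eq]
  exact ⟨((Ideal.Fiber.algEquivAux₂ p Q).toRingEquiv).trans (Ideal.quotEquivOfEq hI)⟩

theorem isNormalRing_localization_fibre (A : Type u) {B : Type u} [CommRing A] [CommRing B] [Algebra A B]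
    (h : ∀ (p : Ideal A) [p.IsPrime], EGA4.IsGeomNormal p.ResidueField (p.Fiber B))
    (q : Ideal B) [q.IsPrime] :
    IsDomain (EGA4.FibLocRing A B q) ∧ IsIntegrallyClosed (EGA4.FibLocRing A B q) := by
  obtain ⟨Q, _, ⟨e⟩⟩ := nonempty_fibLocRing_equiv A q
  let k := (q.comap (algebraMap A B)).ResidueField
  have hn := isNormalRing_of_ringEquiv
    (Algebra.TensorProduct.lid k ((q.comap (algebraMap A B)).Fiber B)).toRingEquiv
    (h (q.comap (algebraMap A B)) k inferInstance)
  haveI := (hn Q).1
  haveI := (hn Q).2
  exact ⟨e.symm.toMulEquiv.isDomain _, IsIntegrallyClosed.of_equiv (R := Localization.AtPrime Q) (S := EGA4.FibLocRing A B q) e⟩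

theorem isRegularLocalRing_fibLocRing (A : Type u) {B : Type u} [CommRing A] [CommRing B] [Algebra A B]
    (h : ∀ (p : Ideal A) [p.IsPrime], CAlg.IsGeometricallyRegular p.ResidueField (p.Fiber B))
    (q : Ideal B) [q.IsPrime] : IsRegularLocalRing (EGA4.FibLocRing A B q) := by
  obtain ⟨Q, _, ⟨e⟩⟩ := nonempty_fibLocRing_equiv A q
  let k := (q.comap (algebraMap A B)).ResidueField
  haveI := h (q.comap (algebraMap A B)) k inferInstance
  haveI : IsRegularRing ((q.comap (algebraMap A B)).Fiber B) :=
    IsRegularRing.of_ringEquiv (R := TensorProduct k k ((q.comap (algebraMap A B)).Fiber B)) (Algebra.TensorProduct.lid k ((q.comap (algebraMap A B)).Fiber B)).toRingEquiv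
  exact IsRegularLocalRing.of_ringEquiv (R := Localization.AtPrime Q) e

/-- Regular base point and regular local fibre ring give a regular point. -/
theorem isRegularLocalRing_of_regular_fibre {A B : Type u} [CommRing A] [CommRing B] [IsNoetherianRing B]
    [Algebra A B] [Module.Flat A B] (q : Ideal B) [q.IsPrime]
    [IsRegularLocalRing (Localization.AtPrime (q.comap (algebraMap A B)))]
    [IsRegularLocalRing (EGA4.FibLocRing A B q)] : IsRegularLocalRing (Localization.AtPrime q) := by
  let p := q.comap (algebraMap A B)
  letI : Algebra (Localization.AtPrime p) (Localization.AtPrime q) :=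
    (Localization.localRingHom p q (algebraMap A B) rfl).toAlgebra
  haveI : IsLocalHom (algebraMap (Localization.AtPrime p) (Localization.AtPrime q)) :=
    Localization.isLocalHom_localRingHom _ _ _ rfl
  haveI : Module.Flat (Localization.AtPrime p) (Localization.AtPrime q) :=
    RingHom.flat_algebraMap_iff.1
      (RingHom.Flat.localRingHom (RingHom.flat_algebraMap_iff.2 inferInstance) q p rfl)
  have heq : p.map (algebraMap A (Localization.AtPrime q)) =
      (maximalIdeal (Localization.AtPrime p)).map
        (algebraMap (Localization.AtPrime p) (Localization.AtPrime q)) := by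
    rw [← Localization.AtPrime.map_eq_maximalIdeal, Ideal.map_map]
    congr 1
    ext a
    rw [RingHom.comp_apply, RingHom.algebraMap_toAlgebra, Localization.localRingHom_to_map,
      ← IsScalarTower.algebraMap_apply]
  haveI : IsRegularLocalRing (Localization.AtPrime q ⧸
      (maximalIdeal (Localization.AtPrime p)).map
        (algebraMap (Localization.AtPrime p) (Localization.AtPrime q))) :=
    IsRegularLocalRing.of_ringEquiv (R := EGA4.FibLocRing A B q) (Ideal.quotEquivOfEq heq)
  exact isRegularLocalRing_of_fibre (Localization.AtPrime p) (Localization.AtPrime q)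

section oneAdd

variable {A : Type u} [CommRing A] [IsNoetherianRing A] (J : Ideal A)

theorem isUnit_of_mem_oneAdd (t : A) (ht : t ∈ MonoidHom.mker (Ideal.Quotient.mk J)) :
    IsUnit (algebraMap A (AdicCompletion J A) t) := by
  haveI := AdicCompletion.isAdicComplete_self J (IsNoetherian.noetherian J)
  have h : t - 1 ∈ J := Ideal.Quotient.eq.1 (show Ideal.Quotient.mk J t = Ideal.Quotient.mk J 1 by
    rw [map_one]; exact ht)
  have hmem := IsAdicComplete.le_jacobson_bot (J.map (algebraMap A (AdicCompletion J A)))
    (Ideal.mem_map_of_mem _ h)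
  have := Ideal.mem_jacobson_bot.1 hmem 1
  simpa using this

theorem exists_oneAdd_algebra (T : Submonoid A) (hT : T = MonoidHom.mker (Ideal.Quotient.mk J)) :
    ∃ (_ : Algebra (Localization T) (AdicCompletion J A)),
      IsScalarTower A (Localization T) (AdicCompletion J A) ∧
        Module.FaithfullyFlat (Localization T) (AdicCompletion J A) := by
  subst hT
  let T := MonoidHom.mker (Ideal.Quotient.mk J)
  letI : Algebra (Localization T) (AdicCompletion J A) :=
    (IsLocalization.lift (M := T) (g := algebraMap A (AdicCompletion J A))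
      fun t => isUnit_of_mem_oneAdd J t.1 t.2).toAlgebra
  haveI : IsScalarTower A (Localization T) (AdicCompletion J A) := IsScalarTower.of_algebraMap_eq fun x => by
    rw [RingHom.algebraMap_toAlgebra, IsLocalization.lift_eq]
  refine ⟨_, ‹_›, ?_⟩
  haveI : Module.Flat (Localization T) (AdicCompletion J A) :=
    (Module.flat_iff_of_isLocalization (Localization T) T (AdicCompletion J A)).2 inferInstance
  refine ⟨fun M hM htop => ?_⟩
  rw [Ideal.smul_top_eq_map, Submodule.restrictScalars_eq_top_iff] at htop
  let m := M.comap (algebraMap A (Localization T))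
  have hm : m ≠ ⊤ := fun h => by
    have : (1 : A) ∈ m := h ▸ trivial
    exact hM.ne_top ((Ideal.eq_top_iff_one _).2 (by simpa [m, Ideal.mem_comap] using this))
  have hJm : J ≤ m := fun x hx => by
    by_contra hxM
    obtain ⟨y, z, hz, hyz⟩ := hM.exists_inv (x := algebraMap A (Localization T) x) hxM
    obtain ⟨⟨a, s⟩, ha⟩ := IsLocalization.surj T y
    have hmem : (s : A) - a * x ∈ T := by
      show Ideal.Quotient.mk J _ = 1
      rw [map_sub, map_mul, Ideal.Quotient.eq_zero_iff_mem.2 hx, mul_zero, sub_zero]
      exact s.2
    have hu : IsUnit (algebraMap A (Localization T) ((s : A) - a * x)) :=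
      IsLocalization.map_units (Localization T) (⟨_, hmem⟩ : T)
    refine hM.ne_top (Ideal.eq_top_of_isUnit_mem _ ?_ hu)
    have : algebraMap A (Localization T) ((s : A) - a * x) = z * algebraMap A (Localization T) s := by
      simp only [map_sub, map_mul]
      linear_combination (algebraMap A (Localization T) x) * ha - (algebraMap A (Localization T) s) * hyz
    rw [this]
    exact M.mul_mem_right _ hz
  obtain ⟨m', hm', hmm'⟩ := Ideal.exists_le_maximal m hm
  have hmax := AdicCompletion.isMaximal_map_of_le J m' (hJm.trans hmm') (IsNoetherian.noetherian J)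
  apply hmax.ne_top
  rw [eq_top_iff, ← htop]
  rw [← IsLocalization.map_under T (Localization T) M, Ideal.map_map, ← IsScalarTower.algebraMap_eq]
  exact Ideal.map_mono hmm'

/-- `A_p` is a local ring of `A_{1+J}` for a prime `p` below a prime of `Â`. -/
theorem disjoint_oneAdd (q : Ideal (AdicCompletion J A)) [hq : q.IsPrime] :
    Disjoint ((MonoidHom.mker (Ideal.Quotient.mk J) : Submonoid A) : Set A)
      (q.comap (algebraMap A (AdicCompletion J A)) : Set A) :=
  Set.disjoint_left.2 fun t ht htq => hq.ne_top (Ideal.eq_top_of_isUnit_mem _ htq (isUnit_of_mem_oneAdd J t ht))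

theorem nonempty_localization_disjoint {T : Submonoid A} (p : Ideal A) [p.IsPrime]
    (h : Disjoint (T : Set A) (p : Set A)) :
    ∃ (P : Ideal (Localization T)) (_ : P.IsPrime), Nonempty (Localization.AtPrime p ≃+* Localization.AtPrime P) := by
  let P := p.map (algebraMap A (Localization T))
  haveI hP : P.IsPrime := IsLocalization.isPrime_of_isPrime_disjoint T _ p inferInstance h
  refine ⟨P, hP, ?_⟩
  have hloc := IsLocalization.isLocalization_isLocalization_atPrime_isLocalization (M := T)
    (Localization.AtPrime P) P
  haveI : IsLocalization p.primeCompl (Localization.AtPrime P) := by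
    convert hloc using 1
    ext x
    exact not_congr (by rw [show P.comap (algebraMap A (Localization T)) = p from
      IsLocalization.comap_map_of_isPrime_disjoint T _ inferInstance h])
  exact ⟨(IsLocalization.algEquiv p.primeCompl (Localization.AtPrime p) (Localization.AtPrime P)).toRingEquiv⟩

end oneAdd

end Groth.Agent.EGA4Lib
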