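import Groth.Agent.EGA4Lib.JacFibre
import Groth.Agent.EGA4Lib.JacCompletion
import Groth.Agent.EGA4Lib.CompleteJ2
import Groth.Agent.RegLoc.Completion

/-!
# Formal fibres of complete Noetherian local domains (EGA IV 7.4.4)
-/

set_option autoImplicit false
set_option linter.style.haveILetI false

open IsLocalRing TensorProduct

namespace Groth.Agent.EGA4Lib.Jac

universe u

attribute [local instance 2000] Ring.toIntAlgebra

/-- The base of a Noether normalisation: characteristic zero, or enough derivations. -/
def IsBase (R : Type u) [CommRing R] [IsDomain R] : Prop :=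
  CharZero R ∨ ∃ p : ℕ, p.Prime ∧ CharP R p ∧ DerKernel.PKer p R (FractionRing R)

theorem isBase_mvPowerSeries {Λ : Type u} [CommRing Λ] (n : ℕ) [IsDomain (MvPowerSeries (Fin n) Λ)]
    (hΛ : IsField Λ ∨ CAlg.IsCohenRing Λ) : IsBase (MvPowerSeries (Fin n) Λ) := by
  rcases hΛ with hF | hC
  · letI : Field Λ := hF.toField
    obtain ⟨p, hp⟩ := CharP.exists Λ
    rcases CharP.char_is_prime_or_zero Λ p with hpp | rfl
    · haveI : Fact p.Prime := ⟨hpp⟩
      exact Or.inr ⟨p, hpp, charP_of_injective_algebraMap (algebraMap Λ _).injective p,
        DerKernel.pker_mvPowerSeries p n _⟩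
    · haveI : CharZero Λ := CharP.charP_to_charZero Λ
      exact Or.inl (charZero_of_injective_algebraMap (algebraMap Λ _).injective)
  · haveI := charZero_of_isCohenRing Λ hC
    exact Or.inl (charZero_of_injective_algebraMap (R := Λ) fun x y hxy => by
      simpa [MvPowerSeries.algebraMap_apply] using congrArg MvPowerSeries.constantCoeff hxy)

/-- The generic formal fibre of a local ring of a base is geometrically regular. -/
theorem isRegularRing_tensor_completion_of_base {R : Type u} [CommRing R] [IsDomain R] [IsRegularRing R]
    (hR : IsBase R) (q : Ideal R) [q.IsPrime] {K F : Type u} [Field K] [Algebra R K] [IsFractionRing R K]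
    [Field F] [Algebra R F] [Algebra (Localization.AtPrime q) F] [IsScalarTower R (Localization.AtPrime q) F]
    [Algebra K F] [IsScalarTower R K F] [Module.Finite K F] :
    IsRegularRing (F ⊗[Localization.AtPrime q]
      AdicCompletion (maximalIdeal (Localization.AtPrime q)) (Localization.AtPrime q)) := by
  let A := Localization.AtPrime q
  let C := AdicCompletion (maximalIdeal A) A
  haveI : IsRegularLocalRing A := IsRegularRing.isRegularLocalRing_localization q
  haveI : IsRegularLocalRing C :=
    (RegLoc.Completion.isRegularLocalRing_completion_iff A).1 inferInstance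
  haveI : IsRegularRing C := RegLoc.Homological.isRegularRing
  haveI : IsRegularRing (F ⊗[R] C) := by
    refine isRegularRing_tensor_of_base (K := K) ?_
    rcases hR with h0 | ⟨p, hp, hchar, hker⟩
    · exact Or.inl h0
    · refine Or.inr ⟨p, hp, hchar, fun x hx => ?_, fun D => ?_⟩
      · obtain ⟨y, hy⟩ := hker x hx
        refine ⟨IsLocalization.algEquiv (nonZeroDivisors R) (FractionRing R) K y, ?_⟩
        rw [← map_pow, hy, AlgEquiv.commutes]
      · obtain ⟨E₀, hE₀⟩ := EGA41Lib.NagataCrit.exists_extension_localization q.primeCompl (S := A)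
          (K := A) ((Algebra.linearMap R A).compDer D)
        obtain ⟨E, hE⟩ := exists_derivation_adicCompletion (maximalIdeal A) E₀
        refine ⟨E, fun r => ?_⟩
        rw [IsScalarTower.algebraMap_apply R A C, hE, hE₀, IsScalarTower.algebraMap_apply R A C]
        rfl
  exact IsRegularRing.of_ringEquiv
    (IsLocalization.algebraTensorEquiv q.primeCompl A F C).symm.toRingEquiv

/-- Formal fibres of the local rings of a finite algebra, from those of the base. -/
theorem isRegularRing_tensor_completion_of_finite_base {R D : Type u} [CommRing R] [IsNoetherianRing R]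
    [CommRing D] [Algebra R D] [Module.Finite R D] (P : Ideal D) [P.IsPrime]
    (L : Type u) [CommRing L] [IsLocalRing L] [IsNoetherianRing L] [Algebra D L]
    [IsLocalization.AtPrime L P] (K : Type u) [CommRing K] [Algebra R K] [Algebra D K] [IsScalarTower R D K]
    [Algebra L K] [IsScalarTower D L K]
    (hK : IsRegularRing (K ⊗[R] AdicCompletion (maximalIdeal (Localization.AtPrime (P.under R)))
      (Localization.AtPrime (P.under R)))) :
    IsRegularRing (K ⊗[L] AdicCompletion (maximalIdeal L) L) := by
  -- localise at `q = P ∩ R`
  let q := P.under R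
  let A := Localization.AtPrime q
  let S := Localization (Algebra.algebraMapSubmonoid D q.primeCompl)
  letI : Algebra A S := localizationAlgebra q.primeCompl D
  haveI : IsScalarTower R A S :=
    IsScalarTower.of_algebraMap_eq' (IsLocalization.map_comp (M := q.primeCompl) _).symm
  haveI : Module.Finite A S := Module.Finite.of_isLocalization R D q.primeCompl
  haveI : IsNoetherianRing A := IsLocalization.isNoetherianRing q.primeCompl _ inferInstance
  have hdisj : Disjoint (Algebra.algebraMapSubmonoid D q.primeCompl : Set D) (P : Set D) := by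
    rw [Set.disjoint_left]
    rintro _ ⟨a, ha, rfl⟩ hP'
    exact ha hP'
  let Q := P.map (algebraMap D S)
  haveI : Q.IsPrime := IsLocalization.isPrime_of_isPrime_disjoint _ S P inferInstance hdisj
  have hQP : Q.comap (algebraMap D S) = P :=
    IsLocalization.under_map_of_isPrime_disjoint _ S inferInstance hdisj
  haveI : Q.IsMaximal := by
    refine Ideal.isMaximal_of_isIntegral_of_isMaximal_comap (R := A) Q ?_
    have h1 : maximalIdeal A ≤ Q.comap (algebraMap A S) := by
      rw [← Localization.AtPrime.map_eq_maximalIdeal, Ideal.map_le_iff_le_comap, Ideal.comap_comap,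
        ← IsScalarTower.algebraMap_eq, IsScalarTower.algebraMap_eq R D S, ← Ideal.comap_comap, hQP]
    rw [← (maximalIdeal.isMaximal A).eq_of_le Ideal.IsPrime.ne_top' h1]
    infer_instance
  have huS : ∀ y : Algebra.algebraMapSubmonoid D q.primeCompl, IsUnit (algebraMap D L y) := fun y =>
    IsLocalization.map_units (M := P.primeCompl) L
      (⟨y.1, fun h => Set.disjoint_left.1 hdisj y.2 h⟩ : P.primeCompl)
  letI : Algebra S L := (IsLocalization.lift (M := Algebra.algebraMapSubmonoid D q.primeCompl) (S := S)
    huS).toAlgebra
  haveI : IsScalarTower D S L := IsScalarTower.of_algebraMap_eq fun x => (IsLocalization.lift_eq huS x).symm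
  have hle : Algebra.algebraMapSubmonoid D q.primeCompl ≤ P.primeCompl :=
    fun y hy h => Set.disjoint_left.1 hdisj hy h
  haveI : IsLocalization.AtPrime L Q := by
    haveI := IsLocalization.isLocalization_of_submonoid_le S L _ _ hle
    refine IsLocalization.of_le (P.primeCompl.map (algebraMap D S)) Q.primeCompl ?_ ?_
    · rintro _ ⟨y, hy, rfl⟩ h
      exact hy ((SetLike.ext_iff.1 hQP y).1 h)
    · intro r hr
      obtain ⟨b, m, rfl⟩ := IsLocalization.exists_mk'_eq (Algebra.algebraMapSubmonoid D q.primeCompl) r
      have hb : b ∈ P.primeCompl := fun h => hr (by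
        rw [IsLocalization.mk'_eq_mul_mk'_one]
        exact Ideal.mul_mem_right _ _ (Ideal.mem_map_of_mem _ h))
      have := congrArg (algebraMap S L) (IsLocalization.mk'_spec S b m)
      rw [map_mul, ← IsScalarTower.algebraMap_apply, ← IsScalarTower.algebraMap_apply] at this
      exact isUnit_of_mul_isUnit_left (this ▸ IsLocalization.map_units (M := P.primeCompl) L ⟨b, hb⟩)
  letI : Algebra S K := ((algebraMap L K).comp (algebraMap S L)).toAlgebra
  haveI : IsScalarTower S L K := IsScalarTower.of_algebraMap_eq fun _ => rfl
  letI : Algebra A K := ((algebraMap S K).comp (algebraMap A S)).toAlgebra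
  haveI : IsScalarTower A S K := IsScalarTower.of_algebraMap_eq fun _ => rfl
  haveI : IsScalarTower R A K := IsScalarTower.of_algebraMap_eq fun r => by
    show algebraMap R K r = algebraMap L K (algebraMap S L (algebraMap A S (algebraMap R A r)))
    rw [IsScalarTower.algebraMap_apply R D K, ← IsScalarTower.algebraMap_apply R A S, IsScalarTower.algebraMap_apply R D S,
      ← IsScalarTower.algebraMap_apply D S L, ← IsScalarTower.algebraMap_apply D L K]
  haveI : IsRegularRing (K ⊗[A] AdicCompletion (maximalIdeal A) A) := IsRegularRing.of_ringEquiv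
    (IsLocalization.algebraTensorEquiv q.primeCompl A K (AdicCompletion (maximalIdeal A) A)).symm.toRingEquiv
  exact isRegularRing_tensor_completion_of_finite (R := A) Q L K ‹_›

/-- The generic formal fibres of the local rings of a finite extension of a regular base. -/
theorem isRegularRing_tensor_completion_of_finite_isBase (R D : Type u) [CommRing R] [IsDomain R]
    [IsRegularRing R] (hR : IsBase R) [CommRing D] [IsDomain D] [Algebra R D] [Module.Finite R D]
    (hinj : Function.Injective (algebraMap R D)) (P : Ideal D) [P.IsPrime]
    (L : Type u) [CommRing L] [IsLocalRing L] [IsNoetherianRing L] [Algebra D L]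
    [IsLocalization.AtPrime L P] (κ K : Type u) [Field κ] [Algebra D κ] [IsFractionRing D κ] [Field K]
    [Algebra D K] [Algebra κ K] [IsScalarTower D κ K] [Module.Finite κ K] [Algebra L K]
    [IsScalarTower D L K] :
    IsRegularRing (K ⊗[L] AdicCompletion (maximalIdeal L) L) := by
  haveI : FaithfulSMul R D := (faithfulSMul_iff_algebraMap_injective R D).2 hinj
  haveI : Algebra.IsAlgebraic R D := Algebra.IsAlgebraic.of_finite R D
  -- `K` is finite over the fraction field of `R`
  let K₀ := FractionRing R
  letI : Algebra R κ := ((algebraMap D κ).comp (algebraMap R D)).toAlgebra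
  haveI : IsScalarTower R D κ := IsScalarTower.of_algebraMap_eq fun _ => rfl
  haveI : FaithfulSMul R κ := (faithfulSMul_iff_algebraMap_injective R κ).2
    ((IsFractionRing.injective D κ).comp hinj)
  letI : Algebra K₀ κ := FractionRing.liftAlgebra R κ
  haveI : IsScalarTower R K₀ κ := FractionRing.isScalarTower_liftAlgebra R κ
  haveI : Module.Finite K₀ κ := Module.Finite.of_isLocalization R D (nonZeroDivisors R)
  letI : Algebra R K := ((algebraMap D K).comp (algebraMap R D)).toAlgebra
  haveI : IsScalarTower R D K := IsScalarTower.of_algebraMap_eq fun _ => rfl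
  letI : Algebra K₀ K := ((algebraMap κ K).comp (algebraMap K₀ κ)).toAlgebra
  haveI : IsScalarTower K₀ κ K := IsScalarTower.of_algebraMap_eq fun _ => rfl
  haveI : IsScalarTower R K₀ K := IsScalarTower.of_algebraMap_eq fun r => by
    show algebraMap D K (algebraMap R D r) = algebraMap κ K (algebraMap K₀ κ (algebraMap R K₀ r))
    rw [← IsScalarTower.algebraMap_apply R K₀ κ, IsScalarTower.algebraMap_apply R D κ,
      ← IsScalarTower.algebraMap_apply D κ K]
  haveI : Module.Finite K₀ K := Module.Finite.trans κ K
  refine isRegularRing_tensor_completion_of_finite_base (R := R) P L K ?_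
  letI : Algebra (Localization.AtPrime (P.under R)) K :=
    (IsLocalization.lift (M := (P.under R).primeCompl) (S := Localization.AtPrime (P.under R))
      (g := algebraMap R K) fun y => isUnit_iff_ne_zero.2 (by
        rw [IsScalarTower.algebraMap_apply R K₀ K]
        exact (_root_.map_ne_zero _).2 ((map_ne_zero_iff _ (IsFractionRing.injective R K₀)).2
          fun h0 => y.2 (h0 ▸ Ideal.zero_mem _)))).toAlgebra
  haveI : IsScalarTower R (Localization.AtPrime (P.under R)) K :=
    IsScalarTower.of_algebraMap_eq fun r => (IsLocalization.lift_eq _ r).symm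
  haveI := isRegularRing_tensor_completion_of_base (F := K) hR (P.under R) (K := K₀)
  exact IsRegularRing.of_ringEquiv
    (IsLocalization.algebraTensorEquiv (P.under R).primeCompl (Localization.AtPrime (P.under R)) K
      (AdicCompletion (maximalIdeal (Localization.AtPrime (P.under R))) (Localization.AtPrime (P.under R)))).toRingEquiv

/-- The generic formal fibres of complete Noetherian local domains are geometrically regular. -/
theorem isRegularRing_tensor_completion_of_complete (D : Type u) [CommRing D] [IsDomain D]
    [IsLocalRing D] [IsNoetherianRing D] [IsAdicComplete (maximalIdeal D) D] (P : Ideal D) [P.IsPrime]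
    (L : Type u) [CommRing L] [IsLocalRing L] [IsNoetherianRing L] [Algebra D L]
    [IsLocalization.AtPrime L P] (κ K : Type u) [Field κ] [Algebra D κ] [IsFractionRing D κ] [Field K]
    [Algebra D K] [Algebra κ K] [IsScalarTower D κ K] [Module.Finite κ K] [Algebra L K]
    [IsScalarTower D L K] :
    IsRegularRing (K ⊗[L] AdicCompletion (maximalIdeal L) L) := by
  obtain ⟨Λ, _, _, n, f, hΛ, hinjf, hfinf, -, hreg, -⟩ := Nagata.Normalization.exists_normalization D
  let R := MvPowerSeries (Fin n) Λ
  haveI : IsDomain R := hinjf.isDomain f
  haveI : IsRegularLocalRing R := hreg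
  haveI : IsRegularRing R := RegLoc.Homological.isRegularRing
  letI : Algebra R D := f.toAlgebra
  haveI : Module.Finite R D := hfinf
  exact isRegularRing_tensor_completion_of_finite_isBase R D (isBase_mvPowerSeries n hΛ) hinjf P L κ K

end Groth.Agent.EGA4Lib.Jac
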