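import Groth.Agent.Depth.CM
import Groth.Agent.LocFlat.Basic
import Groth.Prelude.Def_EGA4b
import Mathlib.LinearAlgebra.TensorProduct.Quotient
import Mathlib.RingTheory.QuotSMulTop

/-!
# Depth of `N ⊗ M` for `N` flat over the base (EGA IV 6.3.1)
-/

set_option autoImplicit false
set_option linter.style.haveILetI false
set_option linter.unusedVariables false

universe u

open IsLocalRing TensorProduct
open scoped Pointwise

namespace Groth.Agent.EGA4Lib

variable {R S : Type u} [CommRing R] [CommRing S] [IsLocalRing R] [IsLocalRing S]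
  [IsNoetherianRing R] [IsNoetherianRing S] [Algebra R S] [IsLocalHom (algebraMap R S)]
  {N : Type u} [AddCommGroup N] [Module S N] [Module R N] [IsScalarTower R S N]
  {M : Type u} [AddCommGroup M] [Module R M]

omit [IsLocalRing R] [IsLocalRing S] [IsNoetherianRing R] [IsNoetherianRing S]
  [IsLocalHom (algebraMap R S)] in
theorem mem_map_smul_top_iff (I : Ideal R) (n : N) :
    n ∈ (I.map (algebraMap R S)) • (⊤ : Submodule S N) ↔ n ∈ I • (⊤ : Submodule R N) := by
  rw [← Submodule.restrictScalars_mem R, Ideal.smul_restrictScalars, Submodule.restrictScalars_top]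

omit [IsNoetherianRing R] in
/-- An element regular on the closed fibre is regular on `N ⊗ M`, with flat cokernel on `N`. -/
theorem isSMulRegular_of_fibre [Module.Finite S N] [Module.Flat R N] {y : S}
    (hy : IsSMulRegular (N ⧸ (maximalIdeal R).map (algebraMap R S) • (⊤ : Submodule S N)) y) :
    IsSMulRegular (N ⊗[R] M) y ∧ Module.Flat R (QuotSMulTop y N) := by
  let u : N →ₗ[R] N := (LinearMap.lsmul S N y).restrictScalars R
  have hk : Function.Injective (u.lTensor ((R ⧸ maximalIdeal R))) := by
    rw [injective_iff_map_eq_zero]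
    intro z hz
    have hz' : ∃ n : N, (1 : (R ⧸ maximalIdeal R)) ⊗ₜ[R] n = z := by
      clear hz
      induction z using TensorProduct.induction_on with
      | zero => exact ⟨0, TensorProduct.tmul_zero _ _⟩
      | tmul a n =>
        obtain ⟨r, rfl⟩ := Ideal.Quotient.mk_surjective a
        refine ⟨r • n, ?_⟩
        rw [TensorProduct.tmul_smul, TensorProduct.smul_tmul']
        congr 1
        simp [Algebra.smul_def]
      | add a b ha hb =>
        obtain ⟨m, rfl⟩ := ha
        obtain ⟨m', rfl⟩ := hb
        exact ⟨m + m', TensorProduct.tmul_add _ _ _⟩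
    obtain ⟨n, rfl⟩ := hz'
    let e := quotTensorEquivQuotSMul N (maximalIdeal R)
    have he : ∀ n : N, e ((1 : (R ⧸ maximalIdeal R)) ⊗ₜ[R] n) = Submodule.Quotient.mk n := fun n => by
      have : ((1 : R ⧸ maximalIdeal R)) = Ideal.Quotient.mk _ (1 : R) := (map_one _).symm
      show e ((1 : R ⧸ maximalIdeal R) ⊗ₜ[R] n) = _
      rw [this, quotTensorEquivQuotSMul_mk_tmul, one_smul]
    rw [LinearMap.lTensor_tmul] at hz
    have h1 := congr_arg e hz
    rw [map_zero, he] at h1
    rw [Submodule.Quotient.mk_eq_zero, ← mem_map_smul_top_iff (S := S)] at h1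
    have h2 : y • (Submodule.Quotient.mk n :
        N ⧸ (maximalIdeal R).map (algebraMap R S) • (⊤ : Submodule S N)) = 0 := by
      rw [← Submodule.Quotient.mk_smul, Submodule.Quotient.mk_eq_zero]; exact h1
    have h3 := (isSMulRegular_iff_right_eq_zero_of_smul.mp hy) _ h2
    rw [Submodule.Quotient.mk_eq_zero, mem_map_smul_top_iff (S := S)] at h3
    apply e.injective
    rw [map_zero, he]
    exact (Submodule.Quotient.mk_eq_zero _).2 h3
  obtain ⟨hinj, hflat⟩ := LocFlat.injective_and_flat_coker (S := S) u hk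
  have hrange : ∀ n : N, n ∈ LinearMap.range u ↔ n ∈ y • (⊤ : Submodule S N) := fun n => by
    simp [u, LinearMap.mem_range, Submodule.mem_smul_pointwise_iff_exists]
  constructor
  · haveI := hflat
    have h := LocFlat.lTensor_injective_of_flat_coker u (LinearMap.range u).mkQ
      u.exact_map_mkQ_range (Submodule.mkQ_surjective _) hinj M
    rw [LinearMap.lTensor_inj_iff_rTensor_inj] at h
    refine isSMulRegular_iff_right_eq_zero_of_smul.mpr fun z hz => h (?_ : u.rTensor M z = u.rTensor M 0)
    rw [map_zero, ← hz]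
    clear hz
    induction z using TensorProduct.induction_on with
    | zero => simp
    | tmul n m => simp [u, TensorProduct.smul_tmul']
    | add a b ha hb => rw [map_add, smul_add, ha, hb]
  · haveI := hflat
    exact Module.Flat.of_linearEquiv (M := N ⧸ LinearMap.range u)
      ((Submodule.Quotient.restrictScalarsEquiv R (y • (⊤ : Submodule S N))).symm ≪≫ₗ
        Submodule.quotEquivOfEq _ _ (by ext n; exact (hrange n).symm))

omit [IsLocalRing R] [IsLocalRing S] [IsNoetherianRing R] [IsNoetherianRing S]
  [IsLocalHom (algebraMap R S)] in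
theorem exact_smul_left (y : S) (P : Submodule S N) (hP : ∀ n, n ∈ P ↔ ∃ w, y • w = n)
    (z : N ⊗[R] M) :
    (P.mkQ.restrictScalars R).rTensor M z = 0 ↔ ∃ w : N ⊗[R] M, y • w = z := by
  let f : N →ₗ[R] N := (LinearMap.lsmul S N y).restrictScalars R
  have hq : Function.Surjective (P.mkQ.restrictScalars R) := Submodule.mkQ_surjective P
  have hf : ∀ w, f w = y • w := fun _ => rfl
  have hex : Function.Exact f (P.mkQ.restrictScalars R) := fun n =>
    (Submodule.Quotient.mk_eq_zero P).trans (hP n)
  have hu : ∀ w : N ⊗[R] M, f.rTensor M w = y • w := fun w => by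
    clear_value f
    induction w using TensorProduct.induction_on with
    | zero => rw [map_zero, smul_zero]
    | tmul n m => rw [LinearMap.rTensor_tmul, hf, TensorProduct.smul_tmul']
    | add a b ha hb => rw [map_add, smul_add, ha, hb]
  refine ((rTensor_exact M hex hq) z).trans ⟨?_, ?_⟩
  · rintro ⟨w, hw⟩
    exact ⟨w, by rw [← hu w, hw]⟩
  · rintro ⟨w, hw⟩
    exact ⟨w, by rw [hu w, hw]⟩

omit [IsLocalRing R] [IsLocalRing S] [IsNoetherianRing R] [IsNoetherianRing S]
  [IsLocalHom (algebraMap R S)] in
/-- `(N ⊗ M)/y ≅ (N/P) ⊗ M` for `P = yN`. -/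
noncomputable def quotSMulTopTensorLeftAux (y : S) (P : Submodule S N)
    (hP : ∀ n, n ∈ P ↔ ∃ w, y • w = n) : QuotSMulTop y (N ⊗[R] M) ≃ₗ[S] (N ⧸ P) ⊗[R] M :=
  Depth.quotSMulTopEquivOfExact (R := S) (M := N ⊗[R] M) y
    (AlgebraTensorModule.map P.mkQ (LinearMap.id : M →ₗ[R] M))
    (have h1 : Function.Surjective (P.mkQ.restrictScalars R) := Submodule.mkQ_surjective P
     have h2 : Function.Surjective (LinearMap.id : M →ₗ[R] M) := Function.surjective_id
     TensorProduct.map_surjective h1 h2)
    (exact_smul_left y P hP)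

omit [IsLocalRing R] [IsLocalRing S] [IsNoetherianRing R] [IsNoetherianRing S]
  [IsLocalHom (algebraMap R S)] in
theorem exact_smul_right (x : R) (z : N ⊗[R] M) :
    (Submodule.mkQ (x • (⊤ : Submodule R M))).lTensor N z = 0 ↔
      ∃ w : N ⊗[R] M, algebraMap R S x • w = z := by
  have hex : Function.Exact (LinearMap.lsmul R M x) (Submodule.mkQ (x • (⊤ : Submodule R M))) :=
    fun n => (Submodule.Quotient.mk_eq_zero _).trans
      ((Submodule.mem_smul_pointwise_iff_exists _ _ _).trans
        ⟨fun ⟨w, _, h⟩ => ⟨w, h⟩, fun ⟨w, h⟩ => ⟨w, trivial, h⟩⟩)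
  have hu : ∀ w : N ⊗[R] M, (LinearMap.lsmul R M x).lTensor N w = algebraMap R S x • w := fun w => by
    induction w using TensorProduct.induction_on with
    | zero => simp
    | tmul n m => simp [TensorProduct.smul_tmul', TensorProduct.tmul_smul]
    | add a b ha hb => rw [map_add, smul_add, ha, hb]
  refine (lTensor_exact N hex (Submodule.mkQ_surjective _) z).trans ?_
  simp only [Set.mem_range, hu]

omit [IsLocalRing R] [IsLocalRing S] [IsNoetherianRing R] [IsNoetherianRing S]
  [IsLocalHom (algebraMap R S)] in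
/-- `(N ⊗ M)/y ≅ (N/yN) ⊗ M`. -/
noncomputable def quotSMulTopTensorLeft (y : S) :
    QuotSMulTop y (N ⊗[R] M) ≃ₗ[S] (QuotSMulTop y N) ⊗[R] M :=
  quotSMulTopTensorLeftAux y (y • ⊤) fun n => (Submodule.mem_smul_pointwise_iff_exists _ _ _).trans
    ⟨fun ⟨w, _, h⟩ => ⟨w, h⟩, fun ⟨w, h⟩ => ⟨w, trivial, h⟩⟩

omit [IsLocalRing R] [IsLocalRing S] [IsNoetherianRing R] [IsNoetherianRing S]
  [IsLocalHom (algebraMap R S)] in
/-- `(N ⊗ M)/x ≅ N ⊗ (M/xM)` for `x` in the base. -/
noncomputable def quotSMulTopTensorRight (x : R) :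
    QuotSMulTop (algebraMap R S x) (N ⊗[R] M) ≃ₗ[S] N ⊗[R] (QuotSMulTop x M) :=
  let q : M →ₗ[R] QuotSMulTop x M := Submodule.mkQ (x • (⊤ : Submodule R M))
  let g : N ⊗[R] M →ₗ[S] N ⊗[R] (QuotSMulTop x M) :=
    AlgebraTensorModule.map (LinearMap.id : N →ₗ[S] N) q
  Depth.quotSMulTopEquivOfExact (R := S) (M := N ⊗[R] M) (algebraMap R S x) g
    (have h1 : Function.Surjective (LinearMap.id : N →ₗ[R] N) := Function.surjective_id
     have h2 : Function.Surjective q := Submodule.mkQ_surjective _
     TensorProduct.map_surjective h1 h2)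
    (exact_smul_right x)

omit [IsLocalHom (algebraMap R S)] in
theorem depth_tensor_zero [Module.Finite S N] [Module.Flat R N] [Module.Finite R M]
    (hM : LocCoh.depth R M = 0)
    (hN : LocCoh.depth S (N ⧸ (maximalIdeal R).map (algebraMap R S) • (⊤ : Submodule S N)) = 0) :
    LocCoh.depth S (N ⊗[R] M) = 0 := by
  haveI := LocFlat.finite_tensor (R := R) (S := S) N M
  rw [Depth.depth_eq_idealDepth, Depth.idealDepth_eq_zero_iff] at hN ⊢
  rw [Depth.depth_eq_idealDepth, Depth.idealDepth_eq_zero_iff] at hM
  obtain ⟨p, hp, hpm⟩ := hM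
  obtain rfl : maximalIdeal R = p :=
    (maximalIdeal.isMaximal R).eq_of_le (Depth.isPrime_of_mem_associatedPrimes hp).ne_top hpm
  obtain ⟨-, z, hz⟩ := isAssociatedPrime_iff.mp hp
  have hmz : ∀ r : R, r ∈ maximalIdeal R ↔ r • z = 0 := fun r => by
    rw [hz]; simp [Submodule.mem_colon]
  let i : R ⧸ maximalIdeal R →ₗ[R] M :=
    Submodule.liftQ (maximalIdeal R) (LinearMap.toSpanSingleton R M z) fun r hr => by
      simpa using (hmz r).1 hr
  have hi : Function.Injective i := by
    rw [injective_iff_map_eq_zero]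
    intro a ha
    obtain ⟨r, rfl⟩ := Submodule.Quotient.mk_surjective _ a
    exact (Submodule.Quotient.mk_eq_zero _).2 ((hmz r).2 ha)
  let φ : N →ₗ[S] N ⊗[R] M := (AlgebraTensorModule.mk R S N M).flip z
  have hφker : ∀ n : N, φ n = 0 ↔ n ∈ (maximalIdeal R).map (algebraMap R S) • (⊤ : Submodule S N) := by
    intro n
    rw [mem_map_smul_top_iff]
    have h1 : φ n = i.lTensor N (n ⊗ₜ[R] (Submodule.Quotient.mk (1 : R))) := by
      show n ⊗ₜ[R] z = n ⊗ₜ[R] ((1 : R) • z)
      rw [one_smul]
    rw [h1, map_eq_zero_iff _ (Module.Flat.lTensor_preserves_injective_linearMap i hi),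
      ← (tensorQuotEquivQuotSMul N (maximalIdeal R)).map_eq_zero_iff]
    have h2 : tensorQuotEquivQuotSMul N (maximalIdeal R) (n ⊗ₜ[R] Submodule.Quotient.mk (1 : R)) =
        Submodule.Quotient.mk n := by
      rw [show (Submodule.Quotient.mk (1 : R) : R ⧸ maximalIdeal R) = Ideal.Quotient.mk _ 1 from rfl,
        tensorQuotEquivQuotSMul_tmul_mk, one_smul]
    rw [h2, Submodule.Quotient.mk_eq_zero]
  let ψ := Submodule.liftQ _ φ fun n hn => LinearMap.mem_ker.2 ((hφker n).2 hn)
  have hψ : Function.Injective ψ := by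
    rw [injective_iff_map_eq_zero]
    intro a ha
    obtain ⟨n, rfl⟩ := Submodule.Quotient.mk_surjective _ a
    exact (Submodule.Quotient.mk_eq_zero _).2 ((hφker n).1 (by simpa [ψ] using ha))
  obtain ⟨q, hq, hqm⟩ := hN
  exact ⟨q, associatedPrimes.subset_of_injective hψ hq, hqm⟩

theorem depth_tensor_base [Module.Finite S N] [Module.Flat R N]
    (hN : LocCoh.depth S (N ⧸ (maximalIdeal R).map (algebraMap R S) • (⊤ : Submodule S N)) = 0) :
    ∀ (d : ℕ) (M : Type u) [AddCommGroup M] [Module R M] [Module.Finite R M],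
      LocCoh.depth R M = d → LocCoh.depth S (N ⊗[R] M) = d := by
  intro d
  induction d with
  | zero => intro M _ _ _ hd; exact depth_tensor_zero hd hN
  | succ d ih =>
    intro M _ _ _ hd
    obtain ⟨x, hx, hreg⟩ := Depth.exists_isSMulRegular_of_one_le_idealDepth (I := maximalIdeal R) (M := M)
      (by rw [← Depth.depth_eq_idealDepth, hd]; exact_mod_cast Nat.succ_pos d)
    have hxS : algebraMap R S x ∈ maximalIdeal S := map_nonunit (algebraMap R S) x hx
    have hd' : LocCoh.depth R (QuotSMulTop x M) = d := by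
      have := Depth.idealDepth_quotSMulTop_add_one hx hreg
      rw [← Depth.depth_eq_idealDepth, ← Depth.depth_eq_idealDepth, hd] at this
      push_cast at this
      exact WithTop.add_right_cancel ENat.one_ne_top this
    haveI := LocFlat.finite_tensor (R := R) (S := S) N M
    have hregS : IsSMulRegular (N ⊗[R] M) (algebraMap R S x) := by
      refine isSMulRegular_iff_right_eq_zero_of_smul.mpr fun z hz => ?_
      refine Module.Flat.lTensor_preserves_injective_linearMap (M := N) (LinearMap.lsmul R M x) hreg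
        (?_ : (LinearMap.lsmul R M x).lTensor N z = (LinearMap.lsmul R M x).lTensor N 0)
      rw [map_zero, ← hz]
      clear hz
      induction z using TensorProduct.induction_on with
      | zero => simp
      | tmul n m => simp [TensorProduct.smul_tmul', TensorProduct.tmul_smul]
      | add a b ha hb => rw [map_add, smul_add, ha, hb]
    rw [Depth.depth_eq_idealDepth, ← Depth.idealDepth_quotSMulTop_add_one hxS hregS,
      Depth.idealDepth_congr (quotSMulTopTensorRight x), ← Depth.depth_eq_idealDepth, ih _ hd']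
    push_cast
    rfl

theorem depth_tensor_aux [Module.Finite R M] : ∀ (k : ℕ) (N : Type u) [AddCommGroup N] [Module S N]
    [Module R N] [IsScalarTower R S N] [Module.Finite S N] [Module.Flat R N],
    LocCoh.depth S (N ⧸ (maximalIdeal R).map (algebraMap R S) • (⊤ : Submodule S N)) = k →
      LocCoh.depth S (N ⊗[R] M) = LocCoh.depth R M + k := by
  intro k
  induction k with
  | zero =>
    intro N _ _ _ _ _ _ hN
    rcases subsingleton_or_nontrivial M with hM | hM
    · haveI := LocFlat.finite_tensor (R := R) (S := S) N M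
      haveI : Subsingleton (N ⊗[R] M) := by
        refine subsingleton_of_forall_eq 0 fun z => ?_
        induction z using TensorProduct.induction_on with
        | zero => rfl
        | tmul n m => rw [Subsingleton.elim m 0, TensorProduct.tmul_zero]
        | add a b ha hb => rw [ha, hb, add_zero]
      rw [Depth.depth_eq_idealDepth, Depth.depth_eq_idealDepth,
        Depth.idealDepth_eq_top_of_subsingleton, Depth.idealDepth_eq_top_of_subsingleton]
      simp
    · obtain ⟨d, hd⟩ := ENat.ne_top_iff_exists.mp (Depth.depth_lt_top (R := R) (M := M)).ne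
      rw [depth_tensor_base hN d M hd.symm, ← hd]
      simp
  | succ k ih =>
    intro N _ _ _ _ _ _ hN
    obtain ⟨y, hy, hreg⟩ := Depth.exists_isSMulRegular_of_one_le_idealDepth (I := maximalIdeal S)
      (M := N ⧸ (maximalIdeal R).map (algebraMap R S) • (⊤ : Submodule S N))
      (by rw [← Depth.depth_eq_idealDepth, hN]; exact_mod_cast Nat.succ_pos k)
    obtain ⟨hregT, hflat⟩ := isSMulRegular_of_fibre (M := M) hreg
    haveI := hflat
    set J := (maximalIdeal R).map (algebraMap R S) with hJ
    let g : (N ⧸ J • (⊤ : Submodule S N)) →ₗ[S]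
        (QuotSMulTop y N ⧸ J • (⊤ : Submodule S (QuotSMulTop y N))) :=
      Submodule.mapQ _ _ (Submodule.mkQ (y • (⊤ : Submodule S N)))
        (Submodule.map_le_iff_le_comap.1 (by
          rw [Submodule.map_smul'', Submodule.map_top, Submodule.range_mkQ]))
    have hg : Function.Surjective g := fun a => by
      obtain ⟨b, rfl⟩ := Submodule.Quotient.mk_surjective _ a
      obtain ⟨c, rfl⟩ := Submodule.Quotient.mk_surjective _ b
      exact ⟨Submodule.Quotient.mk c, rfl⟩
    let e := Depth.quotSMulTopEquivOfExact y g hg fun a => by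
      obtain ⟨n, rfl⟩ := Submodule.Quotient.mk_surjective _ a
      constructor
      · intro h
        have h' : Submodule.mkQ (y • (⊤ : Submodule S N)) n ∈
            (J • (⊤ : Submodule S N)).map (Submodule.mkQ (y • (⊤ : Submodule S N))) := by
          rw [Submodule.map_smul'', Submodule.map_top, Submodule.range_mkQ]
          exact (Submodule.Quotient.mk_eq_zero _).1 h
        obtain ⟨j, hj, hjn⟩ := h'
        obtain ⟨w, -, hw⟩ := (Submodule.mem_smul_pointwise_iff_exists _ _ _).1
          ((Submodule.Quotient.eq _).1 hjn)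
        refine ⟨-Submodule.Quotient.mk w, ?_⟩
        rw [smul_neg, ← Submodule.Quotient.mk_smul, hw, Submodule.Quotient.mk_sub,
          (Submodule.Quotient.mk_eq_zero _).2 hj]
        simp
      · rintro ⟨b, hb⟩
        obtain ⟨w, rfl⟩ := Submodule.Quotient.mk_surjective _ b
        rw [← hb, map_smul]
        show Submodule.Quotient.mk (y • Submodule.mkQ (y • (⊤ : Submodule S N)) w) = 0
        rw [← map_smul, Submodule.mkQ_apply, (Submodule.Quotient.mk_eq_zero _).2
          (Submodule.smul_mem_pointwise_smul w y ⊤ trivial)]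
        rfl
    have hk : LocCoh.depth S (QuotSMulTop y N ⧸ J • (⊤ : Submodule S (QuotSMulTop y N))) = k := by
      have := Depth.idealDepth_quotSMulTop_add_one hy hreg
      rw [Depth.idealDepth_congr e, ← Depth.depth_eq_idealDepth, ← Depth.depth_eq_idealDepth, hN] at this
      push_cast at this
      exact WithTop.add_right_cancel ENat.one_ne_top this
    haveI := LocFlat.finite_tensor (R := R) (S := S) N M
    rw [Depth.depth_eq_idealDepth, ← Depth.idealDepth_quotSMulTop_add_one hy hregT,
      Depth.idealDepth_congr (quotSMulTopTensorLeft y), ← Depth.depth_eq_idealDepth, ih _ hk]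
    push_cast
    rw [add_assoc]

/-- `depth (N ⊗ M) = depth M + depth (N/mN)`. -/
theorem depth_tensor_of_flat [Module.Finite S N] [Module.Flat R N] [Module.Finite R M] :
    LocCoh.depth S (N ⊗[R] M) = LocCoh.depth R M +
      LocCoh.depth S (N ⧸ (maximalIdeal R).map (algebraMap R S) • (⊤ : Submodule S N)) := by
  set J := (maximalIdeal R).map (algebraMap R S) with hJ
  rcases subsingleton_or_nontrivial (N ⧸ J • (⊤ : Submodule S N)) with h | h
  · have htop : J • (⊤ : Submodule S N) = ⊤ := Submodule.Quotient.subsingleton_iff.mp h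
    haveI : Subsingleton N := by
      by_contra hN
      rw [not_subsingleton_iff_nontrivial] at hN
      refine Depth.smul_top_ne_top_of_le_maximalIdeal ?_ htop
      exact ((IsLocalRing.local_hom_TFAE (algebraMap R S)).out 0 2).mp ‹_›
    haveI := LocFlat.finite_tensor (R := R) (S := S) N M
    haveI : Subsingleton (N ⊗[R] M) := by
      refine subsingleton_of_forall_eq 0 fun z => ?_
      induction z using TensorProduct.induction_on with
      | zero => rfl
      | tmul n m => rw [Subsingleton.elim n 0, TensorProduct.zero_tmul]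
      | add a b ha hb => rw [ha, hb, add_zero]
    rw [Depth.depth_eq_idealDepth (M := N ⊗[R] M), Depth.idealDepth_eq_top_of_subsingleton,
      Depth.depth_eq_idealDepth (M := N ⧸ J • (⊤ : Submodule S N)),
      Depth.idealDepth_eq_top_of_subsingleton]
    simp
  · obtain ⟨k, hk⟩ := ENat.ne_top_iff_exists.mp
      (Depth.depth_lt_top (R := S) (M := N ⧸ J • (⊤ : Submodule S N))).ne
    rw [depth_tensor_aux k N hk.symm, ← hk]

end Groth.Agent.EGA4Lib
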