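import Groth.Agent.RegLoc.Serre
import Groth.Agent.RegLoc.NormalLocus
import Groth.Agent.EGA4Lib.RegLocus
import Mathlib.RingTheory.LocalProperties.IntegrallyClosed

/-!
# The normal locus
-/

set_option autoImplicit false
set_option linter.style.haveILetI false

open IsLocalRing

namespace Groth.Agent.EGA4Lib

universe u

variable {A : Type u} [CommRing A]

theorem mem_norLocus_of_mem_regLocus [IsNoetherianRing A] {p : PrimeSpectrum A}
    (h : p ∈ EGA4.regLocus A) : p ∈ EGA4.norLocus A := by
  let L := Localization.AtPrime p.asIdeal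
  haveI : IsRegularLocalRing L := h
  haveI : IsRegularRing L := RegLoc.Homological.isRegularRing
  have hserre := (RegLoc.Serre.serre_criterion (R := L)).2 ⟨fun q _ _ =>
    IsRegularRing.isRegularLocalRing_localization q, fun q _ => by
      haveI : IsRegularLocalRing (Localization.AtPrime q) :=
        IsRegularRing.isRegularLocalRing_localization q
      haveI := Depth.isCohenMacaulayLocalRing_of_isRegularLocalRing (R := Localization.AtPrime q)
      rw [RegLoc.Serre.supportDim_localizedModule_self, RegLoc.Serre.depth_localizedModule_self,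
        ← IsLocalization.AtPrime.ringKrullDim_eq_height q (Localization.AtPrime q),
        ← Module.supportDim_self_eq_ringKrullDim,
        (Depth.isCohenMacaulayModule_self (Localization.AtPrime q))]
      exact min_le_right _ _⟩
  haveI := RegLoc.isDomain L
  exact ⟨inferInstance, IsIntegrallyClosed.of_localization_maximal fun q _ _ => (hserre q).2⟩

theorem mem_norLocus_of_le {p q : PrimeSpectrum A} (hp : p ∈ EGA4.norLocus A) (hle : q ≤ p) :
    q ∈ EGA4.norLocus A := by
  haveI := hp.1
  haveI := hp.2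
  let Lp := Localization.AtPrime p.asIdeal
  let e := IsLocalization.AtPrime.primeSpectrumOrderIso Lp p.asIdeal
  let Q := e.symm ⟨q, hle⟩
  have hQ : Q.asIdeal.comap (algebraMap A Lp) = q.asIdeal :=
    congr_arg (fun x => x.1.asIdeal) (e.apply_symm_apply ⟨q, hle⟩)
  haveI : IsLocalization.AtPrime (Localization.AtPrime Q.asIdeal) q.asIdeal := by
    have := IsLocalization.isLocalization_isLocalization_atPrime_isLocalization p.asIdeal.primeCompl
      (Localization.AtPrime Q.asIdeal) Q.asIdeal
    have heq : (Q.asIdeal.comap (algebraMap A Lp)).primeCompl = q.asIdeal.primeCompl := by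
      ext x; exact not_congr (by rw [hQ])
    show IsLocalization q.asIdeal.primeCompl _
    rw [← heq]
    exact this
  let e' := (IsLocalization.algEquiv q.asIdeal.primeCompl (Localization.AtPrime q.asIdeal)
    (Localization.AtPrime Q.asIdeal)).toRingEquiv
  haveI : IsDomain (Localization.AtPrime Q.asIdeal) :=
    IsLocalization.isDomain_localization (Ideal.primeCompl_le_nonZeroDivisors Q.asIdeal)
  haveI : IsIntegrallyClosed (Localization.AtPrime Q.asIdeal) :=
    isIntegrallyClosed_of_isLocalization _ Q.asIdeal.primeCompl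
      (Ideal.primeCompl_le_nonZeroDivisors Q.asIdeal)
  exact ⟨e'.toMulEquiv.isDomain _, IsIntegrallyClosed.of_equiv e'.symm⟩

theorem mem_norLocus_away (f : A) (Q : PrimeSpectrum (Localization.Away f)) :
    Q ∈ EGA4.norLocus (Localization.Away f) ↔
      PrimeSpectrum.comap (algebraMap A (Localization.Away f)) Q ∈ EGA4.norLocus A := by
  let e := (IsLocalization.localizationLocalizationAtPrimeIsoLocalization (Submonoid.powers f)
    Q.asIdeal).toRingEquiv
  constructor
  · rintro ⟨h1, h2⟩
    exact ⟨e.toMulEquiv.isDomain _, IsIntegrallyClosed.of_equiv e.symm⟩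
  · rintro ⟨h1, h2⟩
    haveI : IsDomain (Localization.AtPrime (Q.asIdeal.comap (algebraMap A (Localization.Away f)))) := h1
    haveI : IsIntegrallyClosed
      (Localization.AtPrime (Q.asIdeal.comap (algebraMap A (Localization.Away f)))) := h2
    exact ⟨e.symm.toMulEquiv.isDomain _, IsIntegrallyClosed.of_equiv e⟩

theorem exists_notMem_forall_mul_eq_zero [IsNoetherianRing A] {p : Ideal A} [p.IsPrime]
    (hp : IsDomain (Localization.AtPrime p)) :
    ∃ (P : Ideal A) (_ : P ∈ minimalPrimes A), P ≤ p ∧ ∃ g ∉ p, ∀ x ∈ P, g * x = 0 := by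
  classical
  let P : Ideal A := RingHom.ker (algebraMap A (Localization.AtPrime p))
  haveI : P.IsPrime := RingHom.ker_isPrime _
  have hPp : P ≤ p := fun x hx => by
    by_contra hxp
    exact (IsLocalization.map_units (Localization.AtPrime p) (⟨x, hxp⟩ : p.primeCompl)).ne_zero hx
  have hkill : ∀ x ∈ P, ∃ s ∉ p, s * x = 0 := fun x hx => by
    obtain ⟨⟨s, hs⟩, h⟩ := (IsLocalization.map_eq_zero_iff p.primeCompl _ x).1 hx
    exact ⟨s, hs, h⟩
  obtain ⟨G, hG⟩ := IsNoetherian.noetherian P
  choose s hs hs0 using hkill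
  have hkill := fun x hx => (⟨s x hx, hs x hx, hs0 x hx⟩ : ∃ s ∉ p, s * x = 0)
  let g : A := ∏ x ∈ G.attach, s x.1 (hG ▸ Submodule.subset_span x.2)
  have hg : g ∉ p := fun h => by
    obtain ⟨x, -, hx⟩ := Ideal.IsPrime.prod_mem_iff.1 h
    exact hs _ _ hx
  refine ⟨P, ⟨⟨inferInstance, bot_le⟩, fun Q hQ hQP x hx => ?_⟩, hPp, g, hg, ?_⟩
  · haveI := hQ.1
    have := hkill x hx
    by_contra hxQ
    exact (hs x hx) (hPp (hQP ((hQ.1.mem_or_mem (show s x hx * x ∈ Q by
      rw [hs0 x hx]; exact Q.zero_mem)).resolve_right hxQ)))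
  · intro x hx
    rw [← hG] at hx
    induction hx using Submodule.span_induction with
    | mem y hy =>
      rw [show g = _ from Finset.prod_eq_mul_prod_sdiff_singleton_of_mem (Finset.mem_attach _ ⟨y, hy⟩) _,
        mul_right_comm, hs0, zero_mul]
    | zero => exact mul_zero _
    | add a b _ _ ha hb => rw [mul_add, ha, hb, add_zero]
    | smul c a _ ha => rw [smul_eq_mul, mul_left_comm, ha, mul_zero]

theorem isDomain_away {P : Ideal A} [P.IsPrime] {g : A} (hgP : g ∉ P)
    (h : ∀ x ∈ P, g * x = 0) : IsDomain (Localization.Away g) := by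
  have hzero : ∀ a ∈ P, algebraMap A (Localization.Away g) a = 0 := fun a ha =>
    (IsLocalization.map_eq_zero_iff (Submonoid.powers g) _ a).2
      ⟨⟨g, Submonoid.mem_powers g⟩, h a ha⟩
  have hnon : ∀ a : A, algebraMap A (Localization.Away g) a = 0 → a ∈ P := fun a ha => by
    obtain ⟨⟨_, n, rfl⟩, hn⟩ := (IsLocalization.map_eq_zero_iff (Submonoid.powers g) _ a).1 ha
    exact (Ideal.IsPrime.mem_or_mem ‹_› (show g ^ n * a ∈ P by rw [hn]; exact P.zero_mem)).resolve_left
      fun h' => hgP (Ideal.IsPrime.mem_of_pow_mem ‹_› n h')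
  haveI : Nontrivial (Localization.Away g) := ⟨⟨0, 1, fun h01 => by
    have := hnon 1 (by rw [map_one]; exact h01.symm)
    exact (Ideal.IsPrime.ne_top ‹_›) ((Ideal.eq_top_iff_one P).2 this)⟩⟩
  haveI : NoZeroDivisors (Localization.Away g) := ⟨fun {a b} hab => by
    obtain ⟨⟨x, s⟩, hx⟩ := IsLocalization.surj (Submonoid.powers g) a
    obtain ⟨⟨y, t⟩, hy⟩ := IsLocalization.surj (Submonoid.powers g) b
    have : algebraMap A (Localization.Away g) (x * y) = 0 := by
      rw [map_mul, ← hx, ← hy]
      linear_combination (algebraMap A (Localization.Away g) s *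
        algebraMap A (Localization.Away g) t) * hab
    rcases (Ideal.IsPrime.mem_or_mem ‹_› (hnon _ this)) with h' | h'
    · left
      rw [hzero x h'] at hx
      exact (IsUnit.mul_left_eq_zero (IsLocalization.map_units _ s)).1 hx
    · right
      rw [hzero y h'] at hy
      exact (IsUnit.mul_left_eq_zero (IsLocalization.map_units _ t)).1 hy⟩
  exact NoZeroDivisors.to_isDomain _

theorem isIntegrallyClosed_away [IsNoetherianRing A] (D : Type u) [CommRing D] [IsDomain D] (f : D)
    (hf : f ≠ 0) (h : ∀ q : PrimeSpectrum D, f ∉ q.asIdeal → q ∈ EGA4.norLocus D) :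
    IsIntegrallyClosed (Localization.Away f) := by
  haveI : IsDomain (Localization.Away f) :=
    IsLocalization.isDomain_localization (powers_le_nonZeroDivisors_of_noZeroDivisors hf)
  refine IsIntegrallyClosed.of_localization_maximal fun q _ hq => ?_
  refine ((mem_norLocus_away f ⟨q, inferInstance⟩).2 (h _ ?_)).2
  intro hfq
  exact (Ideal.IsPrime.ne_top (I := q) inferInstance)
    (Ideal.eq_top_of_isUnit_mem _ hfq (IsLocalization.Away.algebraMap_isUnit f))

/-- The normal locus is open iff it contains a neighbourhood of each of its minimal points. -/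
theorem isOpen_norLocus_iff [IsNoetherianRing A] :
    IsOpen (EGA4.norLocus A) ↔
      ∀ p : PrimeSpectrum A, p.asIdeal ∈ minimalPrimes A → p ∈ EGA4.norLocus A →
        ∃ U : Set (PrimeSpectrum A), IsOpen U ∧ p ∈ U ∧ U ⊆ EGA4.norLocus A := by
  refine ⟨fun h p _ hp => ⟨_, h, hp, subset_rfl⟩, fun h => isOpen_iff_forall_mem_open.2 fun p hp => ?_⟩
  haveI := p.isPrime
  obtain ⟨P, hPmin, hPp, g, hg, hg0⟩ := exists_notMem_forall_mul_eq_zero (p := p.asIdeal) hp.1
  haveI : P.IsPrime := hPmin.1.1
  have hgP : g ∉ P := fun h' => hg (hPp h')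
  let D := Localization.Away g
  haveI : IsDomain D := isDomain_away hgP hg0
  haveI : IsNoetherianRing D := IsLocalization.isNoetherianRing (Submonoid.powers g) D inferInstance
  obtain ⟨U, hU, hPU, hsub⟩ := h ⟨P, inferInstance⟩ hPmin (mem_norLocus_of_le hp hPp)
  let c := PrimeSpectrum.comap (algebraMap A D)
  have hbot : c ⟨⊥, Ideal.isPrime_bot⟩ = ⟨P, inferInstance⟩ := by
    refine PrimeSpectrum.ext (le_antisymm (fun x hx => ?_) fun x hx => ?_)
    · obtain ⟨⟨_, n, rfl⟩, hn⟩ :=
        (IsLocalization.map_eq_zero_iff (Submonoid.powers g) D x).1 (show algebraMap A D x = 0 from hx)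
      exact (Ideal.IsPrime.mem_or_mem ‹P.IsPrime› (show g ^ n * x ∈ P by rw [hn]; exact P.zero_mem)).resolve_left
        fun h' => hgP (Ideal.IsPrime.mem_of_pow_mem ‹_› n h')
    · show algebraMap A D x = 0
      exact (IsLocalization.map_eq_zero_iff (Submonoid.powers g) D x).2
        ⟨⟨g, Submonoid.mem_powers g⟩, hg0 x hx⟩
  obtain ⟨_, ⟨_, ⟨f, rfl⟩, rfl⟩, hbf, hf⟩ := PrimeSpectrum.isBasis_basic_opens.exists_subset_of_mem_open
    (show (⟨⊥, Ideal.isPrime_bot⟩ : PrimeSpectrum D) ∈ c ⁻¹' U by rw [Set.mem_preimage, hbot]; exact hPU)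
    (hU.preimage (PrimeSpectrum.continuous_comap _))
  have hfne : f ≠ 0 := fun h0 => hbf (show f ∈ (⊥ : Ideal D) by simp [h0])
  haveI : IsIntegrallyClosed (Localization.Away f) :=
    isIntegrallyClosed_away (A := A) D f hfne fun q hq => (mem_norLocus_away g q).2 (hsub (hf hq))
  have hopen := RegLoc.isOpen_normal_locus f hfne
  have heq : c ⁻¹' EGA4.norLocus A = {q : PrimeSpectrum D | IsIntegrallyClosed (Localization.AtPrime q.asIdeal)} := by
    ext q
    show c q ∈ EGA4.norLocus A ↔ _
    rw [← mem_norLocus_away g q]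
    exact ⟨fun hq => hq.2, fun hq => ⟨inferInstance, hq⟩⟩
  rw [← heq] at hopen
  refine ⟨c '' (c ⁻¹' EGA4.norLocus A), Set.image_preimage_subset _ _,
    (PrimeSpectrum.localization_away_isOpenEmbedding D g).isOpenMap _ hopen, ?_⟩
  have hr : p ∈ Set.range c := by
    rw [PrimeSpectrum.localization_away_comap_range D g]; exact hg
  obtain ⟨q, rfl⟩ := hr
  exact ⟨q, hp, rfl⟩

theorem isOpen_norLocus_of_isOpen_regLocus [IsNoetherianRing A] (h : IsOpen (EGA4.regLocus A)) :
    IsOpen (EGA4.norLocus A) := by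
  refine isOpen_norLocus_iff.2 fun p hmin hp =>
    ⟨_, h, ?_, fun q hq => mem_norLocus_of_mem_regLocus hq⟩
  haveI := p.isPrime
  show IsRegularLocalRing (Localization.AtPrime p.asIdeal)
  haveI := hp.1
  have hh : p.asIdeal.height = 0 := Ideal.height_eq_zero_iff.2 hmin
  have hf : IsField (Localization.AtPrime p.asIdeal) := by
    haveI : Ring.KrullDimLE 0 (Localization.AtPrime p.asIdeal) := Ring.krullDimLE_iff.2 (by
      rw [IsLocalization.AtPrime.ringKrullDim_eq_height p.asIdeal, hh]; rfl)
    exact Ring.KrullDimLE.isField_of_isDomain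
  letI := hf.toField
  exact inferInstanceAs (IsRegularLocalRing (Localization.AtPrime p.asIdeal))

end Groth.Agent.EGA4Lib
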