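import Groth.Agent.Depth.Local
import Groth.Agent.Dim.Localized
import Groth.Prelude.Def_CAlg
import Mathlib.Algebra.Category.ModuleCat.Ext.Finite

/-!
# Depth at a prime and codepth (EGA 0IV 16.4, IV 6.11.5)
-/

set_option autoImplicit false
set_option linter.style.haveILetI false

universe u

open CategoryTheory Abelian IsLocalRing

namespace Groth.Agent.EGA4Lib

variable {R : Type u} [CommRing R] [IsNoetherianRing R] [IsLocalRing R]
  {M : Type u} [AddCommGroup M] [Module R M] [Module.Finite R M]

/-- `depth M ≤ depth_p M + dim R/p`. -/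
theorem le_idealDepth_prime (n : ℕ) (hn : (n : ℕ∞) ≤ LocCoh.depth R M) :
    ∀ (d : ℕ) (p : Ideal R) [p.IsPrime], ringKrullDim (R ⧸ p) ≤ (d : WithBot ℕ∞) →
      ((n - d : ℕ) : ℕ∞) ≤ LocCoh.idealDepth p M := by
  intro d
  induction d using Nat.strong_induction_on with
  | _ d ih =>
    intro p hp hd
    by_cases hpm : p = maximalIdeal R
    · subst hpm
      exact le_trans (by exact_mod_cast Nat.sub_le n d) hn
    obtain ⟨x, hxm, hxp⟩ := SetLike.exists_of_lt
      (lt_of_le_of_ne (le_maximalIdeal hp.ne_top) hpm)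
    set J := p ⊔ Ideal.span {x} with hJ
    rcases Nat.eq_zero_or_pos (n - d) with h0 | hpos
    · rw [h0]; exact bot_le
    have hq : ∀ q : PrimeSpectrum R, J ≤ q.asIdeal →
        ((n - d + 1 : ℕ) : ℕ∞) ≤
          LocCoh.depth (Localization.AtPrime q.asIdeal) (LocalizedModule q.asIdeal.primeCompl M) := by
      intro q hq
      haveI := q.isPrime
      have hlt : p < q.asIdeal := lt_of_le_of_ne (le_sup_left.trans hq) (by
        rintro rfl
        exact hxp (hq (Ideal.mem_sup_right (Ideal.mem_span_singleton_self x))))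
      have h1 := (Depth.ringKrullDim_quotient_succ_le hlt).trans hd
      haveI : Nontrivial (R ⧸ q.asIdeal) := Ideal.Quotient.nontrivial_iff.2 q.isPrime.ne_top
      obtain ⟨e, he⟩ : ∃ e : ℕ, ringKrullDim (R ⧸ q.asIdeal) = e := by
        have hne : ringKrullDim (R ⧸ q.asIdeal) ≠ ⊥ := ne_of_gt
          (lt_of_lt_of_le (WithBot.bot_lt_coe (0 : ℕ∞)) (ringKrullDim_nonneg_of_nontrivial))
        obtain ⟨a, ha⟩ := WithBot.ne_bot_iff_exists.1 hne
        cases a with
        | top =>
          exfalso
          rw [← ha] at h1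
          have h2 : ((⊤ : ℕ∞) + 1 : ℕ∞) ≤ (d : ℕ∞) := WithBot.coe_le_coe.1 h1
          simp at h2
        | coe a => exact ⟨a, ha.symm⟩
      rw [he] at h1
      have hed : e + 1 ≤ d := by exact_mod_cast h1
      refine le_trans ?_ ((ih e (by omega) q.asIdeal he.le).trans
        (Depth.idealDepth_le_depth_localizedModule q.asIdeal le_rfl))
      exact_mod_cast (by omega)
    have hJd : ((n - d + 1 : ℕ) : ℕ∞) ≤ LocCoh.idealDepth J M := by
      rw [Depth.idealDepth_eq_iInf_depth]
      exact le_iInf₂ hq
    rw [Depth.le_idealDepth_iff_ext]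
    intro i hi
    let A : ModuleCat.{u} R := ModuleCat.of R (R ⧸ p)
    have hreg : IsSMulRegular A x := by
      refine isSMulRegular_iff_right_eq_zero_of_smul.mpr fun (y : R ⧸ p) hy => ?_
      obtain ⟨y, rfl⟩ := Ideal.Quotient.mk_surjective y
      have hmem : x * y ∈ p := Ideal.Quotient.eq_zero_iff_mem.1 hy
      exact Ideal.Quotient.eq_zero_iff_mem.2 ((hp.mem_or_mem hmem).resolve_left hxp)
    have hS := IsSMulRegular.smulShortComplex_shortExact hreg
    have hN : ∀ r ∈ J, ∃ k : ℕ, ∀ z : (A.smulShortComplex x).X₃, r ^ k • z = 0 := by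
      intro r hr
      refine ⟨1, fun z => ?_⟩
      obtain ⟨w, rfl⟩ := (ModuleCat.epi_iff_surjective _).1 hS.epi_g z
      obtain ⟨a, ha, b, hb, rfl⟩ := Submodule.mem_sup.1 hr
      obtain ⟨c, rfl⟩ := Ideal.mem_span_singleton'.1 hb
      rw [pow_one, ← map_smul]
      have : (a + c * x) • (show A from w) = x • (c • (show A from w)) := by
        rw [add_smul, mul_comm, mul_smul, Depth.smul_quotient_eq_zero ha, zero_add]
      show (A.smulShortComplex x).g ((a + c * x) • (show A from w)) = 0
      rw [this]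
      exact ConcreteCategory.congr_hom (A.smulShortComplex x).zero (c • (show A from w))
    haveI : Module.Finite R A := inferInstanceAs (Module.Finite R (R ⧸ p))
    haveI : Subsingleton (Ext (A.smulShortComplex x).X₃ (ModuleCat.of R M) (i + 1)) :=
      Depth.subsingleton_ext_of_lt_idealDepth _ hN hJd (by omega)
    haveI : Module.Finite R (Ext A (ModuleCat.of R M) i) := inferInstance
    have htop : (⊤ : Submodule R (Ext A (ModuleCat.of R M) i)) ≤ maximalIdeal R • ⊤ := by
      intro e _
      obtain ⟨y, hy⟩ := Ext.contravariant_sequence_exact₁ hS _ e (Nat.add_comm 1 i : 1 + i = i + 1)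
        (Subsingleton.elim _ _) 
      rw [← hy]
      have hxy : ∀ y : Ext A (ModuleCat.of R M) i,
          (Ext.mk₀ (x • 𝟙 A)).comp y (zero_add i) = x • y := fun y => by
        rw [Ext.mk₀_smul, Ext.smul_comp, Ext.mk₀_id_comp]
      have hfx : (A.smulShortComplex x).f = x • 𝟙 A := by ext z; rfl
      erw [hfx, hxy]
      exact Submodule.smul_mem_smul hxm Submodule.mem_top
    have := Submodule.eq_bot_of_le_smul_of_le_jacobson_bot (maximalIdeal R) ⊤ Module.Finite.fg_top
      htop (maximalIdeal_le_jacobson _)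
    exact subsingleton_of_forall_eq 0 fun e => (Submodule.eq_bot_iff _).1 this e Submodule.mem_top

omit [IsLocalRing R] [IsNoetherianRing R] in
/-- `dim M_p + dim R/p ≤ dim M` for `p` in the support. -/
theorem supportDim_atPrime_add_le (p : Ideal R) [p.IsPrime]
    [hp : Nontrivial (LocalizedModule p.primeCompl M)] :
    Module.supportDim (Localization.AtPrime p) (LocalizedModule p.primeCompl M) +
      ringKrullDim (R ⧸ p) ≤ Module.supportDim R M := by
  let x : Module.support R M := ⟨⟨p, ‹_›⟩, hp⟩
  have h1 : Module.supportDim (Localization.AtPrime p) (LocalizedModule p.primeCompl M) =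
      (Order.height x : WithBot ℕ∞) := by
    rw [Dim.supportDim_atPrime, Order.height_eq_krullDim_Iic]
    exact Order.krullDim_eq_of_orderIso
      { toFun := fun P => ⟨⟨P.1, P.2.1⟩, P.2.2⟩
        invFun := fun P => ⟨P.1.1, P.1.2, P.2⟩
        left_inv := fun _ => rfl
        right_inv := fun _ => rfl
        map_rel_iff' := Iff.rfl }
  have h2 : ringKrullDim (R ⧸ p) = (Order.coheight x : WithBot ℕ∞) := by
    rw [ringKrullDim_quotient, Order.coheight_eq_krullDim_Ici]
    exact Order.krullDim_eq_of_orderIso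
      { toFun := fun P => ⟨⟨P.1, Module.mem_support_mono (q := P.1)
          (show (⟨p, ‹_›⟩ : PrimeSpectrum R) ≤ P.1 from P.2) hp⟩, P.2⟩
        invFun := fun P => ⟨P.1.1, P.2⟩
        left_inv := fun _ => rfl
        right_inv := fun _ => rfl
        map_rel_iff' := Iff.rfl }
  haveI : Nonempty (Module.support R M) := ⟨x⟩
  rw [h1, h2, Module.supportDim, Order.krullDim_eq_iSup_height_add_coheight_of_nonempty]
  exact_mod_cast le_iSup (fun a : Module.support R M => Order.height a + Order.coheight a) x

/-- `depth M ≤ depth M_p + dim R/p`. -/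
theorem depth_le_depth_atPrime_add (p : Ideal R) [p.IsPrime] :
    ((LocCoh.depth R M : ℕ∞) : WithBot ℕ∞) ≤
      ((LocCoh.depth (Localization.AtPrime p) (LocalizedModule p.primeCompl M) : ℕ∞) : WithBot ℕ∞) +
        ringKrullDim (R ⧸ p) := by
  haveI : Nontrivial (R ⧸ p) := Ideal.Quotient.nontrivial_iff.2 (Ideal.IsPrime.ne_top ‹_›)
  obtain ⟨a, ha⟩ := WithBot.ne_bot_iff_exists.1 (ne_of_gt (α := WithBot ℕ∞)
    (lt_of_lt_of_le (WithBot.bot_lt_coe (0 : ℕ∞)) (ringKrullDim_nonneg_of_nontrivial (R := R ⧸ p))))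
  rw [← ha, ← WithBot.coe_add, WithBot.coe_le_coe]
  refine ENat.forall_natCast_le_iff_le.mp fun n hn => ?_
  cases a with
  | top => simp
  | coe d =>
    have h := (le_idealDepth_prime n hn d p (by rw [← ha]; rfl)).trans
      (Depth.idealDepth_le_depth_localizedModule p le_rfl)
    calc (n : ℕ∞) ≤ ((n - d : ℕ) : ℕ∞) + (d : ℕ∞) := by exact_mod_cast (by omega : n ≤ (n - d) + d)
      _ ≤ _ := add_le_add h le_rfl

/-- Codepth does not increase under localization (EGA IV 6.11.5). -/
theorem codepth_localization_le (p : Ideal R) [p.IsPrime]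
    [Nontrivial (LocalizedModule p.primeCompl M)] :
    Module.supportDim (Localization.AtPrime p) (LocalizedModule p.primeCompl M) +
        ((LocCoh.depth R M : ℕ∞) : WithBot ℕ∞) ≤
      Module.supportDim R M +
        ((LocCoh.depth (Localization.AtPrime p) (LocalizedModule p.primeCompl M) : ℕ∞) : WithBot ℕ∞) := by
  refine (add_le_add le_rfl (depth_le_depth_atPrime_add p)).trans ?_
  rw [add_left_comm, add_comm (Module.supportDim R M)]
  exact add_le_add le_rfl (supportDim_atPrime_add_le p)

end Groth.Agent.EGA4Lib
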