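import Groth.Agent.EGA4Lib.Stalks
import Groth.Agent.EGA4Lib.Codepth
import Groth.Agent.RegLoc.SupportDim
import Groth.Agent.RegLoc.Basic
import Groth.Agent.PtTop.Catenary
import Mathlib.RingTheory.RingHom.Surjective

/-!
# Lifting properties from a hyperplane section (EGA IV 5.7.5, 5.12)
-/

set_option autoImplicit false
set_option linter.style.haveILetI false

universe u

open IsLocalRing
open scoped Pointwise

namespace Groth.Agent.EGA4Lib

variable {A : Type u} [CommRing A]

/-- Depth and dimension of stalks along a surjection of rings. -/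
theorem depth_supportDim_stalk_of_surjective {A' : Type u} [CommRing A'] [Algebra A A']
    (hs : Function.Surjective (algebraMap A A')) (N : Type u) [AddCommGroup N] [Module A' N]
    [Module A N] [IsScalarTower A A' N] [Module.Finite A' N] (q' : Ideal A') [q'.IsPrime] (q : Ideal A)
    [q.IsPrime] (hq : q'.comap (algebraMap A A') = q) :
    LocCoh.depth (Localization.AtPrime q') (LocalizedModule q'.primeCompl N) =
        LocCoh.depth (Localization.AtPrime q) (LocalizedModule q.primeCompl N) ∧
      Module.supportDim (Localization.AtPrime q') (LocalizedModule q'.primeCompl N) =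
        Module.supportDim (Localization.AtPrime q) (LocalizedModule q.primeCompl N) := by
  subst hq
  let q := q'.comap (algebraMap A A')
  let L := Localization.AtPrime q
  let L' := Localization.AtPrime q'
  letI : Algebra L L' := (Localization.localRingHom q q' (algebraMap A A') rfl).toAlgebra
  haveI : IsScalarTower A L L' := IsScalarTower.of_algebraMap_eq fun x => by
    rw [RingHom.algebraMap_toAlgebra, Localization.localRingHom_to_map]
    exact IsScalarTower.algebraMap_apply A A' L' x
  have hsL : Function.Surjective (algebraMap L L') :=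
    RingHom.surjective_localRingHom_of_surjective (algebraMap A A') hs q'
  letI : Module L (LocalizedModule q'.primeCompl N) := Module.compHom _ (algebraMap L L')
  haveI : IsScalarTower L L' (LocalizedModule q'.primeCompl N) :=
    IsScalarTower.of_algebraMap_smul fun _ _ => rfl
  haveI : IsScalarTower A L (LocalizedModule q'.primeCompl N) :=
    IsScalarTower.of_algebraMap_smul fun r x => by
      show algebraMap L L' (algebraMap A L r) • x = r • x
      rw [← IsScalarTower.algebraMap_apply, IsScalarTower.algebraMap_apply A A' L',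
        algebraMap_smul, algebraMap_smul]
  let g : N →ₗ[A] LocalizedModule q'.primeCompl N :=
    (LocalizedModule.mkLinearMap q'.primeCompl N).restrictScalars A
  haveI : IsLocalizedModule q.primeCompl g :=
    { map_units := fun s => by
        rw [Module.End.isUnit_iff]
        have := (Module.End.isUnit_iff _).1 (IsLocalizedModule.map_units
          (LocalizedModule.mkLinearMap q'.primeCompl N) (⟨algebraMap A A' s, s.2⟩ : q'.primeCompl))
        convert this using 1
        ext x
        simp [Module.algebraMap_end_apply, algebraMap_smul]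
      surj := fun y => by
        obtain ⟨⟨n, s'⟩, h⟩ := IsLocalizedModule.surj q'.primeCompl
          (LocalizedModule.mkLinearMap q'.primeCompl N) y
        obtain ⟨s, hs'⟩ := hs (s' : A')
        have hsq : s ∈ q.primeCompl := fun h' => s'.2 (hs' ▸ h')
        refine ⟨(n, ⟨s, hsq⟩), ?_⟩
        show s • y = _
        rw [← algebraMap_smul A' s y, hs']
        exact h
      exists_of_eq := fun {x y} h => by
        obtain ⟨s', h'⟩ := IsLocalizedModule.exists_of_eq (S := q'.primeCompl)
          (f := LocalizedModule.mkLinearMap q'.primeCompl N) h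
        obtain ⟨s, hs'⟩ := hs (s' : A')
        refine ⟨⟨s, fun h' => s'.2 (hs' ▸ h')⟩, ?_⟩
        show s • x = s • y
        rw [← algebraMap_smul A' s x, ← algebraMap_smul A' s y, hs']
        exact h' }
  let e := (IsLocalizedModule.iso q.primeCompl g).extendScalarsOfIsLocalization q.primeCompl L
  obtain ⟨h1, h2⟩ := depth_supportDim_congr e
  obtain ⟨h3, h4⟩ :=
    depth_supportDim_of_surjective (R := L) (S := L') hsL (LocalizedModule q'.primeCompl N)
  exact ⟨h3.trans h1.symm, h4.trans h2.symm⟩

variable [IsNoetherianRing A] {M : Type u} [AddCommGroup M] [Module A M] [Module.Finite A M]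

/-- `depth` and `dim` drop by one at stalks where a regular element vanishes. -/
theorem depth_supportDim_stalk_quotSMulTop {t : A} (hreg : IsSMulRegular M t) (q : Ideal A) [q.IsPrime]
    (htq : t ∈ q) :
    LocCoh.depth (Localization.AtPrime q) (LocalizedModule q.primeCompl (QuotSMulTop t M)) + 1 =
        LocCoh.depth (Localization.AtPrime q) (LocalizedModule q.primeCompl M) ∧
      Module.supportDim (Localization.AtPrime q) (LocalizedModule q.primeCompl (QuotSMulTop t M)) + 1 =
        Module.supportDim (Localization.AtPrime q) (LocalizedModule q.primeCompl M) := by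
  have ht' : algebraMap A (Localization.AtPrime q) t ∈ maximalIdeal (Localization.AtPrime q) :=
    (IsLocalization.AtPrime.to_map_mem_maximal_iff _ q t).2 htq
  have hreg' : IsSMulRegular (LocalizedModule q.primeCompl M) (algebraMap A (Localization.AtPrime q) t) :=
    Depth.isSMulRegular_localizedModule q.primeCompl hreg
  obtain ⟨h1, h2⟩ := depth_supportDim_congr (Depth.quotSMulTopLocalizedEquiv M q.primeCompl t)
  rw [← h1, ← h2]
  exact ⟨Depth.idealDepth_quotSMulTop_add_one ht' hreg',
    Module.supportDim_quotSMulTop_succ_eq_supportDim hreg' ht'⟩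

/-- A regular element of `M` kills one degree of `(S_k)` on `M/tM`. -/
theorem hasSk_quotSMulTop {k : ℕ} {t : A} (hreg : IsSMulRegular M t)
    (h : LocCoh.HasSk (k + 1) A M) : LocCoh.HasSk k A (QuotSMulTop t M) := by
  intro q _
  rcases subsingleton_or_nontrivial (LocalizedModule q.primeCompl (QuotSMulTop t M)) with hs | hs
  · rw [Module.supportDim_eq_bot_of_subsingleton]
    simp
  have htq : t ∈ q := by
    have hmem : (⟨q, ‹_›⟩ : PrimeSpectrum A) ∈ Module.support A (QuotSMulTop t M) := hs
    rw [Module.support_quotSMulTop] at hmem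
    simpa using hmem.2
  obtain ⟨h1, h2⟩ := depth_supportDim_stalk_quotSMulTop hreg q htq
  have := h q
  rw [← h1, ← h2] at this
  revert this
  generalize Module.supportDim (Localization.AtPrime q)
    (LocalizedModule q.primeCompl (QuotSMulTop t M)) = a
  generalize LocCoh.depth (Localization.AtPrime q) (LocalizedModule q.primeCompl (QuotSMulTop t M)) = d
  intro this
  cases a with
  | bot => simp
  | coe a =>
    rw [show (((k + 1 : ℕ)) : WithBot ℕ∞) = (((k + 1 : ℕ) : ℕ∞) : WithBot ℕ∞) from rfl,
      show ((a : WithBot ℕ∞) + 1) = ((a + 1 : ℕ∞) : WithBot ℕ∞) from rfl,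
      ← WithBot.coe_min, WithBot.coe_le_coe] at this
    rw [show ((k : WithBot ℕ∞)) = (((k : ℕ∞)) : WithBot ℕ∞) from rfl, ← WithBot.coe_min,
      WithBot.coe_le_coe]
    push_cast at this
    rw [min_add_add_right] at this
    exact WithTop.le_of_add_le_add_right ENat.one_ne_top this

omit [IsNoetherianRing A] in
/-- `(S_k)` can be read over a ring surjecting to the ring of scalars. -/
theorem hasSk_of_surjective {A' : Type u} [CommRing A'] [Algebra A A']
    (hs : Function.Surjective (algebraMap A A')) (N : Type u) [AddCommGroup N] [Module A' N]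
    [Module A N] [IsScalarTower A A' N] [Module.Finite A' N] {k : ℕ} (h : LocCoh.HasSk k A' N) :
    LocCoh.HasSk k A N := by
  intro q _
  by_cases hk : RingHom.ker (algebraMap A A') ≤ q
  · let q' := q.map (algebraMap A A')
    haveI : q'.IsPrime := Ideal.map_isPrime_of_surjective hs hk
    have hq : q'.comap (algebraMap A A') = q := by
      rw [Ideal.comap_map_of_surjective _ hs, ← RingHom.ker_eq_comap_bot, sup_eq_left.2 hk]
    obtain ⟨h1, h2⟩ := depth_supportDim_stalk_of_surjective hs N q' q hq
    rw [← h1, ← h2]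
    exact h q'
  · obtain ⟨s, hs0, hsq⟩ := SetLike.not_le_iff_exists.1 hk
    haveI : Subsingleton (LocalizedModule q.primeCompl N) := LocalizedModule.subsingleton_iff.2
      fun n => ⟨s, hsq, by rw [← algebraMap_smul A' s n, (RingHom.mem_ker).1 hs0, zero_smul]⟩
    rw [Module.supportDim_eq_bot_of_subsingleton]
    simp

omit [IsNoetherianRing A] [Module.Finite A M] in
theorem hasSk_congr {N : Type u} [AddCommGroup N] [Module A N] (e : M ≃ₗ[A] N) {k : ℕ}
    (h : LocCoh.HasSk k A M) : LocCoh.HasSk k A N := by
  intro q _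
  obtain ⟨h1, h2⟩ := depth_supportDim_congr (IsLocalizedModule.mapEquiv q.primeCompl
    (LocalizedModule.mkLinearMap q.primeCompl M) (LocalizedModule.mkLinearMap q.primeCompl N)
    (Localization.AtPrime q) e)
  rw [← h1, ← h2]
  exact h q

variable [IsLocalRing A]

omit [IsNoetherianRing A] in
/-- A prime just above `p` containing `t`. -/
theorem exists_prime_succ {t : A} (ht : t ∈ maximalIdeal A) (p : Ideal A) [p.IsPrime] (htp : t ∉ p) :
    ∃ (q : Ideal A) (_ : q.IsPrime), t ∈ q ∧ p < q ∧
      (∀ r : Ideal A, r.IsPrime → p ≤ r → r ≤ q → t ∈ r → r = q) := by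
  have hle : p ⊔ Ideal.span {t} ≤ maximalIdeal A :=
    sup_le (le_maximalIdeal (Ideal.IsPrime.ne_top ‹_›)) ((Ideal.span_singleton_le_iff_mem _).2 ht)
  obtain ⟨q, hq, -⟩ := Ideal.exists_minimalPrimes_le hle
  have htq : t ∈ q := hq.1.2 (Ideal.mem_sup_right (Ideal.mem_span_singleton_self t))
  refine ⟨q, hq.1.1, htq, lt_of_le_of_ne (le_sup_left.trans hq.1.2) (fun h => htp (h ▸ htq)), ?_⟩
  intro r hr hpr hrq htr
  exact le_antisymm hrq (hq.2 ⟨hr, sup_le hpr ((Ideal.span_singleton_le_iff_mem _).2 htr)⟩ hrq)

omit [IsLocalRing A] in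
/-- Principal ideal theorem: nothing strictly between `p` and a minimal prime over `p + (t)`. -/
theorem covBy_of_minimal {t : A} {p q : Ideal A} [p.IsPrime] [q.IsPrime] (hpq : p < q) (_htp : t ∉ p)
    (htq : t ∈ q)
    (hmin : ∀ r : Ideal A, r.IsPrime → p ≤ r → r ≤ q → t ∈ r → r = q) :
    ∀ r : Ideal A, r.IsPrime → p < r → r ≤ q → r = q := by
  intro r hr hpr hrq
  by_contra hne
  have hlt : r < q := lt_of_le_of_ne hrq hne
  -- pass to the domain `A/p`, where `q` is minimal over `(t)`
  let f := Ideal.Quotient.mk p
  haveI := hr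
  have hker : ∀ {I : Ideal A}, p ≤ I → RingHom.ker f ≤ I := fun h => by rwa [Ideal.mk_ker]
  haveI : (q.map f).IsPrime := Ideal.map_isPrime_of_surjective Ideal.Quotient.mk_surjective (hker hpq.le)
  haveI : (r.map f).IsPrime := Ideal.map_isPrime_of_surjective Ideal.Quotient.mk_surjective (hker hpr.le)
  have hq1 : (q.map f).height ≤ 1 := Ideal.map_height_le_one_of_mem_minimalPrimes (x := t)
    ⟨⟨inferInstance, sup_le hpq.le ((Ideal.span_singleton_le_iff_mem _).2 htq)⟩, fun J hJ hJq =>
      (hmin J hJ.1 (le_sup_left.trans hJ.2) hJq (hJ.2 (Ideal.mem_sup_right (Ideal.mem_span_singleton_self t)))).ge⟩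
  have hc : ∀ {I : Ideal A}, p ≤ I → (I.map f).comap f = I := fun h => by
    rw [Ideal.comap_map_of_surjective _ Ideal.Quotient.mk_surjective, ← RingHom.ker_eq_comap_bot,
      sup_eq_left.2 (hker h)]
  have hrq' : r.map f < q.map f := lt_of_le_of_ne (Ideal.map_mono hlt.le) fun h => hlt.ne (by
    rw [← hc hpr.le, h, hc hpq.le])
  have hr0 : (r.map f).height ≠ 0 := by
    rw [Ne, Ideal.height_eq_zero_iff]
    intro hmin'
    rw [IsDomain.minimalPrimes_eq_singleton_bot] at hmin'
    refine hpr.ne ?_
    rw [← hc hpr.le, Set.mem_singleton_iff.1 hmin', ← RingHom.ker_eq_comap_bot, Ideal.mk_ker]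
  have hlt' := (Ideal.height_strict_mono_of_isPrime hrq').trans_le hq1
  exact hr0 (Order.lt_one_iff.1 hlt')

omit [IsLocalRing A] in
/-- Across such a step, dimension grows and depth drops by at most one. -/
theorem supportDim_succ_and_depth_le (p q : Ideal A) [p.IsPrime] [q.IsPrime] (hpq : p < q)
    (hcov : ∀ r : Ideal A, r.IsPrime → p < r → r ≤ q → r = q)
    [Nontrivial (LocalizedModule p.primeCompl M)] :
    Module.supportDim (Localization.AtPrime p) (LocalizedModule p.primeCompl M) + 1 ≤
        Module.supportDim (Localization.AtPrime q) (LocalizedModule q.primeCompl M) ∧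
      ((LocCoh.depth (Localization.AtPrime q) (LocalizedModule q.primeCompl M) : ℕ∞) : WithBot ℕ∞) ≤
        ((LocCoh.depth (Localization.AtPrime p) (LocalizedModule p.primeCompl M) : ℕ∞) : WithBot ℕ∞) + 1 := by
  let L := Localization.AtPrime q
  let e := IsLocalization.AtPrime.primeSpectrumOrderIso L q
  let P := e.symm ⟨⟨p, inferInstance⟩, hpq.le⟩
  haveI := P.isPrime
  have hP : P.asIdeal.comap (algebraMap A L) = p :=
    congr_arg (fun x => x.1.asIdeal) (e.apply_symm_apply ⟨⟨p, inferInstance⟩, hpq.le⟩)
  obtain ⟨h1, h2⟩ := depth_supportDim_localization_localization M q P.asIdeal p hP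
  haveI : Nontrivial (LocalizedModule P.asIdeal.primeCompl (LocalizedModule q.primeCompl M)) := by
    rw [← Module.supportDim_ne_bot_iff_nontrivial (Localization.AtPrime P.asIdeal), h2,
      Module.supportDim_ne_bot_iff_nontrivial]
    infer_instance
  haveI : Module.Finite L (LocalizedModule q.primeCompl M) := inferInstance
  have hPm : P.asIdeal < maximalIdeal L := by
    refine lt_of_le_of_ne (le_maximalIdeal P.isPrime.ne_top) fun h => hpq.ne ?_
    rw [← hP, h]
    exact Localization.AtPrime.under_maximalIdeal (I := q)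
  have hone : ringKrullDim (L ⧸ P.asIdeal) = 1 := by
    refine le_antisymm ?_ ?_
    · rw [ringKrullDim_quotient]
      refine iSup_le fun s => ?_
      have hmem : ∀ i, (s i).1 = P ∨ (s i).1.asIdeal = maximalIdeal L := by
        intro i
        haveI := (s i).1.isPrime
        rcases eq_or_lt_of_le (show P.asIdeal ≤ (s i).1.asIdeal from (s i).2) with h | h
        · exact Or.inl (PrimeSpectrum.ext h.symm)
        · right
          have hlt : p < (s i).1.asIdeal.comap (algebraMap A L) := by
            refine lt_of_le_of_ne (hP ▸ Ideal.comap_mono h.le) fun heq => h.ne ?_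
            exact (IsLocalization.map_under q.primeCompl L P.asIdeal).symm.trans
              ((congrArg (Ideal.map (algebraMap A L)) (hP.trans heq)).trans
                (IsLocalization.map_under q.primeCompl L (s i).1.asIdeal))
          have := hcov _ inferInstance hlt ((Ideal.comap_mono (le_maximalIdeal (s i).1.isPrime.ne_top)).trans
            (le_of_eq (Localization.AtPrime.under_maximalIdeal (I := q))))
          exact (IsLocalization.map_under q.primeCompl L (s i).1.asIdeal).symm.trans
            ((congrArg (Ideal.map (algebraMap A L)) this).trans Localization.AtPrime.map_eq_maximalIdeal)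
      by_contra hlen
      have h2 : 2 ≤ s.length := by
        by_contra h
        exact hlen (by exact_mod_cast (show s.length ≤ 1 by omega))
      have a01 : (s ⟨0, by omega⟩).1 < (s ⟨1, by omega⟩).1 := s.strictMono (show (0 : ℕ) < 1 by omega)
      have a12 : (s ⟨1, by omega⟩).1 < (s ⟨2, by omega⟩).1 := s.strictMono (show (1 : ℕ) < 2 by omega)
      rcases hmem ⟨1, by omega⟩ with h | h
      · exact absurd ((s ⟨0, by omega⟩).2 : P.asIdeal ≤ _) (fun hh => (lt_of_lt_of_le (h ▸ a01) hh).false)
      · exact absurd (le_maximalIdeal (s ⟨2, by omega⟩).1.isPrime.ne_top)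
          (fun hh => (lt_of_lt_of_le (h ▸ (show (s ⟨1, by omega⟩).1.asIdeal < (s ⟨2, by omega⟩).1.asIdeal from a12)) hh).false)
    · have hnf : ¬ IsField (L ⧸ P.asIdeal) := fun hf => hPm.ne
        ((Ideal.Quotient.maximal_of_isField _ hf).eq_of_le (maximalIdeal.isMaximal L).ne_top hPm.le)
      by_contra h
      apply hnf
      haveI : Ring.KrullDimLE 0 (L ⧸ P.asIdeal) := Ring.krullDimLE_iff.2 (by
        have := Order.le_of_lt_succ (α := WithBot ℕ∞) (b := (0 : WithBot ℕ∞)) (a := ringKrullDim (L ⧸ P.asIdeal))
        generalize ringKrullDim (L ⧸ P.asIdeal) = d at h ⊢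
        cases d with
        | bot => exact bot_le
        | coe d =>
          cases d with
          | top => exact absurd le_top h
          | coe d =>
            rcases Nat.eq_zero_or_pos d with rfl | hd
            · exact le_rfl
            · exact absurd (by exact_mod_cast hd) h)
      exact Ring.KrullDimLE.isField_of_isDomain
  constructor
  · have := supportDim_atPrime_add_le (R := L) (M := LocalizedModule q.primeCompl M) P.asIdeal
    rwa [h2, hone] at this
  · have := depth_le_depth_atPrime_add (R := L) (M := LocalizedModule q.primeCompl M) P.asIdeal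
    rwa [h1, hone] at this

/-- `(S_k)` lifts from `M/tM` to `M`. -/
theorem hasSk_of_quotSMulTop {k : ℕ} {t : A} (ht : t ∈ maximalIdeal A) (hreg : IsSMulRegular M t)
    (h : LocCoh.HasSk k A (QuotSMulTop t M)) : LocCoh.HasSk k A M := by
  intro p _
  rcases subsingleton_or_nontrivial (LocalizedModule p.primeCompl M) with hs | hs
  · rw [Module.supportDim_eq_bot_of_subsingleton]
    simp
  by_cases htp : t ∈ p
  · obtain ⟨h1, h2⟩ := depth_supportDim_stalk_quotSMulTop hreg p htp
    rw [← h1, ← h2, WithBot.coe_add, WithBot.coe_one]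
    refine le_trans ?_ (add_le_add (h p) le_rfl)
    rw [← min_add_add_right]
    exact min_le_min (le_add_of_nonneg_right zero_le_one) le_rfl
  obtain ⟨q, hq, htq, hpq, hmin⟩ := exists_prime_succ ht p htp
  obtain ⟨hd, hdep⟩ := supportDim_succ_and_depth_le (M := M) p q hpq
    (covBy_of_minimal hpq htp htq hmin)
  obtain ⟨h1, h2⟩ := depth_supportDim_stalk_quotSMulTop hreg q htq
  rw [← h1, WithBot.coe_add, WithBot.coe_one] at hdep
  rw [← h2] at hd
  refine le_trans ?_ ((h q).trans ((ENat.WithBot.add_le_add_one_right_iff).1 hdep))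
  exact min_le_min le_rfl ((ENat.WithBot.add_le_add_one_right_iff).1 hd)

/-- Equidimensionality lifts from `M/tM` with `(S_1)` to `M`. -/
theorem isEquidimModule_of_quotSMulTop {t : A} (ht : t ∈ maximalIdeal A) (hreg : IsSMulRegular M t)
    (heq : EGA4.IsEquidimModule A (QuotSMulTop t M)) (hS : LocCoh.HasSk 1 A (QuotSMulTop t M)) :
    EGA4.IsEquidimModule A M := by
  intro p hp
  have hass := Module.associatedPrimes.minimalPrimes_annihilator_subset_associatedPrimes A M hp
  haveI := hp.1.1
  obtain ⟨q, hqass, hpq, htq⟩ := Depth.exists_associatedPrime_quotSMulTop ht hreg hass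
  haveI := Depth.isPrime_of_mem_associatedPrimes hqass
  have hqmin := RegLoc.SupportDim.hasSk_one_iff.1 hS q hqass
  have htp : t ∉ p := Depth.notMem_of_isSMulRegular hass hreg
  refine le_antisymm ?_ ?_
  · rw [Module.supportDim_eq_ringKrullDim_quotient_annihilator]
    exact Depth.le_ringKrullDim_quotient_of_le hp.1.2
  · rw [← Module.supportDim_quotSMulTop_succ_eq_supportDim hreg ht, ← heq q hqmin]
    exact Depth.ringKrullDim_quotient_succ_le (lt_of_le_of_ne hpq fun h => htp (h ▸ htq))

theorem saturated_snoc {P : Type u} [PartialOrder P] (a : LTSeries P) (x : P) (hx : a.last < x)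
    (ha : PtTop.Catenary.Saturated a) (hc : a.last ⋖ x) : PtTop.Catenary.Saturated (a.snoc x hx) := by
  intro i
  induction i using Fin.lastCases with
  | last =>
    exact (congrArg₂ (· ⋖ ·) (RelSeries.snoc_castSucc a x hx (Fin.last _))
      (RelSeries.last_snoc a x hx)).mpr hc
  | cast i =>
    exact (congrArg₂ (· ⋖ ·) (RelSeries.snoc_castSucc a x hx i.castSucc)
      (RelSeries.snoc_castSucc a x hx i.succ)).mpr (ha i)

theorem saturated_smash {P : Type u} [PartialOrder P] (a c : LTSeries P) (h : a.last = c.head)
    (ha : PtTop.Catenary.Saturated a) (hc : PtTop.Catenary.Saturated c) :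
    PtTop.Catenary.Saturated (a.smash c h) := by
  intro i
  induction i using Fin.addCases with
  | left i =>
    exact (congrArg₂ (· ⋖ ·) (RelSeries.smash_castAdd h i) (RelSeries.smash_succ_castAdd h i)).mpr (ha i)
  | right i =>
    exact (congrArg₂ (· ⋖ ·) (RelSeries.smash_natAdd h i) (RelSeries.smash_succ_natAdd h i)).mpr (hc i)

omit [IsLocalRing A] in
theorem exists_saturated_to (p : PrimeSpectrum A) :
    ∃ s : LTSeries (PrimeSpectrum A), s.head.asIdeal ∈ minimalPrimes A ∧ s.last = p ∧
      (s.length : ℕ∞) = p.asIdeal.height ∧ PtTop.Catenary.Saturated s := by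
  haveI := p.isPrime
  obtain ⟨s, hl, hlen⟩ := p.asIdeal.exists_ltSeries_length_eq_height
  have hl' : s.last = p := hl
  have hmax : ∀ t : LTSeries (PrimeSpectrum A), t.last = s.last → t.length ≤ s.length := by
    intro t ht
    have h1 : (t.length : ℕ∞) ≤ Order.height t.last := Order.length_le_height_last
    rw [ht, hl'] at h1
    rw [PrimeSpectrum.height_eq_orderHeight] at hlen
    have h2 : (t.length : ℕ∞) ≤ (s.length : ℕ∞) := hlen ▸ h1
    exact_mod_cast h2
  refine ⟨s, ?_, hl', hlen, PtTop.Catenary.saturated_of_longest s fun t _ ht => hmax t ht⟩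
  refine ⟨⟨s.head.isPrime, bot_le⟩, fun Q hQ hQle => ?_⟩
  by_contra hne
  have hlt : (⟨Q, hQ.1⟩ : PrimeSpectrum A) < s.head := lt_of_le_not_ge hQle hne
  have := hmax (s.cons _ hlt) (by simp)
  simp at this

omit [IsNoetherianRing A] in
/-- A saturated chain from a minimal prime to the maximal ideal has length `dim A`, for `A` catenary
and equidimensional. -/
theorem length_eq_ringKrullDim (hcat : CAlg.IsCatenary A) (heq : EGA4.IsEquidim A)
    (s : LTSeries (PrimeSpectrum A)) (hs : PtTop.Catenary.Saturated s)
    (hh : s.head.asIdeal ∈ minimalPrimes A) (hl : s.last = closedPoint A) :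
    (s.length : WithBot ℕ∞) = ringKrullDim A := by
  rw [← heq _ hh, ringKrullDim_quotient]
  refine le_antisymm ?_ ?_
  · let t : LTSeries (PrimeSpectrum.zeroLocus (s.head.asIdeal : Set A)) :=
      LTSeries.mk s.length (fun i => ⟨s i, s.monotone (Fin.zero_le i)⟩) fun i j hij => s.strictMono hij
    exact Order.LTSeries.length_le_krullDim t
  · refine iSup_le fun t => ?_
    -- extend to a series from `s.head` to the closed point
    obtain ⟨n, hn⟩ := hcat.1 s.head (closedPoint A) (le_maximalIdeal s.head.isPrime.ne_top)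
    let T : Set ℕ := {m | ∃ r : LTSeries (PrimeSpectrum A), r.head = s.head ∧ r.last = closedPoint A ∧
      r.length = m}
    have hT : T.Nonempty := ⟨_, s, rfl, hl, rfl⟩
    have hbdd : BddAbove T := ⟨n, fun m ⟨r, h1, h2, h3⟩ => h3 ▸ hn r h1 h2⟩
    obtain ⟨r, hr1, hr2, hr3⟩ := Nat.sSup_mem hT hbdd
    have hrs : PtTop.Catenary.Saturated r := PtTop.Catenary.saturated_of_longest r fun u h1 h2 =>
      hr3 ▸ le_csSup hbdd ⟨u, h1.trans hr1, h2.trans hr2, rfl⟩
    have hlen : r.length = s.length := hcat.2 r s hr1 (hr2.trans hl.symm) hrs hs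
    let t' : LTSeries (PrimeSpectrum A) := t.map Subtype.val fun _ _ h => h
    suffices h : t'.length ≤ r.length by rw [← hlen]; exact_mod_cast h
    rw [hr3]
    have hge : s.head ≤ t'.head := t.head.2
    have hle : t'.last ≤ closedPoint A := le_maximalIdeal t'.last.isPrime.ne_top
    rcases eq_or_lt_of_le hge with h1 | h1 <;> rcases eq_or_lt_of_le hle with h2 | h2
    · exact le_csSup hbdd ⟨t', h1.symm, h2, rfl⟩
    · refine le_trans (Nat.le_succ _) (le_csSup hbdd ⟨t'.snoc (closedPoint A) h2, ?_, ?_, rfl⟩)
      · simpa using h1.symm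
      · simp
    · refine le_trans (Nat.le_succ _) (le_csSup hbdd ⟨t'.cons s.head h1, ?_, ?_, by simp⟩)
      · simp
      · simpa using h2
    · refine le_trans (Nat.le_add_right _ 2) (le_csSup hbdd
        ⟨(t'.cons s.head h1).snoc (closedPoint A) (show (t'.cons s.head h1).last < closedPoint A by rw [RelSeries.last_cons]; exact h2), ?_, ?_, by simp⟩)
      · simp
      · simp

/-- In a catenary equidimensional local ring the height goes up by one at each step. -/
theorem height_succ_of_covBy (hcat : CAlg.IsCatenary A) (heq : EGA4.IsEquidim A)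
    (p q : PrimeSpectrum A) (h : p ⋖ q) : q.asIdeal.height = p.asIdeal.height + 1 := by
  obtain ⟨a, ha1, ha2, ha3, ha4⟩ := exists_saturated_to (A := A) p
  obtain ⟨b, hb1, hb2, hb3, hb4⟩ := exists_saturated_to (A := A) q
  obtain ⟨n, hn⟩ := hcat.1 q (closedPoint A) (le_maximalIdeal q.isPrime.ne_top)
  let T : Set ℕ := {m | ∃ r : LTSeries (PrimeSpectrum A), r.head = q ∧ r.last = closedPoint A ∧
    r.length = m}
  have hT : T.Nonempty := by
    rcases eq_or_lt_of_le (show q ≤ closedPoint A from le_maximalIdeal q.isPrime.ne_top) with h' | h'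
    · exact ⟨_, RelSeries.singleton _ q, rfl, h', rfl⟩
    · exact ⟨_, (RelSeries.singleton _ q).snoc (closedPoint A) h', rfl, RelSeries.last_snoc _ _ _, rfl⟩
  have hbdd : BddAbove T := ⟨n, fun m ⟨r, h1, h2, h3⟩ => h3 ▸ hn r h1 h2⟩
  obtain ⟨c, hc1, hc2, hc3⟩ := Nat.sSup_mem hT hbdd
  have hcs : PtTop.Catenary.Saturated c := PtTop.Catenary.saturated_of_longest c fun u h1 h2 =>
    hc3 ▸ le_csSup hbdd ⟨u, h1.trans hc1, h2.trans hc2, rfl⟩
  let a' := a.snoc q (show a.last < q from ha2 ▸ h.lt)
  have ha's : PtTop.Catenary.Saturated a' := saturated_snoc a q _ ha4 (ha2 ▸ h)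
  let s1 := a'.smash c (by simp [a', hc1])
  let s2 := b.smash c (hb2.trans hc1.symm)
  have e1 := length_eq_ringKrullDim hcat heq s1 (saturated_smash a' c _ ha's hcs)
    (by simpa [s1, a'] using ha1) (by simpa [s1] using hc2)
  have e2 := length_eq_ringKrullDim hcat heq s2 (saturated_smash b c _ hb4 hcs)
    (by simpa [s2] using hb1) (by simpa [s2] using hc2)
  have e3 : (s1.length : WithBot ℕ∞) = (s2.length : WithBot ℕ∞) := e1.trans e2.symm
  have e4 : a.length + 1 + c.length = b.length + c.length := by
    have := (ENat.natCast_inj.1 (WithBot.coe_inj.1 e3) : s1.length = s2.length)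
    simpa [s1, s2, a'] using this
  rw [← ha3, ← hb3]
  exact_mod_cast (by omega : b.length = a.length + 1)

end Groth.Agent.EGA4Lib
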