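import Groth.Agent.EGA4Lib.Fibers

/-!
# `(S_k)` and Cohen–Macaulay fibres: ascent, descent, composites (EGA IV 6.4, 7.3)
-/

set_option autoImplicit false
set_option linter.style.haveILetI false

universe u

open IsLocalRing TensorProduct

namespace Groth.Agent.EGA4Lib

theorem min_add_le (k : ℕ) {a b : WithBot ℕ∞} {c d : ℕ∞}
    (h1 : min (k : WithBot ℕ∞) a ≤ (c : WithBot ℕ∞)) (h2 : min (k : WithBot ℕ∞) b ≤ (d : WithBot ℕ∞)) :
    min (k : WithBot ℕ∞) (a + b) ≤ ((c + d : ℕ∞) : WithBot ℕ∞) := by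
  cases a with
  | bot => simp
  | coe a =>
    cases b with
    | bot => simp
    | coe b =>
      rw [show ((k : WithBot ℕ∞)) = (((k : ℕ∞)) : WithBot ℕ∞) from rfl, ← WithBot.coe_min,
        WithBot.coe_le_coe] at h1 h2
      rw [show ((k : WithBot ℕ∞)) = (((k : ℕ∞)) : WithBot ℕ∞) from rfl, ← WithBot.coe_add,
        ← WithBot.coe_min, WithBot.coe_le_coe]
      refine le_trans ?_ (add_le_add h1 h2)
      rcases le_total (k : ℕ∞) a with h | h
      · exact (min_le_left _ _).trans (le_add_right (le_min le_rfl h))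
      rcases le_total (k : ℕ∞) b with h' | h'
      · exact (min_le_left _ _).trans (le_add_left (le_min le_rfl h'))
      exact (min_le_right _ _).trans (add_le_add (le_min h le_rfl) (le_min h' le_rfl))

section

variable (A : Type u) {B : Type u} [CommRing A] [CommRing B] [IsNoetherianRing A] [IsNoetherianRing B]
  [Algebra A B] [Module.Flat A B]

/-- EGA IV 6.3.1 and 6.1.2 for the local rings of a flat algebra. -/
theorem depth_supportDim_stalk_ring (q : Ideal B) [q.IsPrime] :
    LocCoh.depth (Localization.AtPrime q) (LocalizedModule q.primeCompl B) =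
        LocCoh.depth (Localization.AtPrime (q.comap (algebraMap A B)))
            (LocalizedModule (q.comap (algebraMap A B)).primeCompl A) +
          LocCoh.depth (Localization.AtPrime q) (stalkFib A q B) ∧
      Module.supportDim (Localization.AtPrime q) (LocalizedModule q.primeCompl B) =
        Module.supportDim (Localization.AtPrime (q.comap (algebraMap A B)))
            (LocalizedModule (q.comap (algebraMap A B)).primeCompl A) +
          Module.supportDim (Localization.AtPrime q) (stalkFib A q B) := by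
  let L := Localization.AtPrime q
  haveI : Nontrivial (LocalizedModule (q.comap (algebraMap A B)).primeCompl A) :=
    (Depth.localizedModuleSelfEquiv (q.comap (algebraMap A B)).primeCompl).toEquiv.nontrivial
  haveI : Nontrivial (LocalizedModule q.primeCompl B) :=
    (Depth.localizedModuleSelfEquiv q.primeCompl).toEquiv.nontrivial
  obtain ⟨hd, hs⟩ := depth_supportDim_stalk A q A B
  let e : B ⊗[A] A ≃ₗ[B] B := AlgebraTensorModule.rid A B B
  obtain ⟨he1, he2⟩ := depth_supportDim_congr (L := L)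
    (X := LocalizedModule q.primeCompl (B ⊗[A] A)) (Y := LocalizedModule q.primeCompl B)
    (IsLocalizedModule.mapEquiv q.primeCompl (LocalizedModule.mkLinearMap q.primeCompl _)
      (LocalizedModule.mkLinearMap q.primeCompl _) L e)
  exact ⟨he1.symm.trans hd, he2.symm.trans (hs inferInstance inferInstance)⟩

/-- EGA IV 6.4.1 (ii) for rings. -/
theorem hasSk_of_flat_of_fibres (k : ℕ) (hA : LocCoh.HasSk k A A)
    (hfib : ∀ (p : Ideal A) [p.IsPrime], LocCoh.HasSk k (p.Fiber B) (p.Fiber B)) :
    LocCoh.HasSk k B B := by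
  intro q _
  obtain ⟨hd, hs⟩ := depth_supportDim_stalk_ring A q
  rw [hd, hs]
  exact min_add_le k (hA _) ((forall_hasSk_fiber_iff A k).1 hfib q)

omit [IsNoetherianRing A] [Module.Flat A B] in
/-- Above every prime there is one minimal in its fibre. -/
theorem exists_minimal_over (p : Ideal A) [p.IsPrime]
    (h : ∃ x : PrimeSpectrum B, x.asIdeal.comap (algebraMap A B) = p) :
    ∃ r : PrimeSpectrum B, r.asIdeal.comap (algebraMap A B) = p ∧
      Module.supportDim (Localization.AtPrime r.asIdeal) (stalkFib A r.asIdeal B) = 0 ∧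
      LocCoh.depth (Localization.AtPrime r.asIdeal) (stalkFib A r.asIdeal B) = 0 := by
  let T : Set (PrimeSpectrum B) := {x | x.asIdeal.comap (algebraMap A B) = p}
  have hT : T.Nonempty := h
  let m := Function.argminOn (fun x : PrimeSpectrum B => x.asIdeal.height) T hT
  have hm : m ∈ T := Function.argminOn_mem _ T hT
  haveI := m.isPrime
  haveI : Nontrivial (LocalizedModule m.asIdeal.primeCompl B) :=
    (Depth.localizedModuleSelfEquiv m.asIdeal.primeCompl).toEquiv.nontrivial
  refine ⟨m, hm, stalkFib_eq_zero A m.asIdeal B fun x hxm _ hxp => ?_⟩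
  by_contra hne
  haveI := x.isPrime
  have hlt := Ideal.height_strict_mono_of_isPrime (lt_of_le_of_ne hxm hne)
  exact hlt.not_ge (Function.argminOn_le (fun x : PrimeSpectrum B => x.asIdeal.height) T
    (hxp.trans hm))

/-- EGA IV 6.4.1 (i) for rings. -/
theorem hasSk_of_faithfullyFlat [Module.FaithfullyFlat A B] (k : ℕ) (hB : LocCoh.HasSk k B B) :
    LocCoh.HasSk k A A := by
  intro p _
  obtain ⟨r, hr, hs0, hd0⟩ := exists_minimal_over A p
    (PrimeSpectrum.comap_surjective_of_faithfullyFlat (A := A) (B := B) ⟨p, ‹_›⟩ |>.imp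
      fun x hx => congrArg PrimeSpectrum.asIdeal hx)
  subst hr
  obtain ⟨hd, hs⟩ := depth_supportDim_stalk_ring A r.asIdeal
  have := hB r.asIdeal
  rwa [hd, hs, hs0, hd0, add_zero, add_zero] at this

end

section comp

variable (A B : Type u) {C : Type u} [CommRing A] [CommRing B] [CommRing C] [Algebra A B] [Algebra B C]
  [Algebra A C] [IsScalarTower A B C] [IsNoetherianRing B] [IsNoetherianRing C]

theorem hasSk_fiber_comp [Module.Flat B C] (n : ℕ)
    (hAB : ∀ (p : Ideal A) [p.IsPrime], LocCoh.HasSk n (p.Fiber B) (p.Fiber B))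
    (hBC : ∀ (q : Ideal B) [q.IsPrime], LocCoh.HasSk n (q.Fiber C) (q.Fiber C)) :
    ∀ (p : Ideal A) [p.IsPrime], LocCoh.HasSk n (p.Fiber C) (p.Fiber C) := by
  rw [forall_hasSk_fiber_iff] at hAB hBC ⊢
  intro r _
  obtain ⟨hd, hs⟩ := depth_supportDim_stalkFib_comp A (B := B) r
  rw [hd, hs]
  exact min_add_le n (hAB _) (hBC r)

theorem hasSk_fiber_of_comp [Module.FaithfullyFlat B C] (n : ℕ)
    (hAC : ∀ (p : Ideal A) [p.IsPrime], LocCoh.HasSk n (p.Fiber C) (p.Fiber C)) :
    ∀ (p : Ideal A) [p.IsPrime], LocCoh.HasSk n (p.Fiber B) (p.Fiber B) := by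
  rw [forall_hasSk_fiber_iff] at hAC ⊢
  intro q _
  obtain ⟨r, hr, hs0, hd0⟩ := exists_minimal_over B q
    (PrimeSpectrum.comap_surjective_of_faithfullyFlat (A := B) (B := C) ⟨q, ‹_›⟩ |>.imp
      fun x hx => congrArg PrimeSpectrum.asIdeal hx)
  subst hr
  obtain ⟨hd, hs⟩ := depth_supportDim_stalkFib_comp A (B := B) r.asIdeal
  have := hAC r.asIdeal
  rwa [hd, hs, hs0, hd0, add_zero, add_zero] at this

theorem isCohenMacaulayRing_fiber_comp [Module.Flat B C]
    (hAB : ∀ (p : Ideal A) [p.IsPrime], LocCoh.IsCohenMacaulayRing (p.Fiber B))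
    (hBC : ∀ (q : Ideal B) [q.IsPrime], LocCoh.IsCohenMacaulayRing (q.Fiber C)) :
    ∀ (p : Ideal A) [p.IsPrime], LocCoh.IsCohenMacaulayRing (p.Fiber C) := by
  rw [forall_isCohenMacaulayRing_fiber_iff] at hAB hBC ⊢
  intro r _
  obtain ⟨hd, hs⟩ := depth_supportDim_stalkFib_comp A (B := B) r
  rw [hd, hs, hAB, hBC, WithBot.coe_add]

theorem isCohenMacaulayRing_fiber_of_comp [Module.FaithfullyFlat B C]
    (hAC : ∀ (p : Ideal A) [p.IsPrime], LocCoh.IsCohenMacaulayRing (p.Fiber C)) :
    ∀ (p : Ideal A) [p.IsPrime], LocCoh.IsCohenMacaulayRing (p.Fiber B) := by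
  rw [forall_isCohenMacaulayRing_fiber_iff] at hAC ⊢
  intro q _
  obtain ⟨r, hr, hs0, hd0⟩ := exists_minimal_over B q
    (PrimeSpectrum.comap_surjective_of_faithfullyFlat (A := B) (B := C) ⟨q, ‹_›⟩ |>.imp
      fun x hx => congrArg PrimeSpectrum.asIdeal hx)
  subst hr
  obtain ⟨hd, hs⟩ := depth_supportDim_stalkFib_comp A (B := B) r.asIdeal
  have := hAC r.asIdeal
  rwa [hd, hs, hs0, hd0, add_zero, add_zero] at this

end comp

end Groth.Agent.EGA4Lib
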