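import Groth.Agent.EGA4Lib.CompleteJ2
import Groth.Agent.EGA4Lib.FibreLoc
import Groth.Agent.EGA4Lib.FibreComp
import Groth.Agent.EGA4Lib.NorLocus
import Groth.Agent.S2611
import Groth.Agent.RegLoc.Completion

/-!
# Loci descend from the completion
-/

set_option autoImplicit false
set_option linter.style.haveILetI false

open IsLocalRing

namespace Groth.Agent.EGA4Lib

universe u

/-- Openness descends along faithfully flat maps. -/
theorem isOpen_of_isOpen_comap_preimage {A B : Type u} [CommRing A] [CommRing B] [Algebra A B]
    [Module.FaithfullyFlat A B] (U : Set (PrimeSpectrum A))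
    (h : IsOpen (PrimeSpectrum.comap (algebraMap A B) ⁻¹' U)) : IsOpen U :=
  (PrimeSpectrum.isQuotientMap_of_generalizingMap PrimeSpectrum.comap_surjective_of_faithfullyFlat
    (RingHom.Flat.generalizingMap_comap (RingHom.flat_algebraMap_iff.2 inferInstance))).isOpen_preimage.1 h

theorem isRegularLocalRing_iff_of_regularFibres {A B : Type u} [CommRing A] [CommRing B]
    [IsNoetherianRing A] [IsNoetherianRing B] [Algebra A B] [Module.Flat A B]
    (h : ∀ (p : Ideal A) [p.IsPrime], CAlg.IsGeometricallyRegular p.ResidueField (p.Fiber B))
    (q : Ideal B) [q.IsPrime] :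
    IsRegularLocalRing (Localization.AtPrime q) ↔
      IsRegularLocalRing (Localization.AtPrime (q.comap (algebraMap A B))) := by
  constructor
  · intro hq
    letI : Algebra (Localization.AtPrime (q.comap (algebraMap A B))) (Localization.AtPrime q) :=
      (Localization.localRingHom _ q (algebraMap A B) rfl).toAlgebra
    haveI : IsLocalHom (algebraMap (Localization.AtPrime (q.comap (algebraMap A B)))
        (Localization.AtPrime q)) := Localization.isLocalHom_localRingHom _ _ _ rfl
    haveI : Module.Flat (Localization.AtPrime (q.comap (algebraMap A B))) (Localization.AtPrime q) :=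
      RingHom.flat_algebraMap_iff.1 (flat_localRingHom q _ rfl)
    exact RegLoc.Homological.isRegularLocalRing_of_flat (Localization.AtPrime q)
  · intro hp
    haveI : IsRegularLocalRing (EGA4.FibLocRing A B q) := isRegularLocalRing_fibLocRing A h q
    exact isRegularLocalRing_of_regular_fibre (A := A) q

/-- EGA IV 6.12.? for formal fibres geometrically regular. -/
theorem isOpen_regLocus_of_isRegularHom (A : Type u) [CommRing A] [IsNoetherianRing A] [IsLocalRing A]
    (hA : CAlg.IsRegularHom A (EGA4.Cpl A)) : IsOpen (EGA4.regLocus A) := by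
  let Â := EGA4.Cpl A
  haveI : IsNoetherianRing Â := RegLoc.Completion.isNoetherianRing_adicCompletion' _
  haveI : Module.FaithfullyFlat A Â := Module.FaithfullyFlat.of_flat_of_isLocalHom
  have hU : IsOpen (EGA4.regLocus Â) :=
    isJ2_of_isAdicComplete Â Â inferInstance
  refine isOpen_of_isOpen_comap_preimage (B := Â) _ ?_
  convert hU using 1
  ext q
  exact (isRegularLocalRing_iff_of_regularFibres (fun p _ => (hA.2 p).2) q.asIdeal).symm

theorem mem_norLocus_iff_of_normalFibres {A B : Type u} [CommRing A] [CommRing B]
    [IsNoetherianRing A] [IsNoetherianRing B] [Algebra A B] [Module.Flat A B]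
    (h : ∀ (p : Ideal A) [p.IsPrime], EGA4.IsGeomNormal p.ResidueField (p.Fiber B))
    (q : Ideal B) [q.IsPrime] :
    (IsDomain (Localization.AtPrime q) ∧ IsIntegrallyClosed (Localization.AtPrime q)) ↔
      (IsDomain (Localization.AtPrime (q.comap (algebraMap A B))) ∧
        IsIntegrallyClosed (Localization.AtPrime (q.comap (algebraMap A B)))) := by
  constructor
  · rintro ⟨h1, h2⟩
    letI : Algebra (Localization.AtPrime (q.comap (algebraMap A B))) (Localization.AtPrime q) :=
      (Localization.localRingHom _ q (algebraMap A B) rfl).toAlgebra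
    haveI : IsLocalHom (algebraMap (Localization.AtPrime (q.comap (algebraMap A B)))
        (Localization.AtPrime q)) := Localization.isLocalHom_localRingHom _ _ _ rfl
    haveI : Module.Flat (Localization.AtPrime (q.comap (algebraMap A B))) (Localization.AtPrime q) :=
      RingHom.flat_algebraMap_iff.1 (flat_localRingHom q _ rfl)
    haveI : Module.FaithfullyFlat (Localization.AtPrime (q.comap (algebraMap A B)))
      (Localization.AtPrime q) := Module.FaithfullyFlat.of_flat_of_isLocalHom
    exact isDomain_isIntegrallyClosed_of_faithfullyFlat _ (Localization.AtPrime q)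
  · rintro ⟨h1, h2⟩
    exact Groth.Agent.S2611.result A B (fun q _ => isNormalRing_localization_fibre A h q) q

theorem isOpen_norLocus_of_geomNormalFormalFibres (A : Type u) [CommRing A] [IsNoetherianRing A]
    [IsLocalRing A] (hA : EGA4.HasGeomNormalFormalFibres A) : IsOpen (EGA4.norLocus A) := by
  let Â := EGA4.Cpl A
  haveI : IsNoetherianRing Â := RegLoc.Completion.isNoetherianRing_adicCompletion' _
  haveI : Module.FaithfullyFlat A Â := Module.FaithfullyFlat.of_flat_of_isLocalHom
  have hU : IsOpen (EGA4.norLocus Â) :=
    isOpen_norLocus_of_isOpen_regLocus (isJ2_of_isAdicComplete Â Â inferInstance)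
  refine isOpen_of_isOpen_comap_preimage (B := Â) _ ?_
  convert hU using 1
  ext q
  exact (mem_norLocus_iff_of_normalFibres (fun p _ => hA p) q.asIdeal).symm

end Groth.Agent.EGA4Lib
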