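import Groth.Agent.EGA4Lib.CplFlat
import Groth.Agent.GeomFieldLib.Corollaries
import Groth.Agent.RegLoc.UFD
import Groth.Agent.CycCover.Regular

/-!
# Formal fibres descended along a flat local homomorphism (EGA IV 7.3.x)
-/

set_option autoImplicit false
set_option linter.style.haveILetI false

universe u

open TensorProduct IsLocalRing

namespace Groth.Agent.EGA4Lib

theorem exists_faithfullyFlat_cpl (A B : Type u) [CommRing A] [CommRing B] [IsLocalRing A] [IsLocalRing B]
    [IsNoetherianRing A] [IsNoetherianRing B] [Algebra A B] [IsLocalHom (algebraMap A B)] [Module.Flat A B] :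
    ∃ _ : Algebra (EGA4.Cpl A) (EGA4.Cpl B),
      IsScalarTower A (EGA4.Cpl A) (EGA4.Cpl B) ∧ Module.FaithfullyFlat (EGA4.Cpl A) (EGA4.Cpl B) := by
  obtain ⟨_, h1, h2⟩ := exists_algebra_cpl A B
  haveI := flat_cpl A B
  exact ⟨inferInstance, h1, Module.FaithfullyFlat.of_flat_of_isLocalHom⟩

theorem isDomain_isIC_of_isRegularLocalRing (R : Type u) [CommRing R] [IsRegularLocalRing R] :
    IsDomain R ∧ IsIntegrallyClosed R := by
  haveI : IsDomain R := RegLoc.isDomain R
  haveI := RegLoc.UFD.uniqueFactorizationMonoid R
  exact ⟨inferInstance, inferInstance⟩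

theorem isNormalRing_of_isRegularRing (R : Type u) [CommRing R] [IsRegularRing R] : EGA4.IsNormalRing R :=
  fun p _ => haveI := IsRegularRing.isRegularLocalRing_localization p
    isDomain_isIC_of_isRegularLocalRing _

theorem isGeomNormal_of_isGeometricallyRegular (k S : Type u) [Field k] [CommRing S] [Algebra k S]
    (h : CAlg.IsGeometricallyRegular k S) : EGA4.IsGeomNormal k S := fun k' _ _ hf => by
  haveI := h k' hf
  exact isNormalRing_of_isRegularRing _

theorem isGeometricallyReduced_of_finite (k S : Type u) [Field k] [CommRing S] [Algebra k S]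
    (h : ∀ (K : Type u) [Field K] [Algebra k K], Module.Finite k K → IsReduced (K ⊗[k] S)) :
    Algebra.IsGeometricallyReduced k S := by
  rw [Algebra.isGeometricallyReduced_field_iff]
  haveI : IsReduced (S ⊗[k] AlgebraicClosure k) := by
    refine IsReduced.tensorProduct_of_flat_of_forall_fg fun D hD => ?_
    haveI : Algebra.FiniteType k D := (Subalgebra.fg_iff_finiteType D).mp hD
    haveI : Algebra.IsIntegral k D := Algebra.IsIntegral.of_injective D.val Subtype.val_injective
    haveI : Module.Finite k D := Algebra.IsIntegral.finite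
    letI : Field D := (isField_of_isIntegral_of_isField' (Field.toIsField k)).toField
    haveI := h D inferInstance
    exact isReduced_of_injective (Algebra.TensorProduct.comm k S D) (AlgEquiv.injective _)
  exact isReduced_of_injective (Algebra.TensorProduct.comm k (AlgebraicClosure k) S) (AlgEquiv.injective _)

theorem isGeometricallyReduced_of_isGeometricallyRegular (k S : Type u) [Field k] [CommRing S] [Algebra k S]
    (h : CAlg.IsGeometricallyRegular k S) : Algebra.IsGeometricallyReduced k S :=
  isGeometricallyReduced_of_finite k S fun K _ _ hf => by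
    haveI := h K hf
    exact CycCover.isReduced_of_isRegularRing

theorem isRegularRing_of_isGeometricallyRegular (k S : Type u) [Field k] [CommRing S] [Algebra k S]
    (h : CAlg.IsGeometricallyRegular k S) : IsRegularRing S := by
  haveI := h k (Module.Finite.self _)
  exact IsRegularRing.of_ringEquiv (R := k ⊗[k] S) (Algebra.TensorProduct.lid k S).toRingEquiv

theorem isNormalHom_of_isRegularHom (A B : Type u) [CommRing A] [CommRing B] [Algebra A B]
    (h : CAlg.IsRegularHom A B) : EGA4.IsNormalHom A B :=
  ⟨h.1, fun p _ => isGeomNormal_of_isGeometricallyRegular _ _ (h.2 p).2⟩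

end Groth.Agent.EGA4Lib
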