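import Groth.Agent.EGA4Lib.JacGRingMain
import Groth.Agent.Hens.GRingFinite
import Groth.Agent.S4704
import Groth.Agent.S9259

/-!
# G-rings are detected at maximal ideals (EGA IV 7.4.4)
-/

set_option autoImplicit false
set_option linter.style.haveILetI false

open IsLocalRing

namespace Groth.Agent.EGA4Lib

universe u

/-- Regular formal fibres of a local ring pass to its localisations at primes. -/
theorem isRegularHom_completion_localization (R : Type u) [CommRing R] [IsLocalRing R] [IsNoetherianRing R]
    (h : CAlg.IsRegularHom R (AdicCompletion (maximalIdeal R) R)) (p : Ideal R) [p.IsPrime]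
    (L : Type u) [CommRing L] [IsLocalRing L] [Algebra R L] [IsLocalization.AtPrime L p] :
    CAlg.IsRegularHom L (AdicCompletion (maximalIdeal L) L) := by
  let T := AdicCompletion (maximalIdeal R) R
  haveI : IsNoetherianRing T :=
    RegLoc.AdicNoeth.isNoetherianRing_adicCompletion _ (IsNoetherian.noetherian _)
  haveI : Module.FaithfullyFlat R T := Module.FaithfullyFlat.of_flat_of_isLocalHom
  haveI : IsAdicComplete (maximalIdeal T) T := by
    rw [AdicCompletion.maximalIdeal_eq_map, IsAdicComplete.map_algebraMap_iff]
    exact AdicCompletion.isAdicComplete (IsNoetherian.noetherian _)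
  haveI : IsNoetherianRing L := IsLocalization.isNoetherianRing p.primeCompl L inferInstance
  obtain ⟨⟨P, hP⟩, hPp⟩ := PrimeSpectrum.comap_surjective_of_faithfullyFlat (A := R) (B := T) ⟨p, inferInstance⟩
  haveI := hP
  have hPp' : P.comap (algebraMap R T) = p := congrArg PrimeSpectrum.asIdeal hPp
  let CP := Localization.AtPrime P
  haveI : IsNoetherianRing CP := IsLocalization.isNoetherianRing P.primeCompl _ inferInstance
  letI algQ : Algebra (Localization.AtPrime (P.comap (algebraMap R T))) CP :=
    (Localization.localRingHom (P.comap (algebraMap R T)) P (algebraMap R T) rfl).toAlgebra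
  have h0 : CAlg.IsRegularHom (Localization.AtPrime (P.comap (algebraMap R T))) CP :=
    (Groth.Agent.S9259.result R T).1.1 h P
  haveI : IsLocalization.AtPrime L (P.comap (algebraMap R T)) := by
    convert ‹IsLocalization.AtPrime L p›
  let g := IsLocalization.algEquiv (P.comap (algebraMap R T)).primeCompl
    (Localization.AtPrime (P.comap (algebraMap R T))) L
  letI : Algebra (Localization.AtPrime (P.comap (algebraMap R T))) L := g.toAlgHom.toRingHom.toAlgebra
  letI algL : Algebra L CP :=
    ((algebraMap (Localization.AtPrime (P.comap (algebraMap R T))) CP).comp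
      g.symm.toAlgHom.toRingHom).toAlgebra
  haveI : IsScalarTower (Localization.AtPrime (P.comap (algebraMap R T))) L CP :=
    IsScalarTower.of_algebraMap_eq fun x => by
      show _ = algebraMap _ CP (g.symm (g x))
      rw [g.symm_apply_apply]
  have hC : CAlg.IsRegularHom L CP :=
    Hens.isRegularHom_of_bijective_base (Localization.AtPrime (P.comap (algebraMap R T))) L CP g.bijective h0
  haveI : IsLocalHom (algebraMap L CP) := by
    refine ⟨fun x hx => ?_⟩
    have h1 : IsUnit (g.symm x) :=
      (Localization.isLocalHom_localRingHom (P.comap (algebraMap R T)) P (algebraMap R T) rfl).map_nonunit _ hx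
    simpa using h1.map g
  exact Groth.Agent.S4704.result L CP hC ((Jac.isGRing_of_isAdicComplete T).2 P)

theorem isGRing_of_forall_isMaximal {R : Type u} [CommRing R] [IsNoetherianRing R]
    (h : ∀ (m : Ideal R) [m.IsMaximal], CAlg.IsRegularHom (Localization.AtPrime m)
      (AdicCompletion (maximalIdeal (Localization.AtPrime m)) (Localization.AtPrime m))) :
    CAlg.IsGRing R := by
  refine ⟨inferInstance, fun p hp => ?_⟩
  obtain ⟨m, hm, hpm⟩ := Ideal.exists_le_maximal p hp.ne_top
  haveI := hm
  let A := Localization.AtPrime m
  haveI : IsNoetherianRing A := IsLocalization.isNoetherianRing m.primeCompl _ inferInstance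
  let L := Localization.AtPrime p
  have hle : m.primeCompl ≤ p.primeCompl := fun x hx h' => hx (hpm h')
  letI : Algebra A L := IsLocalization.localizationAlgebraOfSubmonoidLe A L m.primeCompl p.primeCompl hle
  haveI : IsScalarTower R A L :=
    IsLocalization.localization_isScalarTower_of_submonoid_le A L m.primeCompl p.primeCompl hle
  let q : Ideal A := (maximalIdeal L).comap (algebraMap A L)
  have hpq : q.comap (algebraMap R A) = p := by
    rw [Ideal.comap_comap, ← IsScalarTower.algebraMap_eq]
    exact Localization.AtPrime.comap_maximalIdeal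
  haveI : IsLocalization.AtPrime L q := by
    have h2 := IsLocalization.isLocalization_of_submonoid_le A L m.primeCompl p.primeCompl hle
    refine IsLocalization.of_le (p.primeCompl.map (algebraMap R A)) q.primeCompl ?_ ?_
    · rintro _ ⟨y, hy, rfl⟩ h'
      exact hy ((SetLike.ext_iff.1 hpq y).1 h')
    · intro r hr
      exact notMem_maximalIdeal.1 hr
  exact isRegularHom_completion_localization A (h m) q L

end Groth.Agent.EGA4Lib
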