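import Groth.Agent.EGA4Lib.JacGRingMain
import Groth.Agent.S4695
import Groth.Agent.S4704
import Groth.Agent.S9259
import Groth.Agent.EGA4Lib.GRingLocal

/-!
# Algebras of finite type over G-rings (EGA IV 7.4.4)
-/

set_option autoImplicit false
set_option linter.style.haveILetI false

open IsLocalRing TensorProduct

namespace Groth.Agent.EGA4Lib.Jac

universe u

attribute [local instance 2000] Ring.toIntAlgebra

/-- The G-ring property is a statement on the generic formal fibres of the quotient domains. -/
theorem isGRing_of_domain_quotients (R : Type u) [CommRing R] [IsNoetherianRing R]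
    (h : ∀ (P₀ : Ideal R) [P₀.IsPrime] (pb : Ideal (R ⧸ P₀)) [pb.IsPrime] (L : Type u) [CommRing L]
      [IsLocalRing L] [IsNoetherianRing L] [Algebra (R ⧸ P₀) L] [IsLocalization.AtPrime L pb]
      (κ K : Type u) [Field κ] [Algebra (R ⧸ P₀) κ] [IsFractionRing (R ⧸ P₀) κ] [Field K]
      [Algebra (R ⧸ P₀) K] [Algebra κ K] [IsScalarTower (R ⧸ P₀) κ K] [Module.Finite κ K] [Algebra L K]
      [IsScalarTower (R ⧸ P₀) L K], IsRegularRing (K ⊗[L] AdicCompletion (maximalIdeal L) L)) :
    CAlg.IsGRing R := by
  refine ⟨inferInstance, fun p _ => ?_⟩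
  let A := Localization.AtPrime p
  let C := AdicCompletion (maximalIdeal A) A
  haveI : IsNoetherianRing A := IsLocalization.isNoetherianRing p.primeCompl _ inferInstance
  haveI : IsNoetherianRing C :=
    RegLoc.AdicNoeth.isNoetherianRing_adicCompletion _ (IsNoetherian.noetherian _)
  refine ⟨inferInstance, fun P' _ => ⟨?_, ?_⟩⟩
  · exact forall_isCohenMacaulayRing_fiber_iff.isNoetherianRing_fiber A P'
  intro K _ _ hfin
  -- the domain `D = R / (P' ∩ R)` and its localisation `A / P'`
  let P₀ : Ideal R := P'.comap (algebraMap R A)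
  haveI : P₀.IsPrime := Ideal.IsPrime.comap _
  have hP₀p : P₀ ≤ p := fun x hx => by
    have h1 : algebraMap R A x ∈ maximalIdeal A := le_maximalIdeal Ideal.IsPrime.ne_top' hx
    exact (IsLocalization.AtPrime.to_map_mem_maximal_iff A p x).1 h1
  have hP' : P₀.map (algebraMap R A) = P' := IsLocalization.map_comap p.primeCompl A P'
  let D := R ⧸ P₀
  let pb : Ideal D := p.map (Ideal.Quotient.mk P₀)
  haveI : pb.IsPrime :=
    Ideal.map_isPrime_of_surjective Ideal.Quotient.mk_surjective (by rw [Ideal.mk_ker]; exact hP₀p)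
  let L := A ⧸ P'
  letI : Algebra D L := (Ideal.quotientMap P' (algebraMap R A) le_rfl).toAlgebra
  haveI : IsScalarTower R D L := IsScalarTower.of_algebraMap_eq fun _ => rfl
  haveI : IsLocalRing L := IsLocalRing.of_surjective' _ Ideal.Quotient.mk_surjective
  haveI : IsLocalization.AtPrime L pb := by
    have hmap : p.primeCompl.map (Ideal.Quotient.mk P₀) = pb.primeCompl := by
      ext x
      constructor
      · rintro ⟨y, hy, rfl⟩ h
        exact hy ((SetLike.ext_iff.1 (EGA41Lib.NagataCrit.comap_map hP₀p) y).1 h)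
      · intro hx
        obtain ⟨y, rfl⟩ := Ideal.Quotient.mk_surjective x
        exact ⟨y, fun h => hx (Ideal.mem_map_of_mem _ h), rfl⟩
    show IsLocalization pb.primeCompl L
    rw [← hmap]
    exact IsLocalization.of_surjective p.primeCompl A (Ideal.Quotient.mk P₀) Ideal.Quotient.mk_surjective
      (Ideal.Quotient.mk P') Ideal.Quotient.mk_surjective rfl (by rw [Ideal.mk_ker, Ideal.mk_ker, hP'])
  let κ := P'.ResidueField
  letI : Algebra D κ := ((algebraMap L κ).comp (algebraMap D L)).toAlgebra
  haveI : IsScalarTower D L κ := IsScalarTower.of_algebraMap_eq fun _ => rfl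
  haveI : IsDomain L := inferInstanceAs (IsDomain (A ⧸ P'))
  haveI : IsFractionRing L κ := inferInstanceAs (IsFractionRing (A ⧸ P') P'.ResidueField)
  haveI : FaithfulSMul D κ := (faithfulSMul_iff_algebraMap_injective D κ).2
    ((IsFractionRing.injective L κ).comp
      (IsLocalization.injective L (Ideal.primeCompl_le_nonZeroDivisors pb)))
  haveI : IsFractionRing D κ := IsFractionRing.of_field D κ fun z => by
    obtain ⟨x, y, hy, rfl⟩ := IsFractionRing.div_surjective (A := L) z
    obtain ⟨a, s, rfl⟩ := IsLocalization.exists_mk'_eq pb.primeCompl x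
    obtain ⟨b, t, rfl⟩ := IsLocalization.exists_mk'_eq pb.primeCompl y
    refine ⟨a * t, b * s, ?_⟩
    have hu : ∀ u : pb.primeCompl, algebraMap L κ (algebraMap D L u) ≠ 0 := fun u =>
      ((IsLocalization.map_units L u).map (algebraMap L κ)).ne_zero
    rw [IsScalarTower.algebraMap_apply D L κ (a * t), IsScalarTower.algebraMap_apply D L κ (b * s),
      map_mul, map_mul, map_mul, map_mul, ← IsLocalization.mk'_spec L a s, ← IsLocalization.mk'_spec L b t,
      map_mul, map_mul]
    have hs := hu s
    have ht := hu t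
    rw [mul_right_comm (algebraMap L κ (IsLocalization.mk' L b t)), mul_div_mul_right _ _ ht,
      mul_div_mul_right _ _ hs]
  letI : Algebra D K := ((algebraMap κ K).comp (algebraMap D κ)).toAlgebra
  haveI : IsScalarTower D κ K := IsScalarTower.of_algebraMap_eq fun _ => rfl
  letI : Algebra L K := ((algebraMap κ K).comp (algebraMap L κ)).toAlgebra
  haveI : IsScalarTower L κ K := IsScalarTower.of_algebraMap_eq fun _ => rfl
  haveI : IsScalarTower D L K := IsScalarTower.of_algebraMap_eq fun _ => rfl
  haveI := hfin
  haveI := h P₀ pb L κ K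
  letI : Algebra A K := ((algebraMap κ K).comp (algebraMap A κ)).toAlgebra
  haveI : IsScalarTower A κ K := IsScalarTower.of_algebraMap_eq fun _ => rfl
  haveI : IsScalarTower A L K := IsScalarTower.of_algebraMap_eq fun _ => rfl
  -- `K ⊗[A] C = K ⊗[L] (L ⊗[A] C) = K ⊗[L] L^`
  obtain ⟨e⟩ := nonempty_adicCompletion_quotient (maximalIdeal A) L Ideal.Quotient.mk_surjective
    (maximalIdeal L) (by
      refine (IsLocalRing.eq_maximalIdeal (Ideal.IsMaximal.map_of_surjective_of_ker_le
        Ideal.Quotient.mk_surjective ?_)).symm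
      rw [Ideal.mk_ker]; exact le_maximalIdeal Ideal.IsPrime.ne_top')
  letI : CommRing (L ⊗[A] C) := Algebra.TensorProduct.instCommRing
  letI : CommRing (K ⊗[L] (L ⊗[A] C)) := @Algebra.TensorProduct.instCommRing L K (L ⊗[A] C) _ _ _ _ _
  haveI : IsRegularRing (K ⊗[L] (L ⊗[A] C)) :=
    IsRegularRing.of_ringEquiv (Algebra.TensorProduct.congr (AlgEquiv.refl (R := L) (A₁ := K)) e).toRingEquiv
  haveI : IsRegularRing (K ⊗[A] C) :=
    IsRegularRing.of_ringEquiv (Algebra.TensorProduct.cancelBaseChange A L L K C).toRingEquiv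
  exact IsRegularRing.of_ringEquiv
    (Algebra.TensorProduct.cancelBaseChange A κ κ K C).symm.toRingEquiv


open Polynomial in
/-- A derivation with unit value cuts a regular ring out of a regular ring. -/
theorem isRegularRing_quotient_of_unit_derivation {W : Type u} [CommRing W] [IsNoetherianRing W]
    [IsRegularRing W] (u : W) (E : Derivation ℤ W W) (hE : IsUnit (E u)) :
    IsRegularRing (W ⧸ Ideal.span {u}) := by
  refine isRegularRing_iff.mpr fun Q hQ => ?_
  let q : Ideal W := Ideal.span {u}
  let p : Ideal W := Q.comap (Ideal.Quotient.mk q)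
  haveI : p.IsPrime := Ideal.IsPrime.comap _
  have hqp : q ≤ p := fun x hx => by
    show Ideal.Quotient.mk q x ∈ Q
    rw [Ideal.Quotient.eq_zero_iff_mem.2 hx]; exact Q.zero_mem
  have hpQ : p.map (Ideal.Quotient.mk q) = Q :=
    Ideal.map_comap_of_surjective _ Ideal.Quotient.mk_surjective Q
  haveI : (p.map (Ideal.Quotient.mk q)).IsPrime := by rw [hpQ]; exact hQ
  haveI : IsRegularLocalRing (Localization.AtPrime p) := IsRegularRing.isRegularLocalRing_localization p
  have h := isRegular_of_det (ι := Unit) hqp (fun _ => E) (fun _ => u)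
    (fun _ => Ideal.mem_span_singleton_self u) (by rw [Ideal.map_span, Set.image_singleton, Set.range_const])
    (by
      rw [Matrix.det_unique, Matrix.of_apply]
      exact fun hmem => (inferInstance : p.IsPrime).ne_top (p.eq_top_of_isUnit_mem hmem hE))
  have main : ∀ (Q' : Ideal (W ⧸ q)) (_ : Q'.IsPrime),
      p.map (Ideal.Quotient.mk q) = Q' → IsRegularLocalRing (Localization.AtPrime Q') := by
    rintro _ _ rfl
    exact h
  exact main Q hQ hpQ

open Polynomial in
/-- Adjoining a variable: tensoring over `R[X]` cuts out `x ⊗ 1 - 1 ⊗ X`. -/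
theorem isRegularRing_tensor_polynomial {R C K : Type u} [CommRing R] [CommRing C] [CommRing K]
    [Algebra R C] [Algebra R K] [Algebra R[X] C] [Algebra R[X] K] [IsScalarTower R R[X] C]
    [IsScalarTower R R[X] K] [IsNoetherianRing (K ⊗[R] C)] [IsRegularRing (K ⊗[R] C)]
    (dX : Derivation R C C) (hdX : dX (algebraMap R[X] C X) = 1) :
    IsRegularRing (K ⊗[R[X]] C) := by
  let T := R[X]
  let ρ : (K ⊗[R] C) →ₐ[R] K ⊗[T] C := Algebra.TensorProduct.lift
    ((Algebra.TensorProduct.includeLeft : K →ₐ[T] K ⊗[T] C).restrictScalars R)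
    ((Algebra.TensorProduct.includeRight : C →ₐ[T] K ⊗[T] C).restrictScalars R) fun _ _ => Commute.all _ _
  have hρ : ∀ k c, ρ (k ⊗ₜ[R] c) = k ⊗ₜ[T] c := fun k c => by simp [ρ]
  let u : (K ⊗[R] C) := algebraMap T K X ⊗ₜ[R] (1 : C) - (1 : K) ⊗ₜ[R] algebraMap T C X
  let q : Ideal (K ⊗[R] C) := Ideal.span {u}
  let iL : K →+* (K ⊗[R] C) ⧸ q := (Ideal.Quotient.mk q).comp
    (Algebra.TensorProduct.includeLeft : K →ₐ[R] (K ⊗[R] C)).toRingHom
  let iR : C →+* (K ⊗[R] C) ⧸ q := (Ideal.Quotient.mk q).comp
    (Algebra.TensorProduct.includeRight : C →ₐ[R] (K ⊗[R] C)).toRingHom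
  letI : Algebra T ((K ⊗[R] C) ⧸ q) := (iL.comp (algebraMap T K)).toAlgebra
  haveI : IsScalarTower T T ((K ⊗[R] C) ⧸ q) := IsScalarTower.left T
  have hagree : ∀ t : T, iR (algebraMap T C t) = iL (algebraMap T K t) := by
    refine RingHom.congr_fun (Polynomial.ringHom_ext (f := iR.comp (algebraMap T C))
      (g := iL.comp (algebraMap T K)) (fun r => ?_) ?_)
    · show Ideal.Quotient.mk q ((1 : K) ⊗ₜ[R] algebraMap T C (Polynomial.C r)) =
        Ideal.Quotient.mk q (algebraMap T K (Polynomial.C r) ⊗ₜ[R] (1 : C))
      congr 1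
      rw [← Polynomial.algebraMap_eq, ← IsScalarTower.algebraMap_apply, ← IsScalarTower.algebraMap_apply,
        Algebra.algebraMap_eq_smul_one, Algebra.algebraMap_eq_smul_one, TensorProduct.tmul_smul,
        TensorProduct.smul_tmul']
    · show Ideal.Quotient.mk q ((1 : K) ⊗ₜ[R] algebraMap T C X) =
        Ideal.Quotient.mk q (algebraMap T K X ⊗ₜ[R] (1 : C))
      rw [Ideal.Quotient.eq, ← neg_mem_iff, neg_sub]
      exact Ideal.mem_span_singleton_self u
  let back : K ⊗[T] C →ₐ[T] (K ⊗[R] C) ⧸ q := Algebra.TensorProduct.productMap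
    ({ iL with commutes' := fun _ => rfl } : K →ₐ[T] (K ⊗[R] C) ⧸ q)
    ({ iR with commutes' := hagree } : C →ₐ[T] (K ⊗[R] C) ⧸ q)
  have hback : ∀ w, back (ρ w) = Ideal.Quotient.mk q w := by
    intro w
    induction w using TensorProduct.induction_on with
    | zero => simp
    | add x y hx hy => rw [map_add, map_add, hx, hy, map_add]
    | tmul k c =>
      rw [hρ]
      simp only [back, Algebra.TensorProduct.productMap_apply_tmul]
      show Ideal.Quotient.mk q (k ⊗ₜ[R] (1 : C)) * Ideal.Quotient.mk q ((1 : K) ⊗ₜ[R] c) = _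
      rw [← map_mul, Algebra.TensorProduct.tmul_mul_tmul, mul_one, one_mul]
  have hsurj : Function.Surjective ρ := by
    intro z
    induction z using TensorProduct.induction_on with
    | zero => exact ⟨0, map_zero _⟩
    | add x y hx hy =>
      obtain ⟨x, rfl⟩ := hx
      obtain ⟨y, rfl⟩ := hy
      exact ⟨x + y, map_add _ _ _⟩
    | tmul k c => exact ⟨k ⊗ₜ c, hρ k c⟩
  have hker : RingHom.ker ρ = q := by
    refine le_antisymm (fun w hw => ?_) (Ideal.span_le.2 (Set.singleton_subset_iff.2 ?_))
    · have h1 := hback w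
      rw [RingHom.mem_ker] at hw
      rw [hw, map_zero] at h1
      exact Ideal.Quotient.eq_zero_iff_mem.1 h1.symm
    · show ρ u = 0
      simp only [u, map_sub, hρ, sub_eq_zero]
      rw [Algebra.algebraMap_eq_smul_one, Algebra.algebraMap_eq_smul_one, TensorProduct.tmul_smul,
        TensorProduct.smul_tmul']
  let δ : (K ⊗[R] C) →ₗ[R] (K ⊗[R] C) := TensorProduct.map LinearMap.id dX.toLinearMap
  let E : Derivation ℤ (K ⊗[R] C) (K ⊗[R] C) := Derivation.mk' δ.toAddMonoidHom.toIntLinearMap fun a b => by
    show δ (a * b) = a * δ b + b * δ a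
    induction a using TensorProduct.induction_on with
    | zero => simp
    | add a a' ha ha' => rw [add_mul, map_add, map_add, ha, ha']; ring
    | tmul x t =>
      induction b using TensorProduct.induction_on with
      | zero => simp
      | add b b' hb hb' => rw [mul_add, map_add, map_add, hb, hb']; ring
      | tmul y s =>
        simp only [δ, Algebra.TensorProduct.tmul_mul_tmul, TensorProduct.map_tmul, LinearMap.id_apply,
          Derivation.coeFn_coe, Derivation.leibniz, smul_eq_mul, TensorProduct.tmul_add]
        rw [mul_comm y x]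
  have hEu : IsUnit (E u) := by
    show IsUnit (δ u)
    have h1 : δ u = -1 := by
      simp [δ, u, T, hdX, Algebra.TensorProduct.one_def]
    rw [h1]; exact isUnit_one.neg
  haveI := isRegularRing_quotient_of_unit_derivation u E hEu
  exact IsRegularRing.of_ringEquiv (R := (K ⊗[R] C) ⧸ q)
    ((Ideal.quotEquivOfEq hker.symm).trans (RingHom.quotientKerEquivOfSurjective hsurj))

open Polynomial in
/-- `R[X]` is a base if `R` is. -/
theorem isBase_polynomial {R : Type u} [CommRing R] [IsDomain R] (hR : IsBase R) : IsBase R[X] := by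
  rcases hR with h0 | ⟨p, hp, hchar, hker⟩
  · exact Or.inl inferInstance
  haveI : Fact p.Prime := ⟨hp⟩
  refine Or.inr ⟨p, hp, inferInstance, fun f hf => ?_⟩
  let M := FractionRing R[X]
  let K := FractionRing R
  haveI : CharP M p :=
    charP_of_injective_algebraMap (IsFractionRing.injective R[X] M) p
  have hinj : Function.Injective ((algebraMap R[X] M).comp Polynomial.C) :=
    (IsFractionRing.injective R[X] M).comp Polynomial.C_injective
  let ι : K →+* M := IsFractionRing.lift hinj
  have hι : ∀ r, ι (algebraMap R K r) = algebraMap R[X] M (Polynomial.C r) := fun r =>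
    IsFractionRing.lift_algebraMap hinj r
  have hder : derivative f = 0 := by
    have := hf (DerKernel.polyDer (0 : Derivation ℤ R R) 1)
    rwa [DerKernel.polyDer_zero] at this
  have hzero : ∀ n, ¬ p ∣ n → f.coeff n = 0 := fun n hn => by
    obtain ⟨m, rfl⟩ := Nat.exists_eq_succ_of_ne_zero (n := n) (fun h => hn (by rw [h]; exact dvd_zero p))
    have h2 := congrArg (fun Q : R[X] => Q.coeff m) hder
    rw [coeff_derivative, coeff_zero] at h2
    refine (mul_eq_zero.mp h2).resolve_right fun h3 => hn ?_
    rw [← Nat.cast_one, ← Nat.cast_add, CharP.cast_eq_zero_iff R p] at h3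
    exact h3
  have hroot : ∀ n, ∃ y : K, y ^ p = algebraMap R K (f.coeff n) := fun n => hker _ fun D => by
    have h1 := congrArg (fun Q : R[X] => Q.coeff n) (hf (DerKernel.polyDer D 0))
    rwa [coeff_polyDer, coeff_zero] at h1
  choose y hy using hroot
  refine ⟨∑ n ∈ f.support, ι (y n) * algebraMap R[X] M X ^ (n / p), ?_⟩
  conv_rhs => rw [f.as_sum_support_C_mul_X_pow, map_sum]
  rw [sum_pow_char]
  refine Finset.sum_congr rfl fun n hn => ?_
  rw [map_mul, map_pow, mul_pow, ← map_pow ι, hy, hι, ← pow_mul, Nat.div_mul_cancel]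
  by_contra h
  exact (mem_support_iff.1 hn) (hzero n h)

/-- Derivations extend to the completions of the local rings. -/
theorem exists_derivation_completion {R : Type u} [CommRing R] (q : Ideal R) [q.IsPrime]
    (D : Derivation ℤ R R) :
    ∃ E : Derivation ℤ (AdicCompletion (maximalIdeal (Localization.AtPrime q)) (Localization.AtPrime q))
        (AdicCompletion (maximalIdeal (Localization.AtPrime q)) (Localization.AtPrime q)),
      ∀ r, E (algebraMap R _ r) = algebraMap R _ (D r) := by
  let A := Localization.AtPrime q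
  obtain ⟨E₀, hE₀⟩ := EGA41Lib.NagataCrit.exists_extension_localization q.primeCompl (S := A)
    (K := A) ((Algebra.linearMap R A).compDer D)
  obtain ⟨E, hE⟩ := exists_derivation_adicCompletion (maximalIdeal A) E₀
  refine ⟨E, fun r => ?_⟩
  rw [IsScalarTower.algebraMap_apply R A (AdicCompletion (maximalIdeal A) A), hE, hE₀,
    IsScalarTower.algebraMap_apply R A (AdicCompletion (maximalIdeal A) A)]
  rfl

open Polynomial in
/-- `d/dX` extends to the completions of the local rings of `R[X]`. -/
theorem exists_dX_completion {R : Type u} [CommRing R] (q : Ideal R[X]) [q.IsPrime] :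
    ∃ dX : Derivation R (AdicCompletion (maximalIdeal (Localization.AtPrime q)) (Localization.AtPrime q))
        (AdicCompletion (maximalIdeal (Localization.AtPrime q)) (Localization.AtPrime q)),
      dX (algebraMap R[X] _ X) = 1 := by
  let A := Localization.AtPrime q
  let C := AdicCompletion (maximalIdeal A) A
  obtain ⟨E₀, hE₀⟩ := EGA41Lib.NagataCrit.exists_extension_localization q.primeCompl (S := A) (K := A)
    ((Algebra.linearMap R[X] A).compDer (DerKernel.polyDer (0 : Derivation ℤ R R) 1))
  obtain ⟨E, hE⟩ := exists_derivation_adicCompletion (maximalIdeal A) E₀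
  have hR : ∀ r : R, E (algebraMap R C r) = 0 := fun r => by
    rw [IsScalarTower.algebraMap_apply R A C, hE, IsScalarTower.algebraMap_apply R R[X] A, hE₀]
    show algebraMap A C (algebraMap R[X] A (DerKernel.polyDer (0 : Derivation ℤ R R) 1 (Polynomial.C r))) = 0
    rw [DerKernel.polyDer_C]
    simp
  let l : C →ₗ[R] C :=
    { toFun := E
      map_add' := E.map_add
      map_smul' := fun c x => by
        simp [Algebra.smul_def, E.leibniz, hR] }
  refine ⟨Derivation.mk' l (fun a b => E.leibniz a b), ?_⟩
  show E (algebraMap R[X] C X) = 1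
  rw [IsScalarTower.algebraMap_apply R[X] A C, hE, hE₀]
  show algebraMap A C (algebraMap R[X] A (DerKernel.polyDer (0 : Derivation ℤ R R) 1 X)) = 1
  rw [DerKernel.polyDer_X, map_one, map_one]

open Polynomial in
theorem isGRing_polynomial_of_complete (R : Type u) [CommRing R] [IsLocalRing R] [IsNoetherianRing R]
    [IsAdicComplete (maximalIdeal R) R] : CAlg.IsGRing R[X] := by
  refine isGRing_of_domain_quotients R[X] fun P₀ _ pb _ L _ _ _ _ _ κ K _ _ _ _ _ _ _ _ _ _ => ?_
  let D := R[X] ⧸ P₀
  let p₀ : Ideal R := P₀.comap Polynomial.C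
  haveI : p₀.IsPrime := Ideal.IsPrime.comap _
  let D₀ := R ⧸ p₀
  haveI : IsLocalRing D₀ := IsLocalRing.of_surjective' _ Ideal.Quotient.mk_surjective
  haveI : IsAdicComplete (maximalIdeal D₀) D₀ := by
    have hc : IsAdicComplete (maximalIdeal R) D₀ :=
      Adic.isAdicComplete_of_finite (I := maximalIdeal R) (A := R) (M := D₀)
    have hmax : (maximalIdeal R).map (algebraMap R D₀) = maximalIdeal D₀ :=
      IsLocalRing.eq_maximalIdeal (Ideal.IsMaximal.map_of_surjective_of_ker_le
        Ideal.Quotient.mk_surjective (by rw [Ideal.mk_ker]; exact le_maximalIdeal Ideal.IsPrime.ne_top'))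
    rw [← hmax, IsAdicComplete.map_algebraMap_iff]
    exact hc
  obtain ⟨Λ, _, _, n, f, hΛ, hinjf, hfinf, -, hreg, -⟩ := Nagata.Normalization.exists_normalization D₀
  let R₁ := MvPowerSeries (Fin n) Λ
  haveI : IsDomain R₁ := hinjf.isDomain f
  haveI : IsRegularLocalRing R₁ := hreg
  haveI : IsRegularRing R₁ := RegLoc.Homological.isRegularRing
  have hbase : IsBase R₁ := isBase_mvPowerSeries n hΛ
  -- `D` is finite over `T = R₁[X]`
  let c : D₀ →+* D := Ideal.quotientMap P₀ Polynomial.C le_rfl
  have hc : Function.Injective c := Ideal.quotientMap_injective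
  let x : D := Ideal.Quotient.mk P₀ X
  let T := R₁[X]
  let g : T →+* D := eval₂RingHom (c.comp f) x
  let g₁ : D₀[X] →+* D := eval₂RingHom c x
  have hgcomp : g = g₁.comp (mapRingHom f) := by
    refine Polynomial.ringHom_ext (fun r => ?_) ?_ <;> simp [g, g₁]
  have hg₁ : Function.Surjective g₁ := by
    intro d
    obtain ⟨P, rfl⟩ := Ideal.Quotient.mk_surjective d
    refine ⟨P.map (Ideal.Quotient.mk p₀), ?_⟩
    show eval₂ c x (P.map (Ideal.Quotient.mk p₀)) = _
    rw [eval₂_map, show c.comp (Ideal.Quotient.mk p₀) = (Ideal.Quotient.mk P₀).comp Polynomial.C from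
      Ideal.quotientMap_comp_mk le_rfl, ← hom_eval₂, eval₂_C_X]
  have hgfin : g.Finite := by
    rw [hgcomp]
    refine RingHom.Finite.comp (RingHom.Finite.of_surjective g₁ hg₁) ?_
    letI : Algebra R₁ D₀ := f.toAlgebra
    haveI : Module.Finite R₁ D₀ := hfinf
    letI := Polynomial.algebra R₁ D₀
    haveI : Module.Finite R₁[X] (R₁[X] ⊗[R₁] D₀) := inferInstance
    exact Module.Finite.equiv (Algebra.IsPushout.equiv R₁ R₁[X] D₀ D₀[X]).toLinearEquiv
  letI : Algebra T D := g.toAlgebra
  haveI : Module.Finite T D := hgfin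
  by_cases hinj : Function.Injective g
  · exact isRegularRing_tensor_completion_of_finite_isBase T D (isBase_polynomial hbase) hinj pb L κ K
  -- `X` is algebraic: the residue field is finite over the fractions of `R₁`
  haveI : IsNoetherianRing T := inferInstance
  letI : Algebra R₁ D := (c.comp f).toAlgebra
  haveI : IsScalarTower R₁ T D := IsScalarTower.of_algebraMap_eq fun r => by
    show c (f r) = eval₂ (c.comp f) x (Polynomial.C r)
    rw [eval₂_C]; rfl
  haveI : Algebra.FiniteType R₁ D := Algebra.FiniteType.trans (R := R₁) (S := T) (A := D) inferInstance inferInstance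
  letI : Algebra R₁ κ := ((algebraMap D κ).comp (algebraMap R₁ D)).toAlgebra
  haveI : IsScalarTower R₁ D κ := IsScalarTower.of_algebraMap_eq fun _ => rfl
  haveI : FaithfulSMul R₁ κ := (faithfulSMul_iff_algebraMap_injective R₁ κ).2
    ((IsFractionRing.injective D κ).comp (hc.comp hinjf))
  let K₀ := FractionRing R₁
  letI : Algebra K₀ κ := FractionRing.liftAlgebra R₁ κ
  haveI : IsScalarTower R₁ K₀ κ := FractionRing.isScalarTower_liftAlgebra R₁ κ
  letI : Algebra T κ := ((algebraMap D κ).comp (algebraMap T D)).toAlgebra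
  haveI : IsScalarTower T D κ := IsScalarTower.of_algebraMap_eq fun _ => rfl
  haveI : IsScalarTower R₁ T κ := IsScalarTower.of_algebraMap_eq fun r => by
    rw [IsScalarTower.algebraMap_apply T D κ, ← IsScalarTower.algebraMap_apply R₁ T D]
    rfl
  haveI : Module.Finite K₀ κ := by
    have hxint : IsIntegral K₀ (algebraMap T κ X) := by
      rw [injective_iff_map_eq_zero] at hinj
      push Not at hinj
      obtain ⟨G, hG, hG0⟩ := hinj
      refine IsAlgebraic.isIntegral ⟨G.map (algebraMap R₁ K₀), (map_ne_zero_iff (Polynomial.mapRingHom _)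
        (Polynomial.map_injective _ (IsFractionRing.injective R₁ K₀))).2 hG0, ?_⟩
      rw [aeval_map_algebraMap, aeval_algebraMap_apply, aeval_X_left_apply]
      show algebraMap D κ (g G) = 0
      rw [hG, map_zero]
    have hint : ∀ d : D, IsIntegral K₀ (algebraMap D κ d) := by
      intro d
      have h1 : IsIntegral T d := Algebra.IsIntegral.isIntegral d
      have h2 : IsIntegral T (algebraMap D κ d) := h1.algebraMap
      have hT : ∀ t : T, algebraMap T κ t ∈ integralClosure K₀ κ := by
        intro t
        induction t using Polynomial.induction_on' with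
        | add a b ha hb => rw [map_add]; exact add_mem ha hb
        | monomial m r =>
          rw [← C_mul_X_pow_eq_monomial, map_mul, map_pow]
          refine mul_mem ?_ (pow_mem hxint m)
          rw [← Polynomial.algebraMap_eq, ← IsScalarTower.algebraMap_apply,
            IsScalarTower.algebraMap_apply R₁ K₀ κ]
          exact Subalgebra.algebraMap_mem _ _
      let φ : T →+* integralClosure K₀ κ := (algebraMap T κ).codRestrict _ hT
      letI : Algebra T (integralClosure K₀ κ) := φ.toAlgebra
      haveI : IsScalarTower T (integralClosure K₀ κ) κ := IsScalarTower.of_algebraMap_eq fun _ => rfl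
      exact isIntegral_trans _ (h2.tower_top (A := integralClosure K₀ κ))
    classical
    obtain ⟨s, hs⟩ := (inferInstance : Algebra.FiniteType R₁ D).out
    let E := IntermediateField.adjoin K₀ ((algebraMap D κ) '' (s : Set D))
    haveI : FiniteDimensional K₀ E := IntermediateField.finiteDimensional_adjoin (by
      rintro _ ⟨d, -, rfl⟩
      exact hint d)
    have hD : ∀ d : D, algebraMap D κ d ∈ E := by
      intro d
      have hd : d ∈ Algebra.adjoin R₁ (s : Set D) := hs ▸ Algebra.mem_top
      induction hd using Algebra.adjoin_induction with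
      | mem d hd => exact IntermediateField.subset_adjoin _ _ ⟨d, hd, rfl⟩
      | algebraMap r =>
        rw [← IsScalarTower.algebraMap_apply, IsScalarTower.algebraMap_apply R₁ K₀ κ]
        exact IntermediateField.algebraMap_mem _ _
      | add a b _ _ ha hb => rw [map_add]; exact add_mem ha hb
      | mul a b _ _ ha hb => rw [map_mul]; exact mul_mem ha hb
    have htop : E = ⊤ := by
      rw [eq_top_iff]
      intro z _
      obtain ⟨a, b, -, rfl⟩ := IsFractionRing.div_surjective (A := D) z
      exact div_mem (hD a) (hD b)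
    have : FiniteDimensional K₀ (⊤ : IntermediateField K₀ κ) := htop ▸ inferInstance
    exact Module.Finite.equiv (IntermediateField.topEquiv (F := K₀) (E := κ)).toLinearEquiv
  letI : Algebra T K := ((algebraMap D K).comp (algebraMap T D)).toAlgebra
  haveI : IsScalarTower T D K := IsScalarTower.of_algebraMap_eq fun _ => rfl
  letI : Algebra R₁ K := ((algebraMap D K).comp (algebraMap R₁ D)).toAlgebra
  haveI : IsScalarTower R₁ T K := IsScalarTower.of_algebraMap_eq fun r => by
    rw [IsScalarTower.algebraMap_apply T D K, ← IsScalarTower.algebraMap_apply R₁ T D]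
    rfl
  letI : Algebra K₀ K := ((algebraMap κ K).comp (algebraMap K₀ κ)).toAlgebra
  haveI : IsScalarTower K₀ κ K := IsScalarTower.of_algebraMap_eq fun _ => rfl
  haveI : IsScalarTower R₁ K₀ K := IsScalarTower.of_algebraMap_eq fun r => by
    show algebraMap D K (algebraMap R₁ D r) = algebraMap κ K (algebraMap K₀ κ (algebraMap R₁ K₀ r))
    rw [← IsScalarTower.algebraMap_apply R₁ K₀ κ, IsScalarTower.algebraMap_apply R₁ D κ,
      ← IsScalarTower.algebraMap_apply D κ K]
  haveI : Module.Finite K₀ K := Module.Finite.trans κ K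
  refine isRegularRing_tensor_completion_of_finite_base (R := T) pb L K ?_
  let q : Ideal T := pb.under T
  let A := Localization.AtPrime q
  let C := AdicCompletion (R := A) (maximalIdeal A) A
  haveI : IsRegularRing T := inferInstance
  haveI : IsRegularLocalRing A := IsRegularRing.isRegularLocalRing_localization q
  haveI : IsRegularLocalRing C := (RegLoc.Completion.isRegularLocalRing_completion_iff A).1 inferInstance
  haveI : IsRegularRing C := RegLoc.Homological.isRegularRing
  haveI : IsRegularRing (K ⊗[R₁] C) := by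
    refine isRegularRing_tensor_of_base (K := K₀) ?_
    rcases hbase with h0 | ⟨p, hp, hchar, hker⟩
    · exact Or.inl h0
    refine Or.inr ⟨p, hp, hchar, hker, fun δ => ?_⟩
    obtain ⟨E, hE⟩ := exists_derivation_completion (R := R₁[X]) q (DerKernel.polyDer δ 0)
    refine ⟨E, fun r => ?_⟩
    have h := hE (Polynomial.C r)
    rw [DerKernel.polyDer_C] at h
    rw [IsScalarTower.algebraMap_apply R₁ T C, IsScalarTower.algebraMap_apply R₁ T C]
    exact h
  obtain ⟨dX, hdX⟩ := exists_dX_completion q
  exact isRegularRing_tensor_polynomial dX hdX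

open Polynomial in
theorem isGRing_of_ringEquiv {A B : Type u} [CommRing A] [CommRing B] (e : A ≃+* B) (h : CAlg.IsGRing A) :
    CAlg.IsGRing B := by
  letI : Algebra A B := e.toRingHom.toAlgebra
  haveI : Module.Finite A B := Module.Finite.of_surjective (Algebra.linearMap A B) e.surjective
  exact Hens.isGRing_of_finite h

theorem isRegularHom_completion_of_ringEquiv {L₁ L₂ : Type u} [CommRing L₁] [CommRing L₂] [IsLocalRing L₁]
    [IsLocalRing L₂] [IsNoetherianRing L₁] [IsNoetherianRing L₂] (e : L₁ ≃+* L₂)
    (h : CAlg.IsRegularHom L₁ (AdicCompletion (maximalIdeal L₁) L₁)) :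
    CAlg.IsRegularHom L₂ (AdicCompletion (maximalIdeal L₂) L₂) := by
  letI : Algebra L₁ L₂ := e.toRingHom.toAlgebra
  haveI : Module.Finite L₁ L₂ := Module.Finite.of_surjective (Algebra.linearMap L₁ L₂) e.surjective
  haveI : IsLocalization.AtPrime L₂ (maximalIdeal L₂) :=
    IsLocalization.self fun x hx => notMem_maximalIdeal.1 hx
  exact Hens.isRegularHom_completion_of_finite (R := L₁) h (maximalIdeal L₂) L₂

/-- Regular formal fibres at the primes below those of a G-ring along a regular map. -/
theorem isRegularHom_completion_of_regularHom {S T : Type u} [CommRing S] [CommRing T] [IsNoetherianRing S]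
    [IsNoetherianRing T] [Algebra S T] (hST : CAlg.IsRegularHom S T) (hT : CAlg.IsGRing T)
    (M : Ideal T) [M.IsPrime] (L : Type u) [CommRing L] [IsLocalRing L] [IsNoetherianRing L] [Algebra S L]
    [IsLocalization.AtPrime L (M.comap (algebraMap S T))] :
    CAlg.IsRegularHom L (AdicCompletion (maximalIdeal L) L) := by
  letI algQ : Algebra (Localization.AtPrime (M.comap (algebraMap S T))) (Localization.AtPrime M) :=
    (Localization.localRingHom (M.comap (algebraMap S T)) M (algebraMap S T) rfl).toAlgebra
  haveI : IsLocalHom (algebraMap (Localization.AtPrime (M.comap (algebraMap S T))) (Localization.AtPrime M)) :=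
    Localization.isLocalHom_localRingHom (M.comap (algebraMap S T)) M (algebraMap S T) rfl
  haveI : IsNoetherianRing (Localization.AtPrime M) :=
    IsLocalization.isNoetherianRing M.primeCompl _ inferInstance
  haveI : IsNoetherianRing (Localization.AtPrime (M.comap (algebraMap S T))) :=
    IsLocalization.isNoetherianRing (M.comap (algebraMap S T)).primeCompl _ inferInstance
  exact isRegularHom_completion_of_ringEquiv
    (IsLocalization.algEquiv (M.comap (algebraMap S T)).primeCompl
      (Localization.AtPrime (M.comap (algebraMap S T))) L).toRingEquiv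
    (Groth.Agent.S4704.result (Localization.AtPrime (M.comap (algebraMap S T)))
      (Localization.AtPrime M) ((Groth.Agent.S9259.result S T).1.1 hST M) (hT.2 M))

open Polynomial in
/-- The base change of `A[X]` to the completion of a local ring with regular formal fibres. -/
theorem isRegularHom_completion_polynomial {A : Type u} [CommRing A] [IsLocalRing A] [IsNoetherianRing A]
    (hA : CAlg.IsRegularHom A (AdicCompletion (maximalIdeal A) A)) (Q : Ideal A[X]) [Q.IsPrime]
    (L : Type u) [CommRing L] [IsLocalRing L] [IsNoetherianRing L] [Algebra A[X] L]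
    [IsLocalization.AtPrime L Q] :
    CAlg.IsRegularHom L (AdicCompletion (maximalIdeal L) L) := by
  haveI : IsNoetherianRing (AdicCompletion (maximalIdeal A) A) :=
    RegLoc.AdicNoeth.isNoetherianRing_adicCompletion _ (IsNoetherian.noetherian _)
  haveI : Module.FaithfullyFlat A (AdicCompletion (maximalIdeal A) A) :=
    Module.FaithfullyFlat.of_flat_of_isLocalHom
  haveI : IsAdicComplete (maximalIdeal (AdicCompletion (maximalIdeal A) A))
      (AdicCompletion (maximalIdeal A) A) := by
    rw [AdicCompletion.maximalIdeal_eq_map, IsAdicComplete.map_algebraMap_iff]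
    exact AdicCompletion.isAdicComplete (IsNoetherian.noetherian _)
  let e : (AdicCompletion (maximalIdeal A) A)[X] ≃+* A[X] ⊗[A] AdicCompletion (maximalIdeal A) A :=
    (polyEquivTensor A (AdicCompletion (maximalIdeal A) A)).toRingEquiv.trans
      (Algebra.TensorProduct.comm A (AdicCompletion (maximalIdeal A) A) A[X]).toRingEquiv
  haveI : IsNoetherianRing (A[X] ⊗[A] AdicCompletion (maximalIdeal A) A) := isNoetherianRing_of_ringEquiv _ e
  have hT := isGRing_of_ringEquiv e (isGRing_polynomial_of_complete (AdicCompletion (maximalIdeal A) A))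
  obtain ⟨⟨M, hM⟩, hMQ⟩ := PrimeSpectrum.comap_surjective_of_faithfullyFlat
    (A := A[X]) (B := A[X] ⊗[A] AdicCompletion (maximalIdeal A) A) ⟨Q, inferInstance⟩
  haveI := hM
  have hMQ' : M.comap (algebraMap A[X] (A[X] ⊗[A] AdicCompletion (maximalIdeal A) A)) = Q :=
    congrArg PrimeSpectrum.asIdeal hMQ
  haveI : IsLocalization.AtPrime L
      (M.comap (algebraMap A[X] (A[X] ⊗[A] AdicCompletion (maximalIdeal A) A))) := by
    convert ‹IsLocalization.AtPrime L Q›
  exact isRegularHom_completion_of_regularHom
    ((Groth.Agent.S4695.result A (AdicCompletion (maximalIdeal A) A) A[X] (Or.inr inferInstance)).1 hA) hT M L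

open Polynomial in
/-- Polynomial rings over G-rings are G-rings. -/
theorem isGRing_polynomial {R : Type u} [CommRing R] (hR : CAlg.IsGRing R) : CAlg.IsGRing R[X] := by
  haveI := hR.1
  refine EGA4Lib.isGRing_of_forall_isMaximal fun m _ => ?_
  let p : Ideal R := m.comap Polynomial.C
  haveI : p.IsPrime := Ideal.IsPrime.comap _
  let A := Localization.AtPrime p
  haveI : IsNoetherianRing A := IsLocalization.isNoetherianRing p.primeCompl _ inferInstance
  letI : Algebra R[X] A[X] := Polynomial.algebra R A
  haveI : IsLocalization (p.primeCompl.map Polynomial.C) A[X] := Polynomial.isLocalization p.primeCompl A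
  have hle : p.primeCompl.map Polynomial.C ≤ m.primeCompl := by
    rintro _ ⟨a, ha, rfl⟩ h
    exact ha h
  let L := Localization.AtPrime m
  haveI : IsNoetherianRing L := IsLocalization.isNoetherianRing m.primeCompl _ inferInstance
  letI : Algebra A[X] L := IsLocalization.localizationAlgebraOfSubmonoidLe A[X] L _ m.primeCompl hle
  haveI : IsScalarTower R[X] A[X] L :=
    IsLocalization.localization_isScalarTower_of_submonoid_le A[X] L _ m.primeCompl hle
  let Q : Ideal A[X] := (maximalIdeal L).comap (algebraMap A[X] L)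
  have hQm : Q.comap (algebraMap R[X] A[X]) = m := by
    rw [Ideal.comap_comap, ← IsScalarTower.algebraMap_eq]
    exact Localization.AtPrime.comap_maximalIdeal
  haveI : IsLocalization.AtPrime L Q := by
    have h2 := IsLocalization.isLocalization_of_submonoid_le A[X] L _ m.primeCompl hle
    refine IsLocalization.of_le (m.primeCompl.map (algebraMap R[X] A[X])) Q.primeCompl ?_ ?_
    · rintro _ ⟨y, hy, rfl⟩ h'
      exact hy ((SetLike.ext_iff.1 hQm y).1 h')
    · intro r hr
      exact notMem_maximalIdeal.1 hr
  exact isRegularHom_completion_polynomial (hR.2 p) Q L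

/-- Algebras of finite type over G-rings are G-rings. -/
theorem isGRing_of_finiteType {R : Type u} [CommRing R] (hR : CAlg.IsGRing R) (S : Type u) [CommRing S]
    [Algebra R S] [Algebra.FiniteType R S] : CAlg.IsGRing S := by
  obtain ⟨n, f, hf⟩ := Algebra.FiniteType.iff_quotient_mvPolynomial''.mp ‹Algebra.FiniteType R S›
  letI : Algebra (MvPolynomial (Fin n) R) S := f.toRingHom.toAlgebra
  haveI : Module.Finite (MvPolynomial (Fin n) R) S :=
    Module.Finite.of_surjective (Algebra.linearMap (MvPolynomial (Fin n) R) S) hf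
  refine Hens.isGRing_of_finite (A := MvPolynomial (Fin n) R) ?_
  clear! S
  induction n with
  | zero =>
    letI : Algebra R (MvPolynomial (Fin 0) R) := inferInstance
    haveI : Module.Finite R (MvPolynomial (Fin 0) R) :=
      Module.Finite.equiv (MvPolynomial.isEmptyAlgEquiv R (Fin 0)).symm.toLinearEquiv
    exact Hens.isGRing_of_finite hR
  | succ n ih =>
    let e : Polynomial (MvPolynomial (Fin n) R) ≃+* MvPolynomial (Fin (n + 1)) R :=
      (MvPolynomial.finSuccEquiv R n).symm.toRingEquiv
    letI : Algebra (Polynomial (MvPolynomial (Fin n) R)) (MvPolynomial (Fin (n + 1)) R) := e.toRingHom.toAlgebra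
    haveI : Module.Finite (Polynomial (MvPolynomial (Fin n) R)) (MvPolynomial (Fin (n + 1)) R) :=
      Module.Finite.of_surjective (Algebra.linearMap _ _) e.surjective
    exact Hens.isGRing_of_finite (isGRing_polynomial ih)

end Groth.Agent.EGA4Lib.Jac
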