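import Groth.Agent.EGA4Lib.GenericRegular
import Groth.Agent.EGA4Lib.RegLocus

/-!
# Criteria for J-2
-/

set_option autoImplicit false
set_option linter.style.haveILetI false

open IsLocalRing TensorProduct

namespace Groth.Agent.EGA4Lib

universe u

theorem exists_open_regLocus_iff (D : Type u) [CommRing D] [IsDomain D] :
    (∃ U : Set (PrimeSpectrum D), IsOpen U ∧ U.Nonempty ∧ U ⊆ EGA4.regLocus D) ↔
      ∃ f : D, f ≠ 0 ∧ ∀ q : PrimeSpectrum D, f ∉ q.asIdeal → q ∈ EGA4.regLocus D := by
  constructor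
  · rintro ⟨U, hU, ⟨x, hx⟩, hsub⟩
    obtain ⟨_, ⟨_, ⟨f, rfl⟩, rfl⟩, hxf, hf⟩ :=
      PrimeSpectrum.isBasis_basic_opens.exists_subset_of_mem_open hx hU
    exact ⟨f, fun h => hxf (by simp [h]), fun q hq => hsub (hf hq)⟩
  · rintro ⟨f, hf, h⟩
    exact ⟨PrimeSpectrum.basicOpen f, PrimeSpectrum.isOpen_basicOpen,
      ⟨⟨⊥, Ideal.isPrime_bot⟩, fun h0 => hf (by simpa using h0)⟩, fun q hq => h q hq⟩

theorem mem_regLocus_of_field (D : Type u) [CommRing D] [IsDomain D] (hD : IsField D)
    (q : PrimeSpectrum D) : q ∈ EGA4.regLocus D := by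
  letI := hD.toField
  have : q = ⟨⊥, Ideal.isPrime_bot⟩ := PrimeSpectrum.ext (Ideal.eq_bot_of_prime q.asIdeal)
  rw [this]
  exact bot_mem_regLocus D

theorem mem_regLocus_of_isDedekindDomain (D : Type u) [CommRing D] [IsDedekindDomain D]
    (q : PrimeSpectrum D) : q ∈ EGA4.regLocus D := by
  show IsRegularLocalRing (Localization.AtPrime q.asIdeal)
  haveI : IsRegularRing D := inferInstance
  exact IsRegularRing.isRegularLocalRing_localization q.asIdeal

/-- A domain of finite type over `R`, generically formally smooth, is generically regular as soon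
as `R` is. -/
theorem exists_forall_mem_regLocus_of_formallySmooth {R S K F : Type u} [CommRing R]
    [IsNoetherianRing R] [IsDomain R] [CommRing S] [IsDomain S] [Algebra R S]
    [Algebra.FiniteType R S] [Field K] [Field F] [Algebra R K] [IsFractionRing R K] [Algebra S F]
    [IsFractionRing S F] [Algebra K F] [Algebra R F] [IsScalarTower R K F] [IsScalarTower R S F]
    [Algebra.FormallySmooth K F] (hinj : Function.Injective (algebraMap R S))
    (h : ∃ c : R, c ≠ 0 ∧ ∀ q : PrimeSpectrum R, c ∉ q.asIdeal → q ∈ EGA4.regLocus R) :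
    ∃ f : S, f ≠ 0 ∧ ∀ q : PrimeSpectrum S, f ∉ q.asIdeal → q ∈ EGA4.regLocus S := by
  haveI : Algebra.FormallyEtale R K := Algebra.FormallyEtale.of_isLocalization (nonZeroDivisors R)
  haveI : Algebra.FormallySmooth R F := Algebra.FormallySmooth.comp R K F
  haveI : IsLocalization.AtPrime F (⊥ : Ideal S) := by
    show IsLocalization (⊥ : Ideal S).primeCompl F
    have heq : (⊥ : Ideal S).primeCompl = nonZeroDivisors S := by
      ext x; simp [Ideal.primeCompl]
    rw [heq]; infer_instance
  haveI : Algebra.IsSmoothAt R (⊥ : Ideal S) := Algebra.FormallySmooth.of_equiv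
    ((IsLocalization.algEquiv (⊥ : Ideal S).primeCompl F
      (Localization.AtPrime (⊥ : Ideal S))).restrictScalars R)
  haveI : Algebra.FinitePresentation R S := Algebra.FinitePresentation.of_finiteType.1 inferInstance
  obtain ⟨g, hg, hsm⟩ := Algebra.IsSmoothAt.exists_notMem_smooth R (⊥ : Ideal S)
  obtain ⟨c, hc0, hc⟩ := h
  refine ⟨g * algebraMap R S c, mul_ne_zero (fun h => hg (by simp [h]))
    ((map_ne_zero_iff _ hinj).2 hc0), fun q hq => ?_⟩
  have hgq : g ∉ q.asIdeal := fun h => hq (Ideal.mul_mem_right _ _ h)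
  have hcq : algebraMap R S c ∉ q.asIdeal := fun h => hq (Ideal.mul_mem_left _ _ h)
  obtain ⟨Q, hQ⟩ := exists_mem_away_of_notMem q hgq
  rw [← hQ, ← mem_regLocus_away]
  refine mem_regLocus_of_smooth (R := R) Q (hc _ ?_)
  rw [IsScalarTower.algebraMap_eq R S (Localization.Away g), PrimeSpectrum.comap_comp_apply, hQ]
  exact hcq

/-- Nagata's criterion: `A` is J-2 iff all finite domains over `A` are generically regular. -/
theorem isJ2_iff (A : Type u) [CommRing A] [IsNoetherianRing A] :
    EGA4.IsJ2 A ↔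
      ∀ (A' : Type u) [CommRing A'] [IsDomain A'] [Algebra A A'], Module.Finite A A' →
        ∃ U : Set (PrimeSpectrum A'), IsOpen U ∧ U.Nonempty ∧ U ⊆ EGA4.regLocus A' := by
  refine ⟨fun h A' _ _ _ hfin =>
    ⟨_, h A' inferInstance, ⟨_, bot_mem_regLocus A'⟩, subset_rfl⟩, fun h S _ _ hS => ?_⟩
  haveI := hS
  haveI : IsNoetherianRing S := Algebra.FiniteType.isNoetherianRing A S
  refine isOpen_regLocus_of_quotients fun p _ => ?_
  rw [exists_open_regLocus_iff]
  haveI : p.asIdeal.IsPrime := p.isPrime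
  let D := S ⧸ p.asIdeal
  let p0 : Ideal A := RingHom.ker (algebraMap A D)
  haveI : p0.IsPrime := RingHom.ker_isPrime _
  letI : Algebra (A ⧸ p0) D := (RingHom.kerLift (algebraMap A D)).toAlgebra
  haveI : IsScalarTower A (A ⧸ p0) D := IsScalarTower.of_algebraMap_eq fun _ => rfl
  haveI : Algebra.FiniteType A D := inferInstance
  haveI : Algebra.FiniteType (A ⧸ p0) D := Algebra.FiniteType.of_restrictScalars_finiteType A _ _
  refine exists_forall_mem_regLocus_of_finiteType (R := A ⧸ p0) (S := D)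
    (RingHom.kerLift_injective _) ?_
  intro R' _ _ _ hfin hinj
  letI : Algebra A R' := ((algebraMap (A ⧸ p0) R').comp (Ideal.Quotient.mk p0)).toAlgebra
  haveI : IsScalarTower A (A ⧸ p0) R' := IsScalarTower.of_algebraMap_eq fun _ => rfl
  exact (exists_open_regLocus_iff R').1 (h R' (Module.Finite.trans (A ⧸ p0) R'))

theorem isJ2_of_field (k : Type u) [Field k] : EGA4.IsJ2 k := by
  rw [isJ2_iff]
  intro A' _ _ _ hfin
  have hD : IsField A' := isField_of_isIntegral_of_isField' (R := k) (Field.toIsField k)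
  rw [exists_open_regLocus_iff]
  exact ⟨1, one_ne_zero, fun q _ => mem_regLocus_of_field A' hD q⟩

end Groth.Agent.EGA4Lib
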