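import Groth.Agent.EGA4Lib.FibreComp
import Groth.Agent.RegLoc.Completion
import Mathlib.RingTheory.AdicCompletion.LocalRing
import Mathlib.RingTheory.AdicCompletion.Noetherian
import Mathlib.RingTheory.Localization.BaseChange
import Mathlib.RingTheory.LocalProperties.Reduced

/-!
# Fibres of the adic completion and formal fibres of the local rings (EGA IV 7.4.5, 7.4.6)
-/

set_option autoImplicit false
set_option linter.style.haveILetI false

universe u

open TensorProduct IsLocalRing

namespace Groth.Agent.EGA4Lib

section complete_iso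

variable {R S : Type u} [CommRing R] [CommRing S] [Algebra R S] (m : Ideal R) (n : Ideal S)

/-- An algebra with the same quotients by powers of `m` has the same completion. -/
theorem nonempty_adicCompletion_congr (h1 : ∀ (k : ℕ) (x : S), ∃ a : R, x - algebraMap R S a ∈ n ^ k)
    (h2 : ∀ (k : ℕ) (a : R), algebraMap R S a ∈ n ^ k ↔ a ∈ m ^ k) :
    Nonempty (AdicCompletion n S ≃ₐ[R] AdicCompletion m R) := by
  let q : ∀ k, R ⧸ m ^ k →ₐ[R] S ⧸ n ^ k := fun k =>
    Ideal.quotientMapₐ (n ^ k) (Algebra.ofId R S) fun a ha => (h2 k a).2 ha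
  have hq : ∀ k, Function.Bijective (q k) := fun k => by
    refine ⟨(injective_iff_map_eq_zero _).2 fun x hx => ?_, fun y => ?_⟩
    · obtain ⟨x, rfl⟩ := Ideal.Quotient.mk_surjective x
      exact Ideal.Quotient.eq_zero_iff_mem.2 ((h2 k x).1 (Ideal.Quotient.eq_zero_iff_mem.1 hx))
    · obtain ⟨y, rfl⟩ := Ideal.Quotient.mk_surjective y
      obtain ⟨a, ha⟩ := h1 k y
      exact ⟨Ideal.Quotient.mk _ a, (Ideal.Quotient.eq.2 ha).symm⟩
  let φ : AdicCompletion m R →ₐ[R] AdicCompletion n S :=
    AdicCompletion.liftAlgHom n (fun k => (q k).comp (AdicCompletion.evalₐ m k)) (by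
      intro i j hle
      ext x
      induction x using AdicCompletion.induction_on with
      | _ a =>
        simp only [AlgHom.comp_apply, AdicCompletion.evalₐ_mk]
        show Ideal.Quotient.mk (n ^ i) (algebraMap R S (a j)) = Ideal.Quotient.mk (n ^ i) (algebraMap R S (a i))
        refine Ideal.Quotient.eq.2 ?_
        rw [← map_sub, h2]
        have := SModEq.sub_mem.1 (a.2 hle).symm
        simpa using this)
  have key : ∀ x k, AdicCompletion.evalₐ n k (φ x) = q k (AdicCompletion.evalₐ m k x) := fun x k => by
    simp [φ]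
  refine ⟨(AlgEquiv.ofBijective φ ⟨fun x y hxy => ?_, fun y => ?_⟩).symm⟩
  · refine AdicCompletion.ext_evalₐ fun k => (hq k).1 ?_
    rw [← key, ← key, hxy]
  · choose a ha using fun k => h1 k ((Ideal.Quotient.mk_surjective (AdicCompletion.evalₐ n k y)).choose)
    have hy : ∀ k, AdicCompletion.evalₐ n k y = Ideal.Quotient.mk (n ^ k) (algebraMap R S (a k)) := fun k => by
      rw [← (Ideal.Quotient.mk_surjective (AdicCompletion.evalₐ n k y)).choose_spec]
      exact Ideal.Quotient.eq.2 (ha k)
    have hc : ∀ {i j : ℕ}, i ≤ j → a i ≡ a j [SMOD (m ^ i • ⊤ : Ideal R)] := by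
      intro i j hle
      rw [SModEq.sub_mem, smul_eq_mul, Ideal.mul_top, ← h2, map_sub]
      refine Ideal.Quotient.eq.1 ?_
      rw [← hy i]
      have : Ideal.Quotient.factorPow n hle (AdicCompletion.evalₐ n j y) = AdicCompletion.evalₐ n i y := by
        induction y using AdicCompletion.induction_on with
        | _ c =>
          simp only [AdicCompletion.evalₐ_mk]
          exact AdicCompletion.Ideal.mk_eq_mk n hle c
      rw [← this, hy j]
      rfl
    let cs : AdicCompletion.AdicCauchySequence m R := ⟨a, fun {_ _} hle => hc hle⟩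
    refine ⟨AdicCompletion.mk m R cs, AdicCompletion.ext_evalₐ (I := n) fun k => ?_⟩
    rw [key, AdicCompletion.evalₐ_mk, hy]
    rfl

end complete_iso

variable {A : Type u} [CommRing A] [IsNoetherianRing A] (I : Ideal A)

theorem completion_exists_sub_mem_pow (k : ℕ) (x : AdicCompletion I A) :
    ∃ a : A, x - algebraMap A (AdicCompletion I A) a ∈ (I ^ k).map (algebraMap A (AdicCompletion I A)) := by
  induction x using AdicCompletion.induction_on with
  | _ c =>
  refine ⟨c k, ?_⟩
  have h0 : AdicCompletion.eval I A k
      (AdicCompletion.mk I A c - algebraMap A (AdicCompletion I A) (c k)) = 0 := by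
    rw [map_sub, sub_eq_zero, AdicCompletion.algebraMap_apply]
    simp only [AdicCompletion.eval_of, AdicCompletion.eval_apply, AdicCompletion.mk_apply_coe]
    rfl
  have := (AdicCompletion.pow_smul_top_eq_ker_eval (I := I) (M := A) (n := k) (IsNoetherian.noetherian I)).ge
    (LinearMap.mem_ker.2 h0)
  rwa [Ideal.smul_top_eq_map, Submodule.restrictScalars_mem] at this

/-- Maximal ideals of the completion. -/
theorem completion_maximal (n : Ideal (AdicCompletion I A)) [hn : n.IsMaximal] :
    (n.comap (algebraMap A (AdicCompletion I A))).IsMaximal ∧ I ≤ n.comap (algebraMap A (AdicCompletion I A)) ∧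
      n = (n.comap (algebraMap A (AdicCompletion I A))).map (algebraMap A (AdicCompletion I A)) := by
  haveI := AdicCompletion.isAdicComplete_self I (IsNoetherian.noetherian I)
  have hIn : I.map (algebraMap A (AdicCompletion I A)) ≤ n :=
    (IsAdicComplete.le_jacobson_bot _).trans (sInf_le ⟨bot_le, hn⟩)
  have hsurj : Function.Surjective ((Ideal.Quotient.mk n).comp (algebraMap A (AdicCompletion I A))) := by
    intro z
    obtain ⟨x, rfl⟩ := Ideal.Quotient.mk_surjective z
    obtain ⟨a, ha⟩ := completion_exists_sub_mem_pow I 1 x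
    refine ⟨a, (Ideal.Quotient.eq.2 ?_).symm⟩
    rw [pow_one] at ha
    exact hIn ha
  haveI hm : (n.comap (algebraMap A (AdicCompletion I A))).IsMaximal := by
    have : n.comap (algebraMap A (AdicCompletion I A)) =
        (⊥ : Ideal (AdicCompletion I A ⧸ n)).comap ((Ideal.Quotient.mk n).comp (algebraMap A (AdicCompletion I A))) := by
      rw [← Ideal.comap_comap, ← RingHom.ker_eq_comap_bot, Ideal.mk_ker]
    rw [this]
    letI := Ideal.Quotient.field n
    exact Ideal.comap_isMaximal_of_surjective _ hsurj
  refine ⟨hm, Ideal.map_le_iff_le_comap.1 hIn, ?_⟩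
  exact ((AdicCompletion.isMaximal_map_of_le I _ (Ideal.map_le_iff_le_comap.1 hIn)
    (IsNoetherian.noetherian I)).eq_of_le hn.ne_top (Ideal.map_le_iff_le_comap.2 le_rfl)).symm

theorem algebraMap_mem_pow_iff (m : Ideal A) (hIm : I ≤ m) (k : ℕ) (a : A) :
    algebraMap A (AdicCompletion I A) a ∈ (m.map (algebraMap A (AdicCompletion I A))) ^ k ↔ a ∈ m ^ k := by
  refine ⟨fun h => ?_, fun h => by rw [← Ideal.map_pow]; exact Ideal.mem_map_of_mem _ h⟩
  rw [← Ideal.map_pow] at h
  have := Ideal.mem_map_of_mem (AdicCompletion.evalₐ I k).toRingHom h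
  rw [Ideal.map_map, AlgHom.toRingHom_eq_coe, AlgHom.comp_algebraMap, RingHom.coe_coe, AlgHom.commutes,
    Ideal.Quotient.algebraMap_eq, Ideal.mem_map_iff_of_surjective _ Ideal.Quotient.mk_surjective] at this
  obtain ⟨b, hb, hba⟩ := this
  have := Ideal.pow_right_mono hIm k (Ideal.Quotient.eq.1 hba)
  simpa using (m ^ k).sub_mem hb this

theorem mem_pow_of_smul_mem {R : Type u} [CommRing R] (m : Ideal R) [m.IsMaximal] {k : ℕ} {s y : R}
    (hs : s ∉ m) (h : s * y ∈ m ^ k) : y ∈ m ^ k := by
  have h1 : Ideal.span {s} ⊔ m = ⊤ := by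
    refine Ideal.eq_top_iff_one _ |>.2 ?_
    have := (Ideal.IsMaximal.out (I := m)).2 (Ideal.span {s} ⊔ m) (lt_of_le_of_ne le_sup_right fun e =>
      hs (e ▸ Submodule.mem_sup_left (Ideal.mem_span_singleton_self s)))
    rw [this]; trivial
  have h2 : Ideal.span {s} ⊔ m ^ k = ⊤ := Ideal.sup_pow_eq_top h1
  obtain ⟨a, ha, b, hb, hab⟩ := Submodule.mem_sup.1 ((Ideal.eq_top_iff_one _).1 h2)
  obtain ⟨c, rfl⟩ := Ideal.mem_span_singleton'.1 ha
  rw [show y = c * (s * y) + b * y by rw [← mul_assoc, ← add_mul, hab, one_mul]]
  exact (m ^ k).add_mem (Ideal.mul_mem_left _ _ h) (Ideal.mul_mem_right _ _ hb)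

/-- The completion of the localisation of `Â` at a maximal ideal is that of the localisation of `A`. -/
theorem nonempty_completion_localization (n : Ideal (AdicCompletion I A)) [n.IsMaximal]
    [Algebra (Localization.AtPrime (n.comap (algebraMap A (AdicCompletion I A)))) (Localization.AtPrime n)]
    [IsScalarTower A (Localization.AtPrime (n.comap (algebraMap A (AdicCompletion I A)))) (Localization.AtPrime n)] :
    Nonempty (EGA4.Cpl (Localization.AtPrime n) ≃ₐ[Localization.AtPrime (n.comap (algebraMap A (AdicCompletion I A)))]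
      EGA4.Cpl (Localization.AtPrime (n.comap (algebraMap A (AdicCompletion I A))))) := by
  let Ah := AdicCompletion I A
  let L := Localization.AtPrime n
  obtain ⟨hm, hIm, hnm⟩ := completion_maximal I n
  set m := n.comap (algebraMap A Ah) with hmdef
  haveI := hm
  let Lm := Localization.AtPrime m
  have hML : maximalIdeal L = n.map (algebraMap Ah L) := (Localization.AtPrime.map_eq_maximalIdeal).symm
  have hMm : maximalIdeal Lm = m.map (algebraMap A Lm) := (Localization.AtPrime.map_eq_maximalIdeal).symm
  have hpow : ∀ k, (maximalIdeal Lm ^ k).map (algebraMap Lm L) = maximalIdeal L ^ k := fun k => by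
    rw [hMm, hML, Ideal.map_pow, Ideal.map_map, ← IsScalarTower.algebraMap_eq,
      IsScalarTower.algebraMap_eq A Ah L, ← Ideal.map_map, ← hnm]
  have hA : ∀ k (a : A), algebraMap A L a ∈ maximalIdeal L ^ k → a ∈ m ^ k := fun k a h => by
    rw [hML, ← Ideal.map_pow, IsScalarTower.algebraMap_apply A Ah L,
      IsLocalization.algebraMap_mem_map_algebraMap_iff n.primeCompl] at h
    obtain ⟨s, hs, hsa⟩ := h
    have := mem_pow_of_smul_mem n hs hsa
    rw [hnm] at this
    exact (algebraMap_mem_pow_iff I m hIm k a).1 this
  refine nonempty_adicCompletion_congr (maximalIdeal Lm) (maximalIdeal L) (fun k x => ?_) fun k a => ⟨fun h => ?_, fun h => ?_⟩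
  · obtain ⟨⟨u, s⟩, hx⟩ := IsLocalization.surj n.primeCompl x
    obtain ⟨a, ha⟩ := completion_exists_sub_mem_pow I k u
    obtain ⟨b, hb⟩ := completion_exists_sub_mem_pow I (k + 1) (s : Ah)
    have hle : ∀ j, k ≤ j → (I ^ j).map (algebraMap A Ah) ≤ n ^ k := fun j hj => by
      rw [hnm, ← Ideal.map_pow]
      exact Ideal.map_mono ((Ideal.pow_right_mono hIm j).trans (Ideal.pow_le_pow_right hj))
    have hbm : b ∉ m := fun hbm => s.2 (by
      have h1 : (s : Ah) - algebraMap A Ah b ∈ n := by
        exact hnm.ge (Ideal.map_mono ((Ideal.pow_le_self (Nat.succ_ne_zero k)).trans hIm) hb)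
      have := n.add_mem h1 (show algebraMap A Ah b ∈ n from hbm)
      simpa using this)
    refine ⟨IsLocalization.mk' Lm a (⟨b, hbm⟩ : m.primeCompl), ?_⟩
    have hu : IsUnit (algebraMap Ah L s) := IsLocalization.map_units L s
    rw [← Ideal.mul_unit_mem_iff_mem (maximalIdeal L ^ k)
      (hu.mul (show IsUnit (algebraMap A L b) by
        rw [IsScalarTower.algebraMap_apply A Lm L]
        exact (IsLocalization.map_units Lm (⟨b, hbm⟩ : m.primeCompl)).map _))]
    have hspec : algebraMap Lm L (IsLocalization.mk' Lm a (⟨b, hbm⟩ : m.primeCompl)) * algebraMap A L b = algebraMap A L a := by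
      rw [IsScalarTower.algebraMap_apply A Lm L b, ← map_mul]
      show algebraMap Lm L (IsLocalization.mk' Lm a (⟨b, hbm⟩ : m.primeCompl) * algebraMap A Lm ((⟨b, hbm⟩ : m.primeCompl) : A)) = _
      rw [IsLocalization.mk'_spec, ← IsScalarTower.algebraMap_apply]
    have : (x - algebraMap Lm L (IsLocalization.mk' Lm a (⟨b, hbm⟩ : m.primeCompl))) * (algebraMap Ah L s * algebraMap A L b) =
        algebraMap Ah L ((u - algebraMap A Ah a) * algebraMap A Ah b -
          algebraMap A Ah a * ((s : Ah) - algebraMap A Ah b)) := by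
      simp only [map_sub, map_mul, ← IsScalarTower.algebraMap_apply]
      linear_combination (algebraMap A L b) * hx - (algebraMap Ah L s) * hspec
    rw [this, hML, ← Ideal.map_pow]
    exact Ideal.mem_map_of_mem _ ((n ^ k).sub_mem (Ideal.mul_mem_right _ _ (hle k le_rfl ha))
      (Ideal.mul_mem_left _ _ (hle (k + 1) (Nat.le_succ k) hb)))
  · obtain ⟨⟨c, d⟩, hc⟩ := IsLocalization.surj m.primeCompl a
    have h' : algebraMap A L c ∈ maximalIdeal L ^ k := by
      rw [IsScalarTower.algebraMap_apply A Lm L, ← hc, map_mul]
      exact Ideal.mul_mem_right _ _ h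
    have := Ideal.mem_map_of_mem (algebraMap A Lm) (hA k c h')
    rw [← hc, Ideal.map_pow, ← hMm] at this
    exact (Ideal.mul_unit_mem_iff_mem _ (IsLocalization.map_units Lm d)).1 this
  · rw [← hpow]; exact Ideal.mem_map_of_mem _ h

/-- A field tensor over a localisation is the same as over the ring. -/
theorem nonempty_tensor_localization {A' B : Type u} [CommRing A'] [Algebra A A'] [CommRing B] [Algebra A' B]
    [Algebra A B] [IsScalarTower A A' B] (M : Submonoid A) [IsLocalization M A'] (K : Type u) [Field K]
    [Algebra A' K] [Algebra A K] [IsScalarTower A A' K] : Nonempty (K ⊗[A'] B ≃+* K ⊗[A] B) :=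
  ⟨(IsLocalization.algebraTensorEquiv M A' K B).toRingEquiv⟩

/-- Each point of `K ⊗_A Â` is seen in `K ⊗_A Â_n` for some maximal `n`. -/
theorem exists_maximal_tensor (K : Type u) [CommRing K] [Algebra A K]
    (Q : Ideal (K ⊗[A] AdicCompletion I A)) [Q.IsPrime] :
    ∃ (n : Ideal (AdicCompletion I A)) (_ : n.IsMaximal)
      (Q' : Ideal (K ⊗[A] Localization.AtPrime n)) (_ : Q'.IsPrime),
      Nonempty (Localization.AtPrime Q ≃+* Localization.AtPrime Q') := by
  let Ah := AdicCompletion I A
  obtain ⟨n, hn, hle⟩ := Ideal.exists_le_maximal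
    (Q.comap (Algebra.TensorProduct.includeRight : Ah →ₐ[A] K ⊗[A] Ah))
    (Ideal.IsPrime.ne_top (Ideal.comap_isPrime _ _))
  refine ⟨n, hn, ?_⟩
  letI : Algebra (K ⊗[A] Ah) (K ⊗[A] Localization.AtPrime n) :=
    (Algebra.TensorProduct.map (AlgHom.id A K) (IsScalarTower.toAlgHom A Ah (Localization.AtPrime n))).toRingHom.toAlgebra
  haveI : IsScalarTower K (K ⊗[A] Ah) (K ⊗[A] Localization.AtPrime n) :=
    IsScalarTower.of_algebraMap_eq (R := K) (S := K ⊗[A] Ah) (A := K ⊗[A] Localization.AtPrime n)
      fun x => by simp [RingHom.algebraMap_toAlgebra]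
  haveI := IsLocalization.tensorProduct_tensorProduct_right A K n.primeCompl (Localization.AtPrime n) (by
    ext a
    simp [RingHom.algebraMap_toAlgebra])
  let M := n.primeCompl.map (Algebra.TensorProduct.includeRight : Ah →ₐ[A] K ⊗[A] Ah)
  have hdisj : Disjoint (M : Set (K ⊗[A] Ah)) (Q : Set (K ⊗[A] Ah)) := by
    rw [Set.disjoint_left]
    rintro _ ⟨s, hs, rfl⟩ hsQ
    exact hs (hle hsQ)
  let Q' := Q.map (algebraMap (K ⊗[A] Ah) (K ⊗[A] Localization.AtPrime n))
  haveI hQ' : Q'.IsPrime := IsLocalization.isPrime_of_isPrime_disjoint M _ Q inferInstance hdisj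
  refine ⟨Q', hQ', ?_⟩
  have hcomap : Q'.comap (algebraMap (K ⊗[A] Ah) (K ⊗[A] Localization.AtPrime n)) = Q :=
    IsLocalization.comap_map_of_isPrime_disjoint M _ inferInstance hdisj
  have hloc := IsLocalization.isLocalization_isLocalization_atPrime_isLocalization (M := M)
    (Localization.AtPrime Q') Q'
  haveI : IsLocalization Q.primeCompl (Localization.AtPrime Q') := by
    convert hloc using 1
    ext x
    exact not_congr (by rw [hcomap])
  exact ⟨(IsLocalization.algEquiv Q.primeCompl (Localization.AtPrime Q) (Localization.AtPrime Q')).toRingEquiv⟩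

section main

variable (p : Ideal A) [p.IsPrime] (n : Ideal (AdicCompletion I A)) [n.IsMaximal]

/-- `p ⊆ n ∩ A` when some point over `p` lies below `n`. -/
theorem le_comap_of_mem (K : Type u) [CommRing K] [Nontrivial K] [Algebra A K]
    (hK : ∀ a ∉ p, IsUnit (algebraMap A K a)) (Q' : Ideal (K ⊗[A] Localization.AtPrime n)) [Q'.IsPrime] :
    ∀ a ∉ n.comap (algebraMap A (AdicCompletion I A)), IsUnit (algebraMap A (K ⊗[A] Localization.AtPrime n) a) := by
  intro a ha
  rw [← (Algebra.TensorProduct.includeRight : _ →ₐ[A] K ⊗[A] Localization.AtPrime n).commutes,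
    IsScalarTower.algebraMap_apply A (AdicCompletion I A) (Localization.AtPrime n)]
  exact (IsLocalization.map_units (Localization.AtPrime n) (⟨algebraMap A _ a, ha⟩ : n.primeCompl)).map _

/-- Set-up: the field `K ⊇ k(p)` as an algebra over the localisation at `n ∩ A`. -/
theorem tensor_localization_property (P : ∀ (R : Type u) [CommRing R], Prop)
    (hP : ∀ (R R' : Type u) [CommRing R] [CommRing R'], (R ≃+* R') → P R → P R')
    (K : Type u) [Field K] [Algebra p.ResidueField K] [Algebra A K] [IsScalarTower A p.ResidueField K]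
    (hle : p ≤ n.comap (algebraMap A (AdicCompletion I A)))
    (key : letI : Algebra (Localization.AtPrime (n.comap (algebraMap A (AdicCompletion I A)))) (Localization.AtPrime n) :=
        (Localization.localRingHom _ n (algebraMap A (AdicCompletion I A)) rfl).toAlgebra
      ∀ (p' : Ideal (Localization.AtPrime (n.comap (algebraMap A (AdicCompletion I A))))) [p'.IsPrime]
        (K' : Type u) [Field K'] [Algebra p'.ResidueField K'],
        (p'.comap (algebraMap A _) = p) →
        (Algebra.IsAlgebraic p.ResidueField K → Algebra.IsAlgebraic p'.ResidueField K') →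
        (Module.Finite p.ResidueField K → Module.Finite p'.ResidueField K') →
        P (K' ⊗[p'.ResidueField] p'.Fiber (Localization.AtPrime n))) :
    P (K ⊗[A] Localization.AtPrime n) := by
  letI algL : Algebra (Localization.AtPrime (n.comap (algebraMap A (AdicCompletion I A)))) (Localization.AtPrime n) :=
    (Localization.localRingHom _ n (algebraMap A (AdicCompletion I A)) rfl).toAlgebra
  let m := n.comap (algebraMap A (AdicCompletion I A))
  let Lm := Localization.AtPrime m
  haveI : IsScalarTower A Lm (Localization.AtPrime n) := IsScalarTower.of_algebraMap_eq fun x => by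
    rw [RingHom.algebraMap_toAlgebra, Localization.localRingHom_to_map, ← IsScalarTower.algebraMap_apply]
  have hdisj : Disjoint (m.primeCompl : Set A) (p : Set A) :=
    Set.disjoint_left.2 fun a ha hap => ha (hle hap)
  let p' := p.map (algebraMap A Lm)
  haveI : p'.IsPrime := IsLocalization.isPrime_of_isPrime_disjoint m.primeCompl _ p inferInstance hdisj
  have hp' : p'.comap (algebraMap A Lm) = p :=
    IsLocalization.comap_map_of_isPrime_disjoint m.primeCompl _ inferInstance hdisj
  let g : p.ResidueField →+* p'.ResidueField := Ideal.ResidueField.map p p' (algebraMap A Lm) hp'.symm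
  have hg : Function.Bijective g := by
    refine ⟨g.injective, fun z => ?_⟩
    have key : ∀ x : Lm, ∃ y, g y = algebraMap Lm p'.ResidueField x := fun x => by
      obtain ⟨⟨a, s⟩, hx⟩ := IsLocalization.surj m.primeCompl x
      refine ⟨algebraMap A _ a / algebraMap A _ (s : A), ?_⟩
      rw [map_div₀]
      show Ideal.ResidueField.map p p' (algebraMap A Lm) hp'.symm _ /
        Ideal.ResidueField.map p p' (algebraMap A Lm) hp'.symm _ = _
      rw [Ideal.ResidueField.map_algebraMap, Ideal.ResidueField.map_algebraMap, ← hx, map_mul,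
        mul_div_assoc, div_self ((IsLocalization.map_units Lm s).map _).ne_zero, mul_one]
    obtain ⟨x, y, -, rfl⟩ := IsFractionRing.div_surjective (Lm ⧸ p') z
    obtain ⟨x, rfl⟩ := Ideal.Quotient.mk_surjective x
    obtain ⟨y, rfl⟩ := Ideal.Quotient.mk_surjective y
    obtain ⟨a, ha⟩ := key x
    obtain ⟨b, hb⟩ := key y
    exact ⟨a / b, by rw [map_div₀, ha, hb]; rfl⟩
  let e := RingEquiv.ofBijective g hg
  letI : Algebra p'.ResidueField K := ((algebraMap p.ResidueField K).comp e.symm.toRingHom).toAlgebra
  letI : Algebra p.ResidueField p'.ResidueField := g.toAlgebra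
  haveI : IsScalarTower p.ResidueField p'.ResidueField K := IsScalarTower.of_algebraMap_eq fun x => by
    show _ = algebraMap p.ResidueField K (e.symm (e x))
    rw [e.symm_apply_apply]
  letI : Algebra Lm K := ((algebraMap p'.ResidueField K).comp (algebraMap Lm p'.ResidueField)).toAlgebra
  haveI : IsScalarTower Lm p'.ResidueField K := IsScalarTower.of_algebraMap_eq fun _ => rfl
  haveI : IsScalarTower A Lm K := IsScalarTower.of_algebraMap_eq fun x => by
    show _ = algebraMap p'.ResidueField K (algebraMap Lm p'.ResidueField (algebraMap A Lm x))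
    rw [← Ideal.ResidueField.map_algebraMap p p' (algebraMap A Lm) hp'.symm x]
    show _ = algebraMap p.ResidueField K (e.symm (e (algebraMap A p.ResidueField x)))
    rw [e.symm_apply_apply, ← IsScalarTower.algebraMap_apply]
  have h := key p' K hp' (fun hK => haveI := hK; Algebra.IsAlgebraic.tower_top p'.ResidueField (K := p.ResidueField) (A := K))
    (fun hK => haveI := hK; Module.Finite.of_restrictScalars_finite p.ResidueField p'.ResidueField K)
  obtain ⟨f⟩ := nonempty_tensor_localization (A := A) (A' := Lm) (B := Localization.AtPrime n) m.primeCompl K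
  exact hP _ _ ((Algebra.TensorProduct.cancelBaseChange Lm p'.ResidueField K K (Localization.AtPrime n)).toRingEquiv.trans f) h

end main

theorem isGeomNormal_fiber_adicCompletion
    (hA : ∀ (m : Ideal A) [m.IsPrime], EGA4.HasGeomNormalFormalFibres (Localization.AtPrime m))
    (p : Ideal A) [p.IsPrime] : EGA4.IsGeomNormal p.ResidueField (p.Fiber (AdicCompletion I A)) := by
  intro K _ _ hfin
  letI : Algebra A K := ((algebraMap p.ResidueField K).comp (algebraMap A p.ResidueField)).toAlgebra
  haveI : IsScalarTower A p.ResidueField K := IsScalarTower.of_algebraMap_eq fun _ => rfl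
  refine isNormalRing_of_ringEquiv
    (Algebra.TensorProduct.cancelBaseChange A p.ResidueField K K (AdicCompletion I A)).symm.toRingEquiv ?_
  intro Q _
  obtain ⟨n, hn, Q', hQ', ⟨e⟩⟩ := exists_maximal_tensor I K Q
  have hle : p ≤ n.comap (algebraMap A (AdicCompletion I A)) := fun a ha => by
    by_contra h
    have := le_comap_of_mem I p n K (fun b hb => by
      rw [IsScalarTower.algebraMap_apply A p.ResidueField K]
      exact (Ne.isUnit fun h0 => hb (Ideal.algebraMap_residueField_eq_zero.1 h0)).map _) Q' a h
    rw [IsScalarTower.algebraMap_apply A K (K ⊗[A] Localization.AtPrime n),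
      IsScalarTower.algebraMap_apply A p.ResidueField K,
      Ideal.algebraMap_residueField_eq_zero.2 ha, map_zero, map_zero] at this
    exact hQ'.ne_top (Ideal.eq_top_of_isUnit_mem _ Q'.zero_mem this)
  have hnorm := tensor_localization_property I p n (fun R _ => EGA4.IsNormalRing R)
    (fun R R' _ _ e h => isNormalRing_of_ringEquiv e h) K hle fun p' _ K' _ _ hp' _ hf => by
      letI : Algebra (Localization.AtPrime (n.comap (algebraMap A (AdicCompletion I A)))) (Localization.AtPrime n) :=
        (Localization.localRingHom _ n (algebraMap A (AdicCompletion I A)) rfl).toAlgebra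
      haveI : IsScalarTower A (Localization.AtPrime (n.comap (algebraMap A (AdicCompletion I A))))
          (Localization.AtPrime n) := IsScalarTower.of_algebraMap_eq fun x => by
        rw [RingHom.algebraMap_toAlgebra, Localization.localRingHom_to_map, ← IsScalarTower.algebraMap_apply]
      obtain ⟨c⟩ := nonempty_completion_localization I n
      haveI : IsNoetherianRing (AdicCompletion I A) := RegLoc.Completion.isNoetherianRing_adicCompletion' I
      haveI : Module.FaithfullyFlat (Localization.AtPrime n) (EGA4.Cpl (Localization.AtPrime n)) :=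
        Module.FaithfullyFlat.of_flat_of_isLocalHom
      exact isGeomNormal_fiber_of_comp _ (Localization.AtPrime n) (EGA4.Cpl (Localization.AtPrime n)) p'
        (isGeomNormal_congr p'.ResidueField _ (Algebra.TensorProduct.congr (AlgEquiv.refl (R := p'.ResidueField)) c).symm
          (hA _ p')) K' (hf hfin)
  haveI := (hnorm Q').1
  haveI := (hnorm Q').2
  exact ⟨e.toMulEquiv.isDomain _, IsIntegrallyClosed.of_equiv (R := Localization.AtPrime Q') (S := Localization.AtPrime Q) e.symm⟩

theorem isGeometricallyReduced_fiber_adicCompletion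
    (hA : ∀ (m : Ideal A) [m.IsPrime], EGA4.HasGeomReducedFormalFibres (Localization.AtPrime m))
    (p : Ideal A) [p.IsPrime] :
    Algebra.IsGeometricallyReduced p.ResidueField (p.Fiber (AdicCompletion I A)) := by
  rw [Algebra.isGeometricallyReduced_field_iff]
  let K := AlgebraicClosure p.ResidueField
  suffices IsReduced (K ⊗[A] AdicCompletion I A) from isReduced_of_injective
    (Algebra.TensorProduct.cancelBaseChange A p.ResidueField p.ResidueField K (AdicCompletion I A))
    (AlgEquiv.injective _)
  refine isReduced_ofLocalizationMaximal _ fun Q _ => ?_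
  obtain ⟨n, hn, Q', hQ', ⟨e⟩⟩ := exists_maximal_tensor I K Q
  have hle : p ≤ n.comap (algebraMap A (AdicCompletion I A)) := fun a ha => by
    by_contra h
    have := le_comap_of_mem I p n K (fun b hb => by
      rw [IsScalarTower.algebraMap_apply A p.ResidueField K]
      exact (Ne.isUnit fun h0 => hb (Ideal.algebraMap_residueField_eq_zero.1 h0)).map _) Q' a h
    rw [IsScalarTower.algebraMap_apply A K (K ⊗[A] Localization.AtPrime n),
      IsScalarTower.algebraMap_apply A p.ResidueField K,
      Ideal.algebraMap_residueField_eq_zero.2 ha, map_zero, map_zero] at this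
    exact hQ'.ne_top (Ideal.eq_top_of_isUnit_mem _ Q'.zero_mem this)
  haveI := tensor_localization_property I p n (fun R _ => IsReduced R)
    (fun R R' _ _ e h => haveI := h; isReduced_of_injective e.symm e.symm.injective) K hle
    fun p' _ K' _ _ hp' _ _ => by
      letI : Algebra (Localization.AtPrime (n.comap (algebraMap A (AdicCompletion I A)))) (Localization.AtPrime n) :=
        (Localization.localRingHom _ n (algebraMap A (AdicCompletion I A)) rfl).toAlgebra
      haveI : IsScalarTower A (Localization.AtPrime (n.comap (algebraMap A (AdicCompletion I A))))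
          (Localization.AtPrime n) := IsScalarTower.of_algebraMap_eq fun x => by
        rw [RingHom.algebraMap_toAlgebra, Localization.localRingHom_to_map, ← IsScalarTower.algebraMap_apply]
      obtain ⟨c⟩ := nonempty_completion_localization I n
      haveI : IsNoetherianRing (AdicCompletion I A) := RegLoc.Completion.isNoetherianRing_adicCompletion' I
      haveI : Module.FaithfullyFlat (Localization.AtPrime n) (EGA4.Cpl (Localization.AtPrime n)) :=
        Module.FaithfullyFlat.of_flat_of_isLocalHom
      haveI := hA _ p'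
      haveI : Algebra.IsGeometricallyReduced p'.ResidueField (p'.Fiber (EGA4.Cpl (Localization.AtPrime n))) :=
        Algebra.IsGeometricallyReduced.of_injective
          (Algebra.TensorProduct.congr (AlgEquiv.refl (R := p'.ResidueField)) c).toAlgHom (AlgEquiv.injective _)
      haveI := isGeometricallyReduced_fiber_of_comp _ (Localization.AtPrime n)
        (EGA4.Cpl (Localization.AtPrime n)) p' inferInstance
      exact FBase.TensorAlgClosed.isReduced_tensor_of_isGeometricallyReduced
  haveI : IsReduced (Localization.AtPrime Q') := inferInstance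
  exact isReduced_of_injective e e.injective

end Groth.Agent.EGA4Lib
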