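import Groth.Agent.RegLoc.PD
import Groth.Prelude.Def_EGA4b
import Mathlib.RingTheory.Flat.Equalizer
import Mathlib.RingTheory.LocalRing.Module
import Mathlib.RingTheory.Flat.Stability

/-!
# Projective dimension, flat base change and fibres
-/

set_option autoImplicit false
set_option linter.style.haveILetI false

universe u

open CategoryTheory TensorProduct
open scoped TensorProduct

namespace Groth.Agent.EGA4Lib.PDFibre

open Groth.Agent.RegLoc.PD

theorem lt_zero_iff {R : Type u} [CommRing R] (M : Type u) [AddCommGroup M] [Module R M] :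
    HasProjectiveDimensionLT (ModuleCat.of R M) 0 ↔ Subsingleton M := by
  rw [hasProjectiveDimensionLT_zero_iff_isZero, ModuleCat.isZero_iff_subsingleton]

theorem projectiveDimension_le_of_forall {R S : Type u} [CommRing R] [CommRing S] (X : ModuleCat.{u} R)
    (Y : ModuleCat.{u} S) (h : ∀ n, HasProjectiveDimensionLT Y n → HasProjectiveDimensionLT X n) :
    projectiveDimension X ≤ projectiveDimension Y :=
  sInf_le_sInf fun _ hn i hi => h i (hn i hi)

theorem projectiveDimension_eq_of_forall {R S : Type u} [CommRing R] [CommRing S] (X : ModuleCat.{u} R)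
    (Y : ModuleCat.{u} S) (h : ∀ n, HasProjectiveDimensionLT X n ↔ HasProjectiveDimensionLT Y n) :
    projectiveDimension X = projectiveDimension Y :=
  le_antisymm (projectiveDimension_le_of_forall X Y fun n => (h n).2)
    (projectiveDimension_le_of_forall Y X fun n => (h n).1)

theorem baseChange_le (A B : Type u) [CommRing A] [CommRing B] [Algebra A B] [Module.Flat A B]
    (M : Type u) [AddCommGroup M] [Module A M] :
    projectiveDimension (ModuleCat.of B (B ⊗[A] M)) ≤ projectiveDimension (ModuleCat.of A M) := by
  refine projectiveDimension_le_of_forall _ _ fun n hn => ?_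
  cases n with
  | zero =>
    rw [lt_zero_iff] at hn ⊢
    refine ⟨fun x y => ?_⟩
    have hz : ∀ z : B ⊗[A] M, z = 0 := fun z => by
      induction z using TensorProduct.induction_on with
      | zero => rfl
      | tmul b m => rw [Subsingleton.elim m 0, TensorProduct.tmul_zero]
      | add a b ha hb => rw [ha, hb, add_zero]
    rw [hz x, hz y]
  | succ n => exact pd_baseChange_of_flat B n M hn

theorem baseChange_eq (A B : Type u) [CommRing A] [IsNoetherianRing A] [CommRing B] [Algebra A B]
    [Module.FaithfullyFlat A B] (M : Type u) [AddCommGroup M] [Module A M] [Module.Finite A M] :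
    projectiveDimension (ModuleCat.of B (B ⊗[A] M)) = projectiveDimension (ModuleCat.of A M) := by
  refine le_antisymm (baseChange_le A B M) (projectiveDimension_le_of_forall _ _ fun n hn => ?_)
  cases n with
  | zero =>
    rw [lt_zero_iff] at hn ⊢
    exact ⟨fun x y => Module.FaithfullyFlat.tensorProduct_mk_injective (B := B) M (haveI := hn; Subsingleton.elim ((TensorProduct.mk A B M) 1 x) ((TensorProduct.mk A B M) 1 y))⟩
  | succ n => exact pd_of_faithfullyFlat B n M hn

section Fibre

variable (A B : Type u) [CommRing A] [CommRing B] [IsLocalRing A] [Algebra A B]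

/-- Flat modules over the base: kernels of surjections. -/
theorem flat_ker {F M : Type u} [AddCommGroup F] [Module B F] [Module A F] [IsScalarTower A B F]
    [AddCommGroup M] [Module B M] [Module A M] [IsScalarTower A B M] [Module.Flat A F] [Module.Flat A M]
    (f : F →ₗ[B] M) (hf : Function.Surjective f) : Module.Flat A (LinearMap.ker f) := by
  let i : LinearMap.ker f →ₗ[A] F := (LinearMap.ker f).subtype.restrictScalars A
  have hi : Function.Injective i := (LinearMap.ker f).injective_subtype
  have hex : Function.Exact i (f.restrictScalars A) := LinearMap.exact_subtype_ker_map f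
  rw [Module.Flat.iff_lTensor_injective']
  intro J
  have h1 := LinearMap.lTensor_injective_of_exact_of_flat (f.restrictScalars A) hf i hi hex J
  rw [injective_iff_map_eq_zero]
  intro z hz
  apply (TensorProduct.comm A _ _).injective
  rw [map_zero]
  refine h1 ((Module.Flat.rTensor_preserves_injective_linearMap (M := F) J.subtype J.injective_subtype) ?_)
  rw [map_zero, map_zero]
  have hcomm : ∀ z : LinearMap.ker f ⊗[A] J,
      LinearMap.rTensor F J.subtype (LinearMap.lTensor J i (TensorProduct.comm A _ _ z)) =
        TensorProduct.comm A _ _ (LinearMap.rTensor A i (LinearMap.lTensor _ J.subtype z)) := fun z => by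
    induction z using TensorProduct.induction_on with
    | zero => simp
    | tmul a b => rfl
    | add a b ha hb => simp only [map_add, ha, hb]
  have := hcomm z
  rw [hz, map_zero, map_zero] at this
  exact this

/-- The special fibre stays exact for modules flat over the base. -/
theorem injective_baseChange {F M : Type u} [AddCommGroup F] [Module B F] [Module A F] [IsScalarTower A B F]
    [AddCommGroup M] [Module B M] [Module A M] [IsScalarTower A B M] [Module.Flat A M]
    (f : F →ₗ[B] M) (hf : Function.Surjective f) :
    Function.Injective ((LinearMap.ker f).subtype.baseChange (EGA4.FibRing A B)) := by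
  let m := IsLocalRing.maximalIdeal A
  let i : LinearMap.ker f →ₗ[A] F := (LinearMap.ker f).subtype.restrictScalars A
  have hsm : ∀ (X : Type u) [AddCommGroup X] [Module B X] [Module A X] [IsScalarTower A B X] (x : X),
      x ∈ m • (⊤ : Submodule A X) ↔ x ∈ EGA4.mB A B • (⊤ : Submodule B X) := fun X _ _ _ _ x => by
    rw [← Submodule.restrictScalars_mem A (EGA4.mB A B • (⊤ : Submodule B X)), Ideal.smul_restrictScalars,
      Submodule.restrictScalars_top]
  rw [injective_iff_map_eq_zero]
  intro z hz
  obtain ⟨x, rfl⟩ : ∃ x : LinearMap.ker f, (1 : EGA4.FibRing A B) ⊗ₜ[B] x = z :=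
    TensorProduct.mk_surjective B _ _ Ideal.Quotient.mk_surjective z
  rw [LinearMap.baseChange_tmul] at hz
  have hz' := congrArg (TensorProduct.quotTensorEquivQuotSMul F (EGA4.mB A B)) hz
  rw [TensorProduct.quotTensorEquivQuotSMul_mk_one_tmul, map_zero, Submodule.Quotient.mk_eq_zero] at hz'
  have h1 := LinearMap.lTensor_injective_of_exact_of_flat (f.restrictScalars A) hf i
    (LinearMap.ker f).injective_subtype (LinearMap.exact_subtype_ker_map f) (A ⧸ m)
  have h2 : (Ideal.Quotient.mk m 1) ⊗ₜ[A] x = 0 := by
    refine h1 ?_
    rw [LinearMap.lTensor_tmul, map_zero]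
    apply (TensorProduct.quotTensorEquivQuotSMul F m).injective
    rw [map_zero, TensorProduct.quotTensorEquivQuotSMul_mk_tmul, one_smul, Submodule.Quotient.mk_eq_zero]
    exact (hsm F _).2 hz'
  have h3 := congrArg (TensorProduct.quotTensorEquivQuotSMul (LinearMap.ker f) m) h2
  rw [TensorProduct.quotTensorEquivQuotSMul_mk_tmul, one_smul, map_zero, Submodule.Quotient.mk_eq_zero] at h3
  apply (TensorProduct.quotTensorEquivQuotSMul (LinearMap.ker f) (EGA4.mB A B)).injective
  rw [map_zero, TensorProduct.quotTensorEquivQuotSMul_mk_one_tmul, Submodule.Quotient.mk_eq_zero]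
  exact (hsm _ _).1 h3

theorem pd_fibre_le [Module.Flat A B] (n : ℕ) (N : Type u) [AddCommGroup N] [Module B N] [Module A N]
    [IsScalarTower A B N] [Module.Flat A N]
    (h : HasProjectiveDimensionLE (ModuleCat.of B N) n) :
    HasProjectiveDimensionLE (ModuleCat.of (EGA4.FibRing A B) (EGA4.FibRing A B ⊗[B] N)) n := by
  refine pd_baseChange (R := B) (EGA4.FibRing A B)
    (fun X _ _ => letI := Module.compHom X (algebraMap A B); Module.Flat A X) ?_ n N ?_ h
  · intro F M _ _ _ _ _ f hf hM
    letI := Module.compHom M (algebraMap A B)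
    letI := Module.compHom F (algebraMap A B)
    haveI : IsScalarTower A B M := IsScalarTower.of_algebraMap_smul fun _ _ => rfl
    haveI : IsScalarTower A B F := IsScalarTower.of_algebraMap_smul fun _ _ => rfl
    haveI : Module.Flat A M := hM
    haveI : Module.Flat A F := Module.Flat.trans A B F
    refine ⟨?_, injective_baseChange A B f hf⟩
    have := flat_ker A B f hf
    convert this using 2
  · convert (inferInstance : Module.Flat A N) using 2
    ext a x
    exact algebraMap_smul B a x

variable [IsLocalRing B] [IsNoetherianRing B] [IsLocalHom (algebraMap A B)]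

theorem mB_le : EGA4.mB A B ≤ IsLocalRing.maximalIdeal B :=
  ((IsLocalRing.local_hom_TFAE (algebraMap A B)).out 0 2 rfl rfl).mp ‹_›

theorem subsingleton_of_fibre {N : Type u} [AddCommGroup N] [Module B N] [Module.Finite B N]
    (h : Subsingleton (EGA4.FibRing A B ⊗[B] N)) : Subsingleton N := by
  haveI : Subsingleton (N ⧸ EGA4.mB A B • (⊤ : Submodule B N)) :=
    (TensorProduct.quotTensorEquivQuotSMul N (EGA4.mB A B)).symm.toEquiv.subsingleton
  have htop : EGA4.mB A B • (⊤ : Submodule B N) = ⊤ := Submodule.Quotient.subsingleton_iff.1 inferInstance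
  have := Submodule.eq_bot_of_le_smul_of_le_jacobson_bot (EGA4.mB A B) (⊤ : Submodule B N)
    Module.Finite.fg_top htop.ge ((mB_le A B).trans (IsLocalRing.maximalIdeal_le_jacobson _))
  exact ⟨fun x y => by
    rw [(Submodule.mem_bot B).1 (this ▸ Submodule.mem_top : x ∈ (⊥ : Submodule B N)),
      (Submodule.mem_bot B).1 (this ▸ Submodule.mem_top : y ∈ (⊥ : Submodule B N))]⟩

theorem pd_of_fibre [Module.Flat A B] : ∀ (n : ℕ) (N : Type u) [AddCommGroup N] [Module B N] [Module A N]
    [IsScalarTower A B N] [Module.Flat A N] [Module.Finite B N],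
    HasProjectiveDimensionLE (ModuleCat.of (EGA4.FibRing A B) (EGA4.FibRing A B ⊗[B] N)) n →
      HasProjectiveDimensionLE (ModuleCat.of B N) n := by
  intro n
  induction n with
  | zero =>
    intro N _ _ _ _ _ _ h
    rw [pd_zero_iff] at h ⊢
    let S := EGA4.FibRing A B
    haveI := h
    haveI : IsLocalRing S := IsLocalRing.of_surjective' _ Ideal.Quotient.mk_surjective
    haveI : Module.Free S (S ⊗[B] N) := Module.free_of_flat_of_isLocalRing
    let b := Module.finBasis S (S ⊗[B] N)
    choose v hv using fun i => TensorProduct.mk_surjective B N S Ideal.Quotient.mk_surjective (b i)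
    let φ : (Fin (Module.finrank S (S ⊗[B] N)) → B) →ₗ[B] N := Fintype.linearCombination B v
    have hφS : ∀ c : Fin (Module.finrank S (S ⊗[B] N)) → B,
        (1 : S) ⊗ₜ[B] φ c = ∑ i, algebraMap B S (c i) • b i := fun c => by
      rw [Fintype.linearCombination_apply, TensorProduct.tmul_sum]
      refine Finset.sum_congr rfl fun i _ => ?_
      rw [TensorProduct.tmul_smul, algebraMap_smul]
      exact congrArg (c i • ·) (hv i)
    have hφ : Function.Surjective φ := by
      rw [← LinearMap.range_eq_top]
      refine top_le_iff.1 (Submodule.le_of_le_smul_of_le_jacobson_bot Module.Finite.fg_top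
        ((mB_le A B).trans (IsLocalRing.maximalIdeal_le_jacobson _)) fun y _ => ?_)
      obtain ⟨c, hc⟩ : ∃ c : Fin (Module.finrank S (S ⊗[B] N)) → B,
          (1 : S) ⊗ₜ[B] φ c = (1 : S) ⊗ₜ[B] y := by
        choose c hc using fun i => Ideal.Quotient.mk_surjective (b.repr ((1 : S) ⊗ₜ[B] y) i)
        refine ⟨c, (hφS c).trans ?_⟩
        show ∑ i, Ideal.Quotient.mk _ (c i) • b i = _
        simp only [hc]
        exact b.sum_repr _
      have hd : φ c - y ∈ EGA4.mB A B • (⊤ : Submodule B N) := by
        have := congrArg (TensorProduct.quotTensorEquivQuotSMul N (EGA4.mB A B)) hc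
        rw [TensorProduct.quotTensorEquivQuotSMul_mk_one_tmul, TensorProduct.quotTensorEquivQuotSMul_mk_one_tmul,
          Submodule.Quotient.eq] at this
        exact this
      rw [show y = φ c - (φ c - y) by abel]
      exact sub_mem (Submodule.mem_sup_left ⟨c, rfl⟩) (Submodule.mem_sup_right hd)
    let F := Fin (Module.finrank S (S ⊗[B] N)) → B
    haveI : Module.Flat A F := Module.Flat.trans A B F
    haveI : Module.Finite B (LinearMap.ker φ) := Module.Finite.iff_fg.2 (IsNoetherian.noetherian _)
    haveI : Subsingleton (LinearMap.ker φ) := by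
      refine subsingleton_of_fibre A B ⟨fun z w => injective_baseChange A B φ hφ ?_⟩
      have h0 : ∀ z : S ⊗[B] LinearMap.ker φ, (LinearMap.ker φ).subtype.baseChange S z = 0 := fun z => by
        obtain ⟨x, rfl⟩ : ∃ x : LinearMap.ker φ, (1 : S) ⊗ₜ[B] x = z :=
          TensorProduct.mk_surjective B _ _ Ideal.Quotient.mk_surjective z
        have hx : ∑ i, algebraMap B S ((x : F) i) • b i = 0 := by
          rw [← hφS, LinearMap.mem_ker.1 x.2, TensorProduct.tmul_zero]
        have hci : ∀ i, algebraMap B S ((x : F) i) = 0 :=
          Fintype.linearIndependent_iff.1 b.linearIndependent _ hx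
        rw [LinearMap.baseChange_tmul, Submodule.subtype_apply]
        apply (TensorProduct.quotTensorEquivQuotSMul F (EGA4.mB A B)).injective
        rw [map_zero, TensorProduct.quotTensorEquivQuotSMul_mk_one_tmul, Submodule.Quotient.mk_eq_zero,
          pi_eq_sum_univ' (x : F)]
        refine Submodule.sum_mem _ fun i _ => Submodule.smul_mem_smul ?_ Submodule.mem_top
        exact Ideal.Quotient.eq_zero_iff_mem.1 (hci i)
      rw [h0 z, h0 w]
    have hinj : Function.Injective φ := (injective_iff_map_eq_zero φ).2 fun x hx =>
      congrArg Subtype.val (Subsingleton.elim (⟨x, hx⟩ : LinearMap.ker φ) 0)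
    exact Module.Projective.of_equiv (LinearEquiv.ofBijective φ ⟨hinj, hφ⟩)
  | succ n ih =>
    intro N _ _ _ _ _ _ h
    obtain ⟨F, _, _, _, _, f, hf⟩ := Module.exists_finite_presentation B N
    letI := Module.compHom F (algebraMap A B)
    haveI : IsScalarTower A B F := IsScalarTower.of_algebraMap_smul fun _ _ => rfl
    haveI : Module.Flat A F := Module.Flat.trans A B F
    haveI := flat_ker A B f hf
    haveI : Module.Finite B (LinearMap.ker f) := Module.Finite.iff_fg.2 (IsNoetherian.noetherian _)
    rw [pd_shift f hf]
    rw [pd_shift (f.baseChange (EGA4.FibRing A B)) (baseChange_surjective _ f hf)] at h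
    exact ih _ (pd_congr (kerBaseChangeEquiv _ f hf (injective_baseChange A B f hf)).symm n h)

theorem eq_fibre [Module.Flat A B] (N : Type u) [AddCommGroup N] [Module B N] [Module A N]
    [IsScalarTower A B N] [Module.Finite B N] [Module.Flat A N] :
    projectiveDimension (ModuleCat.of B N) =
      projectiveDimension (ModuleCat.of (EGA4.FibRing A B) (EGA4.FibMod A B N)) := by
  let e : (EGA4.FibRing A B ⊗[B] N) ≃ₗ[EGA4.FibRing A B] EGA4.FibMod A B N :=
    (TensorProduct.quotTensorEquivQuotSMul N (EGA4.mB A B)).extendScalarsOfSurjective Ideal.Quotient.mk_surjective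
  refine Eq.trans ?_ (projectiveDimension_eq_of_iso e.toModuleIso)
  refine projectiveDimension_eq_of_forall _ _ fun n => ?_
  cases n with
  | zero =>
    rw [lt_zero_iff, lt_zero_iff]
    refine ⟨fun h => ⟨fun x y => ?_⟩, subsingleton_of_fibre A B⟩
    have hz : ∀ z : EGA4.FibRing A B ⊗[B] N, z = 0 := fun z => by
      induction z using TensorProduct.induction_on with
      | zero => rfl
      | tmul b m => rw [Subsingleton.elim m 0, TensorProduct.tmul_zero]
      | add a b ha hb => rw [ha, hb, add_zero]
    rw [hz x, hz y]
  | succ n => exact ⟨pd_fibre_le A B n N, pd_of_fibre A B n N⟩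

end Fibre

end Groth.Agent.EGA4Lib.PDFibre
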