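import Groth.Agent.Depth.CM
import Groth.Agent.Dim.Localized
import Groth.Prelude.Def_EGA4b
import Mathlib.LinearAlgebra.TensorProduct.Tower

/-!
# Depth and dimension of stalks: localization in steps, change of rings
-/

set_option autoImplicit false
set_option linter.style.haveILetI false

universe u

open IsLocalRing TensorProduct

namespace Groth.Agent.EGA4Lib

/-- Depth and dimension only depend on the module up to isomorphism. -/
theorem depth_supportDim_congr {L : Type u} [CommRing L] [IsLocalRing L] {X Y : Type u}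
    [AddCommGroup X] [Module L X] [AddCommGroup Y] [Module L Y] (e : X ≃ₗ[L] Y) :
    LocCoh.depth L X = LocCoh.depth L Y ∧ Module.supportDim L X = Module.supportDim L Y :=
  ⟨Depth.idealDepth_congr e, Module.supportDim_eq_of_equiv e⟩

/-- Depth and dimension are invariant under change of rings along a surjection. -/
theorem depth_supportDim_of_surjective {R S : Type u} [CommRing R] [IsLocalRing R] [CommRing S]
    [IsLocalRing S] [Algebra R S] (hs : Function.Surjective (algebraMap R S)) (N : Type u)
    [AddCommGroup N] [Module S N] [Module R N] [IsScalarTower R S N] [Module.Finite S N] :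
    LocCoh.depth S N = LocCoh.depth R N ∧ Module.supportDim S N = Module.supportDim R N := by
  haveI : Module.Finite R S := Module.Finite.of_surjective (Algebra.linearMap R S) hs
  haveI : Module.Finite R N := Module.Finite.trans S N
  refine ⟨?_, Depth.supportDim_of_surjective hs⟩
  rw [Depth.depth_eq_idealDepth, Depth.depth_eq_idealDepth,
    ← IsLocalRing.map_maximalIdeal_of_surjective _ hs]
  exact Depth.idealDepth_map_of_surjective hs _

theorem depth_supportDim_tensor_algEquiv {B L L' : Type u} [CommRing B] [CommRing L] [IsLocalRing L]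
    [CommRing L'] [IsLocalRing L'] [Algebra B L] [Algebra B L'] (e : L ≃ₐ[B] L') (M : Type u)
    [AddCommGroup M] [Module B M] [Module.Finite B M] :
    LocCoh.depth L (L ⊗[B] M) = LocCoh.depth L' (L' ⊗[B] M) ∧
      Module.supportDim L (L ⊗[B] M) = Module.supportDim L' (L' ⊗[B] M) := by
  letI : Algebra L L' := e.toRingHom.toAlgebra
  haveI : IsScalarTower B L L' := IsScalarTower.of_algebraMap_eq fun b => (e.commutes b).symm
  let f : L ≃ₗ[L] L' :=
    { e.toRingEquiv.toAddEquiv with
      map_smul' := fun r x => by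
        show e (r • x) = e r * e x
        rw [smul_eq_mul, map_mul] }
  let g : L ⊗[B] M ≃ₗ[L] L' ⊗[B] M := AlgebraTensorModule.congr f (LinearEquiv.refl B M)
  obtain ⟨h1, h2⟩ := depth_supportDim_congr g
  obtain ⟨h3, h4⟩ := depth_supportDim_of_surjective (R := L) (S := L') e.surjective (L' ⊗[B] M)
  exact ⟨h1.trans h3.symm, h2.trans h4.symm⟩

section

variable {A : Type u} [CommRing A] (M : Type u) [AddCommGroup M] [Module A M] [Module.Finite A M]

/-- `(M_p)_Q ≅ M_q` for `q = Q ∩ A`, for depth and dimension. -/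
theorem depth_supportDim_localization_localization (p : Ideal A) [p.IsPrime]
    (Q : Ideal (Localization.AtPrime p)) [Q.IsPrime] (q : Ideal A) [q.IsPrime]
    (hq : Q.comap (algebraMap A (Localization.AtPrime p)) = q) :
    LocCoh.depth (Localization.AtPrime Q) (LocalizedModule Q.primeCompl (LocalizedModule p.primeCompl M)) =
        LocCoh.depth (Localization.AtPrime q) (LocalizedModule q.primeCompl M) ∧
      Module.supportDim (Localization.AtPrime Q)
          (LocalizedModule Q.primeCompl (LocalizedModule p.primeCompl M)) =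
        Module.supportDim (Localization.AtPrime q) (LocalizedModule q.primeCompl M) := by
  subst hq
  let Lp := Localization.AtPrime p
  let LQ := Localization.AtPrime Q
  let Lq := Localization.AtPrime (Q.comap (algebraMap A Lp))
  let e1 : LocalizedModule Q.primeCompl (LocalizedModule p.primeCompl M) ≃ₗ[LQ]
      LQ ⊗[Lp] LocalizedModule p.primeCompl M :=
    LocalizedModule.equivTensorProduct Q.primeCompl (LocalizedModule p.primeCompl M)
  let e2 : LocalizedModule p.primeCompl M ≃ₗ[Lp] Lp ⊗[A] M :=
    LocalizedModule.equivTensorProduct p.primeCompl M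
  let e3 : LQ ⊗[Lp] LocalizedModule p.primeCompl M ≃ₗ[LQ] LQ ⊗[Lp] (Lp ⊗[A] M) :=
    AlgebraTensorModule.congr (LinearEquiv.refl LQ LQ) e2
  let e4 : LQ ⊗[Lp] (Lp ⊗[A] M) ≃ₗ[LQ] LQ ⊗[A] M :=
    AlgebraTensorModule.cancelBaseChange A Lp LQ LQ M
  obtain ⟨h1, h2⟩ := depth_supportDim_congr (L := LQ) (Y := LQ ⊗[A] M) ((e1.trans e3).trans e4)
  obtain ⟨h3, h4⟩ := depth_supportDim_congr
    (LocalizedModule.equivTensorProduct (Q.comap (algebraMap A Lp)).primeCompl M)
  haveI := IsLocalization.isLocalization_isLocalization_atPrime_isLocalization p.primeCompl LQ Q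
  obtain ⟨h5, h6⟩ := depth_supportDim_tensor_algEquiv
    (IsLocalization.algEquiv (Q.comap (algebraMap A Lp)).primeCompl Lq LQ) M
  exact ⟨h1.trans (h5.symm.trans h3.symm), h2.trans (h6.symm.trans h4.symm)⟩

/-- `(S_k)` at `p` is the inequality at all generizations of `p`. -/
theorem hasSkAt_iff (k : ℕ) (p : Ideal A) [p.IsPrime] :
    EGA4.HasSkAt k A M p ↔ ∀ (q : Ideal A) [q.IsPrime], q ≤ p →
      min (k : WithBot ℕ∞) (Module.supportDim (Localization.AtPrime q) (LocalizedModule q.primeCompl M)) ≤
        ((LocCoh.depth (Localization.AtPrime q) (LocalizedModule q.primeCompl M) : ℕ∞) : WithBot ℕ∞) := by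
  constructor
  · intro h q _ hqp
    let e := IsLocalization.AtPrime.primeSpectrumOrderIso (Localization.AtPrime p) p
    let Q := e.symm ⟨⟨q, inferInstance⟩, hqp⟩
    haveI := Q.isPrime
    have hQ : Q.asIdeal.comap (algebraMap A (Localization.AtPrime p)) = q :=
      congr_arg (fun x => x.1.asIdeal) (e.apply_symm_apply ⟨⟨q, inferInstance⟩, hqp⟩)
    obtain ⟨h1, h2⟩ := depth_supportDim_localization_localization M p Q.asIdeal q hQ
    have := h Q.asIdeal
    rwa [h1, h2] at this
  · intro h Q _
    obtain ⟨h1, h2⟩ := depth_supportDim_localization_localization M p Q _ rfl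
    rw [h1, h2]
    exact h _ ((Ideal.comap_mono (IsLocalRing.le_maximalIdeal (Ideal.IsPrime.ne_top ‹Q.IsPrime›))).trans
      (le_of_eq (Localization.AtPrime.under_maximalIdeal (I := p))))

theorem hasSk_iff_forall_hasSkAt (k : ℕ) :
    LocCoh.HasSk k A M ↔ ∀ (p : Ideal A) [p.IsPrime], EGA4.HasSkAt k A M p :=
  ⟨fun h p _ => (hasSkAt_iff M k p).2 fun q _ _ => h q,
    fun h p _ => (hasSkAt_iff M k p).1 (h p) p le_rfl⟩

end

end Groth.Agent.EGA4Lib
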