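import Groth.Prelude.Def_EGA4b
import Groth.Agent.EGA4Lib.CplFlat
import Groth.Agent.EGA4Lib.AdicFibres
import Groth.Agent.EGA4Lib.FibreBC
import Groth.Agent.EGA4Lib.HomToLocal

/-!
# The closed fibre over the completion
-/

set_option autoImplicit false
set_option linter.style.haveILetI false

open IsLocalRing TensorProduct

namespace Groth.Agent.EGA4Lib

universe u

variable (A B : Type u) [CommRing A] [CommRing B] [IsLocalRing A] [IsNoetherianRing A]
  [Algebra A B] [Algebra (EGA4.Cpl A) B] [IsScalarTower A (EGA4.Cpl A) B]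

/-- Over a quotient of `A` killed by the maximal ideal, tensoring over `Â` or over `A` agree. -/
theorem nonempty_tensor_cpl_closed (K : Type u) [CommRing K] [Algebra A K] [Algebra (EGA4.Cpl A) K]
    [IsScalarTower A (EGA4.Cpl A) K] (hK : ∀ x ∈ maximalIdeal A, algebraMap A K x = 0) :
    Nonempty (K ⊗[EGA4.Cpl A] B ≃ₐ[K] K ⊗[A] B) := by
  haveI : TensorProduct.CompatibleSMul A (EGA4.Cpl A) K B := by
    refine ⟨fun α x b => ?_⟩
    obtain ⟨a, ha⟩ := completion_exists_sub_mem_pow (maximalIdeal A) 1 α
    rw [pow_one] at ha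
    have h0 : ∀ β ∈ (maximalIdeal A).map (algebraMap A (EGA4.Cpl A)),
        β • x = 0 ∧ x ⊗ₜ[A] (β • b) = (0 : K ⊗[A] B) := by
      intro β hβ
      have hmem : β ∈ ((maximalIdeal A) • ⊤ : Submodule A (EGA4.Cpl A)) := by
        rw [Ideal.smul_top_eq_map]; exact hβ
      refine Submodule.smul_induction_on hmem (fun r hr n _ => ?_) fun u v hu hv => ?_
      · refine ⟨?_, ?_⟩
        · rw [smul_assoc, Algebra.smul_def r, hK r hr, zero_mul]
        · rw [smul_assoc, ← TensorProduct.smul_tmul, Algebra.smul_def r, hK r hr, zero_mul,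
            TensorProduct.zero_tmul]
      · rw [add_smul, add_smul, TensorProduct.tmul_add, hu.1, hv.1, hu.2, hv.2, add_zero, add_zero]
        exact ⟨rfl, rfl⟩
    obtain ⟨h1, h2⟩ := h0 _ ha
    rw [sub_smul, sub_eq_zero, algebraMap_smul] at h1
    rw [sub_smul, algebraMap_smul, TensorProduct.tmul_sub, sub_eq_zero] at h2
    rw [h1, h2, TensorProduct.smul_tmul]
  exact ⟨Algebra.TensorProduct.equivOfCompatibleSMul A (EGA4.Cpl A) K K B⟩

/-- A finite extension of the residue field of `Â` as one of that of `A`. -/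
theorem exists_residueAlgebra_cpl (K : Type u) [Field K]
    [Algebra (maximalIdeal (EGA4.Cpl A)).ResidueField K]
    [Module.Finite (maximalIdeal (EGA4.Cpl A)).ResidueField K]
    [Algebra A K] [Algebra (EGA4.Cpl A) K] [IsScalarTower A (EGA4.Cpl A) K]
    [IsScalarTower (EGA4.Cpl A) (maximalIdeal (EGA4.Cpl A)).ResidueField K] :
    (∀ x ∈ maximalIdeal A, algebraMap A K x = 0) ∧
      ∃ _ : Algebra (maximalIdeal A).ResidueField K,
        IsScalarTower A (maximalIdeal A).ResidueField K ∧ Module.Finite (maximalIdeal A).ResidueField K := by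
  let m := maximalIdeal A
  let m' := maximalIdeal (EGA4.Cpl A)
  have hcomap : m'.comap (algebraMap A (EGA4.Cpl A)) = m := by
    haveI : ((maximalIdeal (EGA4.Cpl A)).comap (algebraMap A (EGA4.Cpl A))).IsMaximal :=
      (completion_maximal (maximalIdeal A) (maximalIdeal (AdicCompletion (maximalIdeal A) A))).1
    exact eq_maximalIdeal this
  have hK : ∀ x ∈ maximalIdeal A, algebraMap A K x = 0 := fun x hx => by
    rw [IsScalarTower.algebraMap_apply A (EGA4.Cpl A) K, IsScalarTower.algebraMap_apply (EGA4.Cpl A) m'.ResidueField K,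
      (Ideal.algebraMap_residueField_eq_zero (I := m')).2 (show algebraMap A (EGA4.Cpl A) x ∈ m' from (SetLike.ext_iff.1 hcomap x).2 hx), map_zero]
  let r : m.ResidueField →+* m'.ResidueField :=
    Ideal.ResidueField.map m m' (algebraMap A (EGA4.Cpl A)) hcomap.symm
  have hsurj : Function.Surjective r := by
    intro z
    obtain ⟨z, rfl⟩ := (Ideal.bijective_algebraMap_quotient_residueField m').2 z
    obtain ⟨α, rfl⟩ := Ideal.Quotient.mk_surjective z
    obtain ⟨a, ha⟩ := completion_exists_sub_mem_pow (maximalIdeal A) 1 α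
    rw [pow_one] at ha
    refine ⟨algebraMap A m.ResidueField a, ?_⟩
    rw [Ideal.ResidueField.map_algebraMap]
    show algebraMap (EGA4.Cpl A) m'.ResidueField (algebraMap A (EGA4.Cpl A) a) =
      algebraMap (EGA4.Cpl A) m'.ResidueField α
    refine (sub_eq_zero.1 ?_).symm
    rw [← map_sub]
    refine Ideal.algebraMap_residueField_eq_zero.2 ?_
    exact Ideal.map_le_iff_le_comap.2 hcomap.ge ha
  letI : Algebra m.ResidueField m'.ResidueField := r.toAlgebra
  haveI : Module.Finite m.ResidueField m'.ResidueField :=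
    Module.Finite.of_surjective (Algebra.linearMap _ _) hsurj
  letI : Algebra m.ResidueField K := ((algebraMap m'.ResidueField K).comp r).toAlgebra
  haveI : IsScalarTower m.ResidueField m'.ResidueField K := IsScalarTower.of_algebraMap_eq fun _ => rfl
  refine ⟨hK, inferInstance, IsScalarTower.of_algebraMap_eq fun a => ?_, Module.Finite.trans m'.ResidueField K⟩
  show _ = algebraMap m'.ResidueField K (r (algebraMap A m.ResidueField a))
  rw [Ideal.ResidueField.map_algebraMap, ← IsScalarTower.algebraMap_apply,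
    ← IsScalarTower.algebraMap_apply]

theorem isGeometricallyRegular_closedFibre_cpl
    (h : CAlg.IsGeometricallyRegular (maximalIdeal A).ResidueField ((maximalIdeal A).Fiber B)) :
    CAlg.IsGeometricallyRegular (maximalIdeal (EGA4.Cpl A)).ResidueField
      ((maximalIdeal (EGA4.Cpl A)).Fiber B) := by
  intro K _ _ hfin
  letI : Algebra (EGA4.Cpl A) K := ((algebraMap (maximalIdeal (EGA4.Cpl A)).ResidueField K).comp
    (algebraMap (EGA4.Cpl A) (maximalIdeal (EGA4.Cpl A)).ResidueField)).toAlgebra
  haveI : IsScalarTower (EGA4.Cpl A) (maximalIdeal (EGA4.Cpl A)).ResidueField K :=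
    IsScalarTower.of_algebraMap_eq fun _ => rfl
  letI : Algebra A K := ((algebraMap (EGA4.Cpl A) K).comp (algebraMap A (EGA4.Cpl A))).toAlgebra
  haveI : IsScalarTower A (EGA4.Cpl A) K := IsScalarTower.of_algebraMap_eq fun _ => rfl
  haveI := hfin
  obtain ⟨hK, _, _, hf⟩ := exists_residueAlgebra_cpl A K
  haveI := h K hf
  haveI : IsRegularRing (K ⊗[A] B) := IsRegularRing.of_ringEquiv
    (Algebra.TensorProduct.cancelBaseChange A (maximalIdeal A).ResidueField K K B).toRingEquiv
  obtain ⟨e⟩ := nonempty_tensor_cpl_closed A B K hK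
  haveI : IsRegularRing (K ⊗[EGA4.Cpl A] B) := IsRegularRing.of_ringEquiv e.symm.toRingEquiv
  exact IsRegularRing.of_ringEquiv (Algebra.TensorProduct.cancelBaseChange (EGA4.Cpl A)
    (maximalIdeal (EGA4.Cpl A)).ResidueField K K B).symm.toRingEquiv

end Groth.Agent.EGA4Lib
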