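import Groth.Prelude.Def_EGA4b
import Groth.Agent.EGA4Lib.CplFlat
import Groth.Agent.EGA4Lib.AdicFibres

/-!
# Residue fields of completions
-/

set_option autoImplicit false
set_option linter.style.haveILetI false

open IsLocalRing

namespace Groth.Agent.EGA4Lib

universe u

theorem finite_residueField_cpl (A B : Type u) [CommRing A] [CommRing B] [IsLocalRing A] [IsLocalRing B]
    [IsNoetherianRing A] [IsNoetherianRing B] [Algebra A B] [IsLocalHom (algebraMap A B)]
    [Algebra (EGA4.Cpl A) (EGA4.Cpl B)] [IsScalarTower A (EGA4.Cpl A) (EGA4.Cpl B)]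
    [IsLocalHom (algebraMap (EGA4.Cpl A) (EGA4.Cpl B))] [Module.Finite (ResidueField A) (ResidueField B)] :
    Module.Finite (ResidueField (EGA4.Cpl A)) (ResidueField (EGA4.Cpl B)) := by
  classical
  have hm : ∀ b ∈ maximalIdeal B, algebraMap B (EGA4.Cpl B) b ∈ maximalIdeal (EGA4.Cpl B) := fun b hb => by
    have h := Ideal.mem_map_of_mem (algebraMap B (AdicCompletion (maximalIdeal B) B)) hb
    rw [← AdicCompletion.maximalIdeal_eq_map] at h
    exact h
  obtain ⟨s, hs⟩ := (inferInstance : Module.Finite (ResidueField A) (ResidueField B)).fg_top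
  let ι : ResidueField B →+* ResidueField (EGA4.Cpl B) :=
    Ideal.Quotient.lift _ ((residue (EGA4.Cpl B)).comp (algebraMap B (EGA4.Cpl B))) fun b hb => by
      rw [RingHom.comp_apply, residue_eq_zero_iff]
      exact hm b hb
  have hι : Function.Surjective ι := by
    intro z
    obtain ⟨z, rfl⟩ := IsLocalRing.residue_surjective z
    obtain ⟨b, hb⟩ := completion_exists_sub_mem_pow (maximalIdeal B) 1 z
    rw [pow_one] at hb
    refine ⟨residue B b, ?_⟩
    show residue (EGA4.Cpl B) (algebraMap B (EGA4.Cpl B) b) = _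
    refine (sub_eq_zero.1 ?_).symm
    rw [← map_sub]
    refine (residue_eq_zero_iff _).2 ?_
    exact (Ideal.map_le_iff_le_comap.2 (fun x hx => Ideal.mem_comap.2 (hm x hx)) : (maximalIdeal B).map (algebraMap B (EGA4.Cpl B)) ≤ maximalIdeal (EGA4.Cpl B)) hb
  have hιc : ∀ (c : ResidueField A), ∃ c' : ResidueField (EGA4.Cpl A), ∀ w : ResidueField B,
      ι (c • w) = c' • ι w := by
    intro c
    obtain ⟨a, rfl⟩ := IsLocalRing.residue_surjective c
    refine ⟨residue (EGA4.Cpl A) (algebraMap A (EGA4.Cpl A) a), fun w => ?_⟩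
    obtain ⟨b, rfl⟩ := IsLocalRing.residue_surjective w
    rw [Algebra.smul_def, Algebra.smul_def, map_mul]
    congr 1
    show residue (EGA4.Cpl B) (algebraMap B (EGA4.Cpl B) (algebraMap A B a)) =
      residue (EGA4.Cpl B) (algebraMap (EGA4.Cpl A) (EGA4.Cpl B) (algebraMap A (EGA4.Cpl A) a))
    rw [← IsScalarTower.algebraMap_apply, ← IsScalarTower.algebraMap_apply]
  refine ⟨⟨s.image ι, eq_top_iff.2 fun z hz => ?_⟩⟩
  clear hz
  obtain ⟨w, rfl⟩ := hι z
  have hw : w ∈ Submodule.span (ResidueField A) (s : Set (ResidueField B)) := hs ▸ Submodule.mem_top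
  induction hw using Submodule.span_induction with
  | mem x hx => exact Submodule.subset_span (Finset.mem_image_of_mem _ hx)
  | zero => rw [map_zero]; exact zero_mem _
  | add x y _ _ hx hy => rw [map_add]; exact add_mem hx hy
  | smul c x _ hx =>
    obtain ⟨c', hc'⟩ := hιc c
    rw [hc']
    exact Submodule.smul_mem _ _ hx

end Groth.Agent.EGA4Lib
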