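import Groth.Agent.EGA4Lib.FibresInstances
import Groth.Agent.EGA4Lib.CplClosedFibre
import Groth.Agent.EGA4Lib.CplResidue
import Groth.Agent.EGA4Lib.CplFlat
import Groth.Agent.EGA4Lib.FibreComp
import Groth.Agent.EGA4Lib.Fibers
import Groth.Agent.GeomFieldLib.Main

/-!
# Fibres of flat local homomorphisms with good formal fibres (EGA IV 7.5.2)
-/

set_option autoImplicit false
set_option linter.style.haveILetI false

open IsLocalRing TensorProduct

namespace Groth.Agent.EGA4Lib

universe u

variable {P : ∀ (R : Type u) [CommRing R], Prop}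

theorem property_closedFibre_cpl (hP : LiftingProperty P) (A B : Type u) [CommRing A] [CommRing B]
    [IsLocalRing A] [IsNoetherianRing A] [Algebra A B] [Algebra (EGA4.Cpl A) B]
    [IsScalarTower A (EGA4.Cpl A) B]
    (h : ∀ (K : Type u) [Field K] [Algebra (maximalIdeal A).ResidueField K],
      Module.Finite (maximalIdeal A).ResidueField K →
        P (K ⊗[(maximalIdeal A).ResidueField] (maximalIdeal A).Fiber B))
    (K : Type u) [Field K] [Algebra (EGA4.Cpl A) K] (hK : Module.Finite (EGA4.Cpl A) K) :
    P (K ⊗[EGA4.Cpl A] B) := by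
  refine property_closed_of_fiber hP (EGA4.Cpl A) B (fun L _ _ hfin => ?_) K hK
  letI : Algebra (EGA4.Cpl A) L := ((algebraMap (maximalIdeal (EGA4.Cpl A)).ResidueField L).comp
    (algebraMap (EGA4.Cpl A) (maximalIdeal (EGA4.Cpl A)).ResidueField)).toAlgebra
  haveI : IsScalarTower (EGA4.Cpl A) (maximalIdeal (EGA4.Cpl A)).ResidueField L :=
    IsScalarTower.of_algebraMap_eq fun _ => rfl
  letI : Algebra A L := ((algebraMap (EGA4.Cpl A) L).comp (algebraMap A (EGA4.Cpl A))).toAlgebra
  haveI : IsScalarTower A (EGA4.Cpl A) L := IsScalarTower.of_algebraMap_eq fun _ => rfl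
  haveI := hfin
  obtain ⟨hL, _, _, hf⟩ := exists_residueAlgebra_cpl A L
  obtain ⟨e⟩ := nonempty_tensor_cpl_closed A B L hL
  exact hP.iso (((Algebra.TensorProduct.cancelBaseChange A (maximalIdeal A).ResidueField L L B).toRingEquiv.trans
    e.symm.toRingEquiv).trans (Algebra.TensorProduct.cancelBaseChange (EGA4.Cpl A)
      (maximalIdeal (EGA4.Cpl A)).ResidueField L L B).symm.toRingEquiv) (h L hf)

/-- The complete case, over `Â → B̂`. -/
theorem property_fibres_cpl (hP : LiftingProperty P) (A B : Type u) [CommRing A] [CommRing B]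
    [IsNoetherianRing A] [IsNoetherianRing B] [IsLocalRing A] [IsLocalRing B] [Algebra A B]
    [IsLocalHom (algebraMap A B)] [Module.Flat A B] [Module.Finite (ResidueField A) (ResidueField B)]
    [Algebra (EGA4.Cpl A) (EGA4.Cpl B)] [IsScalarTower A (EGA4.Cpl A) (EGA4.Cpl B)]
    [IsLocalHom (algebraMap (EGA4.Cpl A) (EGA4.Cpl B))]
    (h : ∀ (K : Type u) [Field K] [Algebra (maximalIdeal A).ResidueField K],
      Module.Finite (maximalIdeal A).ResidueField K →
        P (K ⊗[(maximalIdeal A).ResidueField] (maximalIdeal A).Fiber (EGA4.Cpl B)))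
    (q : Ideal (EGA4.Cpl A)) [q.IsPrime] (K : Type u) [Field K] [Algebra q.ResidueField K]
    (hK : Module.Finite q.ResidueField K) : P (K ⊗[q.ResidueField] q.Fiber (EGA4.Cpl B)) := by
  haveI : IsNoetherianRing (EGA4.Cpl A) := RegLoc.Completion.isNoetherianRing_adicCompletion' _
  haveI : IsNoetherianRing (EGA4.Cpl B) := RegLoc.Completion.isNoetherianRing_adicCompletion' _
  haveI : Module.Flat (EGA4.Cpl A) (EGA4.Cpl B) := flat_cpl A B
  haveI : IsAdicComplete (maximalIdeal (EGA4.Cpl A)) (EGA4.Cpl A) :=
    inferInstanceAs (IsAdicComplete (maximalIdeal (AdicCompletion (maximalIdeal A) A))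
      (AdicCompletion (maximalIdeal A) A))
  haveI : IsAdicComplete (maximalIdeal (EGA4.Cpl B)) (EGA4.Cpl B) :=
    inferInstanceAs (IsAdicComplete (maximalIdeal (AdicCompletion (maximalIdeal B) B))
      (AdicCompletion (maximalIdeal B) B))
  haveI := finite_residueField_cpl A B
  haveI := hK
  letI : Algebra (EGA4.Cpl A) K :=
    ((algebraMap q.ResidueField K).comp (algebraMap (EGA4.Cpl A) q.ResidueField)).toAlgebra
  haveI : IsScalarTower (EGA4.Cpl A) q.ResidueField K := IsScalarTower.of_algebraMap_eq fun _ => rfl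
  exact hP.iso (Algebra.TensorProduct.cancelBaseChange (EGA4.Cpl A) q.ResidueField K K (EGA4.Cpl B)).symm.toRingEquiv
    (property_fibres_of_isAdicComplete hP (EGA4.Cpl A) (EGA4.Cpl B)
      (property_closedFibre_cpl hP A (EGA4.Cpl B) h) q K)

/-- A base change of an algebra with Cohen–Macaulay fibres. -/
theorem isCohenMacaulayRing_tensor_of_fibres (A U C : Type u) [CommRing A] [CommRing U] [CommRing C]
    [Algebra A U] [Algebra A C] [Module.Flat A C] [Algebra.EssFiniteType A U]
    [IsNoetherianRing (U ⊗[A] C)] (hU : LocCoh.IsCohenMacaulayRing U)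
    (hfib : ∀ (q : Ideal A) [q.IsPrime], LocCoh.IsCohenMacaulayRing (q.Fiber C)) :
    LocCoh.IsCohenMacaulayRing (U ⊗[A] C) := by
  refine GeomFieldLib.isCohenMacaulayRing_of_flat U _ hU fun r _ => ?_
  let q := r.comap (algebraMap A U)
  letI := residueAlgebra (A := A) r
  haveI := residueAlgebra_isScalarTower (A := A) r
  haveI : Algebra.EssFiniteType A r.ResidueField := Algebra.EssFiniteType.comp A U r.ResidueField
  haveI : Algebra.EssFiniteType q.ResidueField r.ResidueField :=
    Algebra.EssFiniteType.of_comp A q.ResidueField r.ResidueField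
  exact GeomFieldLib.isCohenMacaulayRing_of_ringEquiv
    ((Algebra.TensorProduct.cancelBaseChange A q.ResidueField r.ResidueField r.ResidueField C).toRingEquiv.trans
      (Algebra.TensorProduct.cancelBaseChange A U U r.ResidueField C).symm.toRingEquiv)
    (GeomFieldLib.isCohenMacaulayRing_tensor_fg q.ResidueField r.ResidueField _ (hfib q))

end Groth.Agent.EGA4Lib
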