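import Groth.Agent.EGA4Lib.JacGRing
import Groth.Agent.EGA4Lib.FibreBC
import Groth.Agent.EGA4Lib.Fibers

/-!
# Complete Noetherian local rings are G-rings (EGA IV 7.4.4)
-/

set_option autoImplicit false
set_option linter.style.haveILetI false

open IsLocalRing TensorProduct

namespace Groth.Agent.EGA4Lib.Jac

universe u

theorem isGRing_of_isAdicComplete (R : Type u) [CommRing R] [IsLocalRing R] [IsNoetherianRing R]
    [IsAdicComplete (maximalIdeal R) R] : CAlg.IsGRing R := by
  refine ⟨inferInstance, fun p _ => ?_⟩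
  let A := Localization.AtPrime p
  let C := AdicCompletion (maximalIdeal A) A
  haveI : IsNoetherianRing A := IsLocalization.isNoetherianRing p.primeCompl _ inferInstance
  haveI : IsNoetherianRing C :=
    RegLoc.AdicNoeth.isNoetherianRing_adicCompletion _ (IsNoetherian.noetherian _)
  refine ⟨inferInstance, fun P' _ => ⟨?_, ?_⟩⟩
  · exact forall_isCohenMacaulayRing_fiber_iff.isNoetherianRing_fiber A P'
  intro K _ _ hfin
  -- the domain `D = R / (P' ∩ R)` and its localisation `A / P'`
  let P₀ : Ideal R := P'.comap (algebraMap R A)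
  haveI : P₀.IsPrime := Ideal.IsPrime.comap _
  have hP₀p : P₀ ≤ p := fun x hx => by
    have h1 : algebraMap R A x ∈ maximalIdeal A := le_maximalIdeal Ideal.IsPrime.ne_top' hx
    exact (IsLocalization.AtPrime.to_map_mem_maximal_iff A p x).1 h1
  have hP' : P₀.map (algebraMap R A) = P' := IsLocalization.map_comap p.primeCompl A P'
  let D := R ⧸ P₀
  haveI : IsLocalRing D := IsLocalRing.of_surjective' _ Ideal.Quotient.mk_surjective
  haveI : IsAdicComplete (maximalIdeal D) D := by
    have hc : IsAdicComplete (maximalIdeal R) D :=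
      Adic.isAdicComplete_of_finite (I := maximalIdeal R) (A := R) (M := D)
    have hmax : (maximalIdeal R).map (algebraMap R D) = maximalIdeal D :=
      IsLocalRing.eq_maximalIdeal (Ideal.IsMaximal.map_of_surjective_of_ker_le
        Ideal.Quotient.mk_surjective (by rw [Ideal.mk_ker]; exact le_maximalIdeal Ideal.IsPrime.ne_top'))
    rw [← hmax, IsAdicComplete.map_algebraMap_iff]
    exact hc
  let pb : Ideal D := p.map (Ideal.Quotient.mk P₀)
  haveI : pb.IsPrime :=
    Ideal.map_isPrime_of_surjective Ideal.Quotient.mk_surjective (by rw [Ideal.mk_ker]; exact hP₀p)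
  let L := A ⧸ P'
  letI : Algebra D L := (Ideal.quotientMap P' (algebraMap R A) le_rfl).toAlgebra
  haveI : IsScalarTower R D L := IsScalarTower.of_algebraMap_eq fun _ => rfl
  haveI : IsLocalRing L := IsLocalRing.of_surjective' _ Ideal.Quotient.mk_surjective
  haveI : IsLocalization.AtPrime L pb := by
    have hmap : p.primeCompl.map (Ideal.Quotient.mk P₀) = pb.primeCompl := by
      ext x
      constructor
      · rintro ⟨y, hy, rfl⟩ h
        exact hy ((SetLike.ext_iff.1 (EGA41Lib.NagataCrit.comap_map hP₀p) y).1 h)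
      · intro hx
        obtain ⟨y, rfl⟩ := Ideal.Quotient.mk_surjective x
        exact ⟨y, fun h => hx (Ideal.mem_map_of_mem _ h), rfl⟩
    show IsLocalization pb.primeCompl L
    rw [← hmap]
    exact IsLocalization.of_surjective p.primeCompl A (Ideal.Quotient.mk P₀) Ideal.Quotient.mk_surjective
      (Ideal.Quotient.mk P') Ideal.Quotient.mk_surjective rfl (by rw [Ideal.mk_ker, Ideal.mk_ker, hP'])
  let κ := P'.ResidueField
  letI : Algebra D κ := ((algebraMap L κ).comp (algebraMap D L)).toAlgebra
  haveI : IsScalarTower D L κ := IsScalarTower.of_algebraMap_eq fun _ => rfl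
  haveI : IsDomain L := inferInstanceAs (IsDomain (A ⧸ P'))
  haveI : IsFractionRing L κ := inferInstanceAs (IsFractionRing (A ⧸ P') P'.ResidueField)
  haveI : FaithfulSMul D κ := (faithfulSMul_iff_algebraMap_injective D κ).2
    ((IsFractionRing.injective L κ).comp
      (IsLocalization.injective L (Ideal.primeCompl_le_nonZeroDivisors pb)))
  haveI : IsFractionRing D κ := IsFractionRing.of_field D κ fun z => by
    obtain ⟨x, y, hy, rfl⟩ := IsFractionRing.div_surjective (A := L) z
    obtain ⟨a, s, rfl⟩ := IsLocalization.exists_mk'_eq pb.primeCompl x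
    obtain ⟨b, t, rfl⟩ := IsLocalization.exists_mk'_eq pb.primeCompl y
    refine ⟨a * t, b * s, ?_⟩
    have hu : ∀ u : pb.primeCompl, algebraMap L κ (algebraMap D L u) ≠ 0 := fun u =>
      ((IsLocalization.map_units L u).map (algebraMap L κ)).ne_zero
    rw [IsScalarTower.algebraMap_apply D L κ (a * t), IsScalarTower.algebraMap_apply D L κ (b * s),
      map_mul, map_mul, map_mul, map_mul, ← IsLocalization.mk'_spec L a s, ← IsLocalization.mk'_spec L b t,
      map_mul, map_mul]
    have hs := hu s
    have ht := hu t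
    rw [mul_right_comm (algebraMap L κ (IsLocalization.mk' L b t)), mul_div_mul_right _ _ ht,
      mul_div_mul_right _ _ hs]
  letI : Algebra D K := ((algebraMap κ K).comp (algebraMap D κ)).toAlgebra
  haveI : IsScalarTower D κ K := IsScalarTower.of_algebraMap_eq fun _ => rfl
  letI : Algebra L K := ((algebraMap κ K).comp (algebraMap L κ)).toAlgebra
  haveI : IsScalarTower L κ K := IsScalarTower.of_algebraMap_eq fun _ => rfl
  haveI : IsScalarTower D L K := IsScalarTower.of_algebraMap_eq fun _ => rfl
  haveI := hfin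
  haveI := isRegularRing_tensor_completion_of_complete D pb L κ K
  letI : Algebra A K := ((algebraMap κ K).comp (algebraMap A κ)).toAlgebra
  haveI : IsScalarTower A κ K := IsScalarTower.of_algebraMap_eq fun _ => rfl
  haveI : IsScalarTower A L K := IsScalarTower.of_algebraMap_eq fun _ => rfl
  -- `K ⊗[A] C = K ⊗[L] (L ⊗[A] C) = K ⊗[L] L^`
  obtain ⟨e⟩ := nonempty_adicCompletion_quotient (maximalIdeal A) L Ideal.Quotient.mk_surjective
    (maximalIdeal L) (by
      refine (IsLocalRing.eq_maximalIdeal (Ideal.IsMaximal.map_of_surjective_of_ker_le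
        Ideal.Quotient.mk_surjective ?_)).symm
      rw [Ideal.mk_ker]; exact le_maximalIdeal Ideal.IsPrime.ne_top')
  letI : CommRing (L ⊗[A] C) := Algebra.TensorProduct.instCommRing
  letI : CommRing (K ⊗[L] (L ⊗[A] C)) := @Algebra.TensorProduct.instCommRing L K (L ⊗[A] C) _ _ _ _ _
  haveI : IsRegularRing (K ⊗[L] (L ⊗[A] C)) :=
    IsRegularRing.of_ringEquiv (Algebra.TensorProduct.congr (AlgEquiv.refl (R := L) (A₁ := K)) e).toRingEquiv
  haveI : IsRegularRing (K ⊗[A] C) :=
    IsRegularRing.of_ringEquiv (Algebra.TensorProduct.cancelBaseChange A L L K C).toRingEquiv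
  exact IsRegularRing.of_ringEquiv
    (Algebra.TensorProduct.cancelBaseChange A κ κ K C).symm.toRingEquiv

end Groth.Agent.EGA4Lib.Jac
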