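import Groth.Prelude.Def_EGA4b
import Groth.Agent.EGA4Lib.JacGRingMain
import Groth.Agent.EGA4Lib.CompleteJ2
import Groth.Agent.GeomFieldLib.CMTensor
import Groth.Agent.Nagata.CohenLift
import Groth.Agent.EGA41Lib.Regular
import Groth.Agent.S0603

/-!
# Complete Noetherian local rings are excellent (EGA IV 7.8.3 (iii))
-/

set_option autoImplicit false
set_option linter.style.haveILetI false

open IsLocalRing

namespace Groth.Agent.EGA4Lib

universe u

theorem isUniversallyCatenary_of_surjective {P A : Type u} [CommRing P] [CommRing A] (f : P →+* A)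
    (hf : Function.Surjective f) (h : CAlg.IsUniversallyCatenary P) : CAlg.IsUniversallyCatenary A := by
  haveI := h.1
  refine ⟨isNoetherianRing_of_surjective P A f hf, fun S _ _ hS => ?_⟩
  letI : Algebra P A := f.toAlgebra
  letI : Algebra P S := ((algebraMap A S).comp f).toAlgebra
  haveI : IsScalarTower P A S := IsScalarTower.of_algebraMap_eq fun _ => rfl
  haveI : Algebra.FiniteType P A := Algebra.FiniteType.of_surjective (Algebra.ofId P A) hf
  exact h.2 S (Algebra.FiniteType.trans (R := P) (S := A) (A := S) inferInstance hS)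

theorem isExcellent_of_isAdicComplete (A : Type u) [CommRing A] [IsNoetherianRing A] [IsLocalRing A]
    [IsAdicComplete (maximalIdeal A) A] : EGA4.IsExcellent A := by
  refine ⟨inferInstance, ?_, Jac.isGRing_of_isAdicComplete A, isJ2_of_isAdicComplete A⟩
  obtain ⟨Λ, _, n, f, hΛ, hf⟩ := Nagata.CohenLift.exists_surjective A (IsNoetherian.noetherian _)
  haveI : IsRegularRing Λ := by
    rcases hΛ with hF | ⟨hdom, hdvr, -⟩
    · letI : Field Λ := hF.toField
      infer_instance
    · haveI := hdom
      haveI := hdvr
      exact RegLoc.Homological.isRegularRing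
  haveI := EGA41Lib.isRegularRing_mvPowerSeries.{u} Λ n
  haveI := GeomFieldLib.isCohenMacaulayRing_of_isRegularRing (MvPowerSeries (Fin n) Λ)
  exact isUniversallyCatenary_of_surjective f hf (Groth.Agent.S0603.result _)

end Groth.Agent.EGA4Lib
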