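import Groth.Agent.EGA4Lib.FibresProperty
import Groth.Agent.EGA4Lib.FibreBC
import Groth.Agent.EGA4Lib.HomToLocal
import Groth.Agent.GeomFieldLib.NormalRing
import Groth.Agent.GeomFieldLib.CMTensor
import Groth.Agent.RelDim.CMFibre
import Groth.Agent.S2659
import Groth.Agent.S2661

/-!
# Reduced, normal and Cohen–Macaulay rings lift (EGA IV 7.5)
-/

set_option autoImplicit false
set_option linter.style.haveILetI false

open IsLocalRing TensorProduct

namespace Groth.Agent.EGA4Lib

universe u

theorem exists_localization_equiv_of_le {R : Type u} [CommRing R] (p Q : Ideal R) [p.IsPrime] [Q.IsPrime]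
    (h : p ≤ Q) : ∃ (q : Ideal (Localization.AtPrime Q)) (_ : q.IsPrime),
      Nonempty (Localization.AtPrime q ≃+* Localization.AtPrime p) := by
  have hdisj : Disjoint (Q.primeCompl : Set R) (p : Set R) := Set.disjoint_left.2 fun x hx hxp => hx (h hxp)
  let q := p.map (algebraMap R (Localization.AtPrime Q))
  haveI : q.IsPrime := IsLocalization.isPrime_of_isPrime_disjoint _ _ p inferInstance hdisj
  have hqp : q.comap (algebraMap R (Localization.AtPrime Q)) = p :=
    IsLocalization.under_map_of_isPrime_disjoint _ _ inferInstance hdisj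
  haveI : IsLocalization.AtPrime (Localization.AtPrime q) p := by
    have := IsLocalization.isLocalization_isLocalization_atPrime_isLocalization
      Q.primeCompl (Localization.AtPrime q) q
    convert this
    exact hqp.symm
  exact ⟨q, inferInstance,
    ⟨(IsLocalization.algEquiv p.primeCompl (Localization.AtPrime q) (Localization.AtPrime p)).toRingEquiv⟩⟩

theorem liftingProperty_isReduced : LiftingProperty (fun R _ => IsReduced R) where
  iso e h := haveI := h; isReduced_of_injective e.symm e.symm.injective
  loc R' _ _ _ M _ h := by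
    exact isReduced_localizationPreserves M _ h
  of_loc R _ _ h := isReduced_ofLocalizationMaximal R fun Q _ => h Q
  step C _ _ _ _ t ht htreg h := by
    haveI := h
    refine ⟨fun x hx => ?_⟩
    have key : ∀ k : ℕ, ∃ y, IsNilpotent y ∧ x = t ^ k * y := by
      intro k
      induction k with
      | zero => exact ⟨x, hx, by rw [pow_zero, one_mul]⟩
      | succ k ih =>
        obtain ⟨y, hy, rfl⟩ := ih
        have h0 : Ideal.Quotient.mk (Ideal.span {t}) y = 0 := (hy.map _).eq_zero
        obtain ⟨z, rfl⟩ := Ideal.mem_span_singleton'.1 (Ideal.Quotient.eq_zero_iff_mem.1 h0)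
        obtain ⟨m, hm⟩ := hy
        refine ⟨z, ⟨m, ?_⟩, by ring⟩
        rw [mul_pow] at hm
        exact (mul_right_mem_nonZeroDivisors_eq_zero_iff (pow_mem htreg m)).1 hm
    have : x ∈ ⨅ k : ℕ, (maximalIdeal C) ^ k := by
      rw [Submodule.mem_iInf]
      intro k
      obtain ⟨y, -, rfl⟩ := key k
      exact Ideal.mul_mem_right _ _ (Ideal.pow_mem_pow ht k)
    rwa [Ideal.iInf_pow_eq_bot_of_isLocalRing _ (maximalIdeal.isMaximal C).ne_top, Ideal.mem_bot] at this

theorem isDomain_isIntegrallyClosed_of_isNormalRing {D : Type u} [CommRing D] [IsLocalRing D]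
    (h : EGA4.IsNormalRing D) : IsDomain D ∧ IsIntegrallyClosed D := by
  haveI hself : IsLocalization.AtPrime D (maximalIdeal D) :=
    IsLocalization.self fun x hx => notMem_maximalIdeal.1 hx
  let e := (IsLocalization.algEquiv (maximalIdeal D).primeCompl (Localization.AtPrime (maximalIdeal D)) D).toRingEquiv
  haveI := (h (maximalIdeal D)).1
  haveI := (h (maximalIdeal D)).2
  exact ⟨e.symm.toMulEquiv.isDomain _, IsIntegrallyClosed.of_equiv e⟩

theorem liftingProperty_isNormalRing : LiftingProperty (fun R _ => EGA4.IsNormalRing R) where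
  iso e h := isNormalRing_of_ringEquiv e h
  loc R' _ _ _ M _ h := isNormalRing_of_isLocalization M h
  of_loc R _ _ h := by
    intro p _
    obtain ⟨Q, hQ, hpQ⟩ := Ideal.exists_le_maximal p Ideal.IsPrime.ne_top'
    haveI := hQ
    obtain ⟨q, hq, ⟨e⟩⟩ := exists_localization_equiv_of_le p Q hpQ
    haveI := hq
    haveI := (h Q q).1
    haveI := (h Q q).2
    exact ⟨e.symm.toMulEquiv.isDomain _, IsIntegrallyClosed.of_equiv e⟩
  step C _ _ _ hcat t ht htreg h := by
    haveI : Nontrivial (C ⧸ Ideal.span {t}) := Ideal.Quotient.nontrivial_iff.mpr fun htop =>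
      (maximalIdeal.isMaximal C).ne_top (top_le_iff.mp (htop ▸ (Ideal.span_singleton_le_iff_mem _).mpr ht))
    haveI : IsLocalRing (C ⧸ Ideal.span {t}) :=
      IsLocalRing.of_surjective' (Ideal.Quotient.mk (Ideal.span {t})) Ideal.Quotient.mk_surjective
    obtain ⟨hd, hi⟩ := isDomain_isIntegrallyClosed_of_isNormalRing h
    haveI := hd
    haveI := hi
    obtain ⟨hdC, hiC⟩ := Groth.Agent.S2661.result C hcat t ht htreg
    haveI := hdC
    haveI := hiC
    exact GeomFieldLib.isNormalRing_of_isDomain C

theorem liftingProperty_isCohenMacaulayRing :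
    LiftingProperty (fun R _ => LocCoh.IsCohenMacaulayRing R) where
  iso e h := GeomFieldLib.isCohenMacaulayRing_of_ringEquiv e h
  loc {R} R' _ _ _ M _ h := by
    haveI := h
    haveI : IsNoetherianRing R' := IsLocalization.isNoetherianRing M R' inferInstance
    refine ⟨fun q _ => ?_⟩
    haveI : IsLocalization.AtPrime (Localization.AtPrime q) (q.comap (algebraMap R R')) :=
      IsLocalization.isLocalization_isLocalization_atPrime_isLocalization (M := M) (Localization.AtPrime q) q
    haveI := h.isCohenMacaulayLocalRing_localization (q.comap (algebraMap R R'))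
    exact RelDim.isCohenMacaulayLocalRing_ringEquiv
      (IsLocalization.algEquiv (q.comap (algebraMap R R')).primeCompl
        (Localization.AtPrime (q.comap (algebraMap R R'))) (Localization.AtPrime q)).toRingEquiv
  of_loc R _ _ h := by
    refine ⟨fun p _ => ?_⟩
    obtain ⟨Q, hQ, hpQ⟩ := Ideal.exists_le_maximal p Ideal.IsPrime.ne_top'
    haveI := hQ
    obtain ⟨q, hq, ⟨e⟩⟩ := exists_localization_equiv_of_le p Q hpQ
    haveI := hq
    haveI := (h Q).isCohenMacaulayLocalRing_localization q
    exact RelDim.isCohenMacaulayLocalRing_ringEquiv e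
  step C _ _ _ hcat t ht htreg h := by
    refine GeomFieldLib.isCohenMacaulayRing_of_forall_hasSk fun k => ?_
    rcases Nat.eq_zero_or_pos k with rfl | hk
    · intro p _
      refine (min_le_left _ _).trans ?_
      exact WithBot.coe_le_coe.mpr zero_le
    · exact Groth.Agent.S2659.result k hk C hcat t ht htreg (GeomFieldLib.hasSk_of_isCohenMacaulayRing h k)

/-- The hypothesis on the closed fibre, over finite `A`-fields. -/
theorem property_closed_of_fiber {P : ∀ (R : Type u) [CommRing R], Prop} (hP : LiftingProperty P)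
    (A B : Type u) [CommRing A] [CommRing B] [IsLocalRing A] [Algebra A B]
    (h : ∀ (K : Type u) [Field K] [Algebra (maximalIdeal A).ResidueField K],
      Module.Finite (maximalIdeal A).ResidueField K →
        P (K ⊗[(maximalIdeal A).ResidueField] (maximalIdeal A).Fiber B))
    (K : Type u) [Field K] [Algebra A K] (hK : Module.Finite A K) : P (K ⊗[A] B) := by
  haveI := hK
  haveI : Algebra.IsIntegral A K := Algebra.IsIntegral.of_finite A K
  have hker : RingHom.ker (algebraMap A K) = maximalIdeal A := by
    rw [RingHom.ker_eq_comap_bot]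
    exact eq_maximalIdeal (Ideal.isMaximal_comap_of_isIntegral_of_isMaximal _)
  let κ := (maximalIdeal A).ResidueField
  let r : (A ⧸ maximalIdeal A) ≃+* κ := RingEquiv.ofBijective (algebraMap (A ⧸ maximalIdeal A) κ)
    (Ideal.bijective_algebraMap_quotient_residueField _)
  have hkill : ∀ a ∈ maximalIdeal A, algebraMap A K a = 0 := fun a ha => by
    rwa [← RingHom.mem_ker, hker]
  letI : Algebra κ K := ((Ideal.Quotient.lift (maximalIdeal A) (algebraMap A K) hkill).comp
    r.symm.toRingHom).toAlgebra
  haveI : IsScalarTower A κ K := IsScalarTower.of_algebraMap_eq fun a => by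
    show _ = Ideal.Quotient.lift (maximalIdeal A) (algebraMap A K) hkill (r.symm (algebraMap A κ a))
    have : r.symm (algebraMap A κ a) = Ideal.Quotient.mk _ a := by
      rw [RingEquiv.symm_apply_eq]; rfl
    rw [this, Ideal.Quotient.lift_mk]
  exact hP.iso (Algebra.TensorProduct.cancelBaseChange A κ K K B).toRingEquiv
    (h K (Module.Finite.of_restrictScalars_finite A κ K))

end Groth.Agent.EGA4Lib
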