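import Groth.Prelude.Def_EGA4b
import Mathlib.RingTheory.Localization.LocalizationLocalization
import Mathlib.RingTheory.Ideal.MinimalPrime.Noetherian
import Mathlib.RingTheory.KrullDimension.Basic

/-!
# `(R_k)` at a prime in terms of generizations, openness
-/

set_option autoImplicit false
set_option linter.style.haveILetI false

namespace Groth.Agent.EGA4Lib

universe u

variable {A : Type u} [CommRing A]

theorem isRegularLocalRing_congr {p q : PrimeSpectrum A} (h : p = q) :
    IsRegularLocalRing (Localization.AtPrime p.asIdeal) ↔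
      IsRegularLocalRing (Localization.AtPrime q.asIdeal) := by subst h; rfl

theorem hasRkAt_iff (n : ℕ) (p : Ideal A) [p.IsPrime] :
    EGA4.HasRkAt n A p ↔ ∀ q : PrimeSpectrum A, q.asIdeal ≤ p → q.asIdeal.height ≤ n →
      q ∈ EGA4.regLocus A := by
  let e := IsLocalization.AtPrime.primeSpectrumOrderIso (Localization.AtPrime p) p
  constructor
  · intro h q hqp hq
    let Q := e.symm ⟨q, hqp⟩
    have hQ : PrimeSpectrum.comap (algebraMap A (Localization.AtPrime p)) Q = q :=
      congrArg Subtype.val (e.apply_symm_apply ⟨q, hqp⟩)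
    have hh : Q.asIdeal.height ≤ n := by
      rw [← IsLocalization.height_under p.primeCompl]
      show (PrimeSpectrum.comap (algebraMap A (Localization.AtPrime p)) Q).asIdeal.height ≤ n
      rw [hQ]; exact hq
    haveI := h Q.asIdeal hh
    exact (isRegularLocalRing_congr hQ).1 (IsRegularLocalRing.of_ringEquiv
      (IsLocalization.localizationLocalizationAtPrimeIsoLocalization p.primeCompl Q.asIdeal).symm.toRingEquiv)
  · intro h Q _ hQ
    have hle : Q.comap (algebraMap A (Localization.AtPrime p)) ≤ p :=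
      (e ⟨Q, inferInstance⟩).2
    haveI : IsRegularLocalRing (Localization.AtPrime (Q.comap (algebraMap A (Localization.AtPrime p)))) :=
      h ⟨Q.comap (algebraMap A (Localization.AtPrime p)), inferInstance⟩ hle (by
        show (Q.under A).height ≤ n
        rw [IsLocalization.height_under p.primeCompl]; exact hQ)
    exact IsRegularLocalRing.of_ringEquiv
      (IsLocalization.localizationLocalizationAtPrimeIsoLocalization p.primeCompl Q).toRingEquiv

theorem isOpen_hasRkAt_of_finite (n : ℕ) (T : Set (PrimeSpectrum A)) (hT : T.Finite)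
    (hsing : ∀ q ∈ T, q.asIdeal.height ≤ n ∧ q ∉ EGA4.regLocus A)
    (hcover : ∀ q : PrimeSpectrum A, q.asIdeal.height ≤ n → q ∉ EGA4.regLocus A →
      ∃ t ∈ T, t.asIdeal ≤ q.asIdeal) :
    IsOpen {p : PrimeSpectrum A | EGA4.HasRkAt n A p.asIdeal} := by
  have heq : {p : PrimeSpectrum A | EGA4.HasRkAt n A p.asIdeal} =
      (⋃ t ∈ T, PrimeSpectrum.zeroLocus (t.asIdeal : Set A))ᶜ := by
    ext p
    simp only [Set.mem_setOf_eq, Set.mem_compl_iff, Set.mem_iUnion, PrimeSpectrum.mem_zeroLocus,
      SetLike.coe_subset_coe, not_exists]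
    rw [hasRkAt_iff]
    constructor
    · intro h t ht htp
      exact (hsing t ht).2 (h t htp (hsing t ht).1)
    · intro h q hqp hq
      by_contra hns
      obtain ⟨t, ht, htq⟩ := hcover q hq hns
      exact h t ht (htq.trans hqp)
  rw [heq]
  exact (hT.isClosed_biUnion fun t _ => PrimeSpectrum.isClosed_zeroLocus _).isOpen_compl

theorem isOpen_hasRkAt_of_isOpen_regLocus [IsNoetherianRing A] (h : IsOpen (EGA4.regLocus A)) (n : ℕ) :
    IsOpen {p : PrimeSpectrum A | EGA4.HasRkAt n A p.asIdeal} := by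
  obtain ⟨J, hJ⟩ := (PrimeSpectrum.isClosed_iff_zeroLocus_ideal _).1 h.isClosed_compl
  refine isOpen_hasRkAt_of_finite n
    {t | t.asIdeal ∈ J.minimalPrimes ∧ t.asIdeal.height ≤ n} ?_ ?_ ?_
  · exact ((Ideal.finite_minimalPrimes_of_isNoetherianRing A J).preimage
      ((fun a _ b _ hab => PrimeSpectrum.ext hab) : Set.InjOn PrimeSpectrum.asIdeal _)).subset
      fun t ht => ht.1
  · intro t ht
    refine ⟨ht.2, fun hr => ?_⟩
    have : t ∈ PrimeSpectrum.zeroLocus (J : Set A) := ht.1.1.2
    rw [← hJ] at this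
    exact this hr
  · intro q hq hns
    have hq' : q ∈ (EGA4.regLocus A)ᶜ := hns
    rw [hJ] at hq'
    obtain ⟨t, ht, htq⟩ := Ideal.exists_minimalPrimes_le (show J ≤ q.asIdeal from hq')
    exact ⟨⟨t, ht.1.1⟩, ⟨ht, (Ideal.height_mono htq).trans hq⟩, htq⟩

theorem isOpen_hasRkAt_zero [IsNoetherianRing A] :
    IsOpen {p : PrimeSpectrum A | EGA4.HasRkAt 0 A p.asIdeal} := by
  refine isOpen_hasRkAt_of_finite 0 {t | t.asIdeal ∈ minimalPrimes A ∧ t ∉ EGA4.regLocus A} ?_ ?_ ?_
  · exact ((minimalPrimes.finite_of_isNoetherianRing A).preimage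
      ((fun a _ b _ hab => PrimeSpectrum.ext hab) : Set.InjOn PrimeSpectrum.asIdeal _)).subset
      fun t ht => ht.1
  · exact fun t ht => ⟨le_of_eq (Ideal.height_eq_zero_iff.2 ht.1), ht.2⟩
  · intro q hq hns
    exact ⟨q, ⟨Ideal.height_eq_zero_iff.1 (le_antisymm (by simpa using hq) bot_le), hns⟩, le_rfl⟩

end Groth.Agent.EGA4Lib
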