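import Groth.Prelude.Def_EGA4b
import Groth.Agent.EGA4Lib.GRingPoly
import Groth.Agent.PtTop.Catenary
import Groth.Agent.EGA4Lib.Rk

/-!
# Localisations of excellent rings (EGA IV 7.8.3 (ii))
-/

set_option autoImplicit false
set_option linter.style.haveILetI false

open IsLocalRing

namespace Groth.Agent.EGA4Lib

universe u

variable {A : Type u} [CommRing A] (M : Submonoid A) (B : Type u) [CommRing B] [Algebra A B] [IsLocalization M B]

include M in
theorem exists_finiteType_isLocalization (S : Type u) [CommRing S] [Algebra B S] [Algebra A S]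
    [IsScalarTower A B S] (hS : Algebra.FiniteType B S) :
    ∃ S₀ : Subalgebra A S, Algebra.FiniteType A S₀ ∧ IsLocalization (Algebra.algebraMapSubmonoid S₀ M) S := by
  classical
  obtain ⟨s, hs⟩ := hS.out
  let S₀ := Algebra.adjoin A (s : Set S)
  have hft : Algebra.FiniteType A S₀ :=
    (Subalgebra.fg_iff_finiteType _).mp (Subalgebra.fg_adjoin_finset s)
  have hu : ∀ t : M, IsUnit (algebraMap A S t) := fun t => by
    rw [IsScalarTower.algebraMap_apply A B S]
    exact (IsLocalization.map_units _ t).map _
  refine ⟨S₀, hft, (isLocalization_iff _ _).mpr ⟨?_, fun z => ?_, fun {x y} hxy => ⟨1, ?_⟩⟩⟩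
  · rintro ⟨_, t, ht, rfl⟩
    exact hu ⟨t, ht⟩
  · have hz : z ∈ Algebra.adjoin B (s : Set S) := hs ▸ Algebra.mem_top
    obtain ⟨t, ht⟩ : ∃ t : M, algebraMap A S t * z ∈ S₀ := by
      induction hz using Algebra.adjoin_induction with
      | mem x hx => exact ⟨1, by simpa using Algebra.subset_adjoin hx⟩
      | algebraMap a =>
        obtain ⟨r, t, rfl⟩ := IsLocalization.exists_mk'_eq M a
        refine ⟨t, ?_⟩
        rw [IsScalarTower.algebraMap_apply A B S, ← map_mul,
          mul_comm, IsLocalization.mk'_spec, ← IsScalarTower.algebraMap_apply]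
        exact S₀.algebraMap_mem r
      | add a b _ _ ha hb =>
        obtain ⟨t, ht⟩ := ha
        obtain ⟨t', ht'⟩ := hb
        refine ⟨t * t', ?_⟩
        rw [Submonoid.coe_mul, map_mul, show algebraMap A S t * algebraMap A S t' * (a + b) =
          algebraMap A S t' * (algebraMap A S t * a) + algebraMap A S t * (algebraMap A S t' * b) by ring]
        exact add_mem (mul_mem (S₀.algebraMap_mem _) ht) (mul_mem (S₀.algebraMap_mem _) ht')
      | mul a b _ _ ha hb =>
        obtain ⟨t, ht⟩ := ha
        obtain ⟨t', ht'⟩ := hb
        refine ⟨t * t', ?_⟩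
        rw [Submonoid.coe_mul, map_mul, show algebraMap A S t * algebraMap A S t' * (a * b) =
          (algebraMap A S t * a) * (algebraMap A S t' * b) by ring]
        exact mul_mem ht ht'
    exact ⟨(⟨_, ht⟩, ⟨algebraMap A S₀ t, ⟨t, t.2, rfl⟩⟩), mul_comm z _⟩
  · simpa using Subtype.ext hxy

include M in
theorem isGRing_of_isLocalization (hA : CAlg.IsGRing A) : CAlg.IsGRing B := by
  haveI := hA.1
  refine ⟨IsLocalization.isNoetherianRing M B inferInstance, fun q hq => ?_⟩
  haveI : IsLocalization.AtPrime (Localization.AtPrime q) (q.comap (algebraMap A B)) :=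
    IsLocalization.isLocalization_isLocalization_atPrime_isLocalization (M := M) (Localization.AtPrime q) q
  haveI : IsNoetherianRing (Localization.AtPrime (q.comap (algebraMap A B))) :=
    IsLocalization.isNoetherianRing (q.comap (algebraMap A B)).primeCompl _ inferInstance
  haveI : IsNoetherianRing (Localization.AtPrime q) :=
    IsLocalization.isNoetherianRing (q.comap (algebraMap A B)).primeCompl _ inferInstance
  exact Jac.isRegularHom_completion_of_ringEquiv
    (IsLocalization.algEquiv (q.comap (algebraMap A B)).primeCompl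
      (Localization.AtPrime (q.comap (algebraMap A B))) (Localization.AtPrime q)).toRingEquiv
    (hA.2 (q.comap (algebraMap A B)))

include M in
theorem isOpen_regLocus_of_isLocalization (h : IsOpen (EGA4.regLocus A)) : IsOpen (EGA4.regLocus B) := by
  have heq : EGA4.regLocus B = PrimeSpectrum.comap (algebraMap A B) ⁻¹' EGA4.regLocus A := by
    ext q
    haveI := q.isPrime
    haveI : IsLocalization.AtPrime (Localization.AtPrime q.asIdeal) (q.asIdeal.comap (algebraMap A B)) :=
      IsLocalization.isLocalization_isLocalization_atPrime_isLocalization (M := M)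
        (Localization.AtPrime q.asIdeal) q.asIdeal
    let e := (IsLocalization.algEquiv (q.asIdeal.comap (algebraMap A B)).primeCompl
      (Localization.AtPrime (q.asIdeal.comap (algebraMap A B))) (Localization.AtPrime q.asIdeal)).toRingEquiv
    refine ⟨fun hq => ?_, fun hq => ?_⟩
    · haveI : IsRegularLocalRing (Localization.AtPrime q.asIdeal) := hq
      exact IsRegularLocalRing.of_ringEquiv (R := Localization.AtPrime q.asIdeal) e.symm
    · haveI : IsRegularLocalRing (Localization.AtPrime (q.asIdeal.comap (algebraMap A B))) := hq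
      exact IsRegularLocalRing.of_ringEquiv
        (R := Localization.AtPrime (q.asIdeal.comap (algebraMap A B))) e
  rw [heq]
  exact h.preimage (PrimeSpectrum.continuous_comap _)

include M in
theorem isExcellent_of_isLocalization (hA : EGA4.IsExcellent A) : EGA4.IsExcellent B := by
  obtain ⟨hN, hC, hG, hJ⟩ := hA
  haveI := hN
  haveI : IsNoetherianRing B := IsLocalization.isNoetherianRing M B inferInstance
  refine ⟨inferInstance, ⟨inferInstance, fun S _ _ hS => ?_⟩, isGRing_of_isLocalization M B hG,
    fun S _ _ hS => ?_⟩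
  · letI := ((algebraMap B S).comp (algebraMap A B)).toAlgebra
    haveI : IsScalarTower A B S := IsScalarTower.of_algebraMap_eq' rfl
    obtain ⟨S₀, h1, h2⟩ := exists_finiteType_isLocalization M B S hS
    exact PtTop.Catenary.isCatenary_of_isLocalization (Algebra.algebraMapSubmonoid S₀ M) S (hC.2 S₀ h1)
  · letI := ((algebraMap B S).comp (algebraMap A B)).toAlgebra
    haveI : IsScalarTower A B S := IsScalarTower.of_algebraMap_eq' rfl
    obtain ⟨S₀, h1, h2⟩ := exists_finiteType_isLocalization M B S hS
    exact isOpen_regLocus_of_isLocalization (Algebra.algebraMapSubmonoid S₀ M) S (hJ S₀ h1)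

end Groth.Agent.EGA4Lib
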