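import Groth.Agent.EGA4Lib.FibresProperty
import Groth.Agent.EGA4Lib.ExcellentLoc
import Groth.Agent.EGA4Lib.JacGRingMain
import Groth.Agent.EGA4Lib.CplFlat
import Groth.Agent.S0600
import Mathlib.RingTheory.EssentialFiniteness

/-!
# Formal fibres of essentially finite type local algebras (EGA IV 7.4.4)
-/

set_option autoImplicit false
set_option linter.style.haveILetI false

open IsLocalRing TensorProduct

namespace Groth.Agent.EGA4Lib

universe u

/-- A flat local cover of `B` with regular formal fibres whose fibres come from those of `A → Â`. -/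
theorem exists_local_cover (A B : Type u) [CommRing A] [CommRing B] [IsLocalRing A] [IsLocalRing B]
    [IsNoetherianRing A] [IsNoetherianRing B] [Algebra A B] [Algebra.EssFiniteType A B] :
    ∃ (C : Type u) (_ : CommRing C) (_ : IsLocalRing C) (_ : IsNoetherianRing C) (_ : Algebra B C)
      (_ : IsLocalHom (algebraMap B C)), Module.Flat B C ∧ CAlg.IsRegularHom C (EGA4.Cpl C) ∧
      ∀ (P : ∀ (R : Type u) [CommRing R], Prop), LiftingProperty P →
        ∀ (K : Type u) [Field K] [Algebra B K] [Algebra A K] [IsScalarTower A B K],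
          P (K ⊗[A] EGA4.Cpl A) → P (K ⊗[B] C) := by
  let Ah := EGA4.Cpl A
  haveI : IsNoetherianRing Ah := RegLoc.Completion.isNoetherianRing_adicCompletion' _
  haveI : IsAdicComplete (maximalIdeal Ah) Ah :=
    inferInstanceAs (IsAdicComplete (maximalIdeal (AdicCompletion (maximalIdeal A) A))
      (AdicCompletion (maximalIdeal A) A))
  haveI : Module.FaithfullyFlat A Ah :=
    Module.FaithfullyFlat.of_flat_of_isLocalHom (A := A) (B := AdicCompletion (maximalIdeal A) A)
  let T' := Ah ⊗[A] B
  have hT' : CAlg.IsGRing T' :=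
    isGRing_of_isLocalization (Algebra.EssFiniteType.submonoid Ah T') T'
      (Jac.isGRing_of_finiteType (Jac.isGRing_of_isAdicComplete Ah) (Algebra.EssFiniteType.subalgebra Ah T'))
  let T := B ⊗[A] Ah
  have hT : CAlg.IsGRing T := Jac.isGRing_of_ringEquiv (Algebra.TensorProduct.comm A Ah B).toRingEquiv hT'
  haveI : IsNoetherianRing T := hT.1
  obtain ⟨Q, hQ⟩ := PrimeSpectrum.comap_surjective_of_faithfullyFlat (A := B) (B := T)
    ⟨maximalIdeal B, inferInstance⟩
  haveI := Q.isPrime
  let C := Localization.AtPrime Q.asIdeal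
  haveI : IsNoetherianRing C := IsLocalization.isNoetherianRing Q.asIdeal.primeCompl C inferInstance
  haveI : Module.Flat T C := IsLocalization.flat C Q.asIdeal.primeCompl
  haveI : Module.Flat B C := Module.Flat.trans B T C
  haveI hloc : IsLocalHom (algebraMap B C) := by
    refine ((IsLocalRing.local_hom_TFAE _).out 2 0).1 ?_
    rw [Ideal.map_le_iff_le_comap, IsScalarTower.algebraMap_eq B T C, ← Ideal.comap_comap,
      show (maximalIdeal C).comap (algebraMap T C) = Q.asIdeal from Localization.AtPrime.comap_maximalIdeal]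
    exact le_of_eq (congrArg PrimeSpectrum.asIdeal hQ).symm
  refine ⟨C, inferInstance, inferInstance, inferInstance, inferInstance, hloc, inferInstance,
    Groth.Agent.S0600.result C (isGRing_of_isLocalization Q.asIdeal.primeCompl C hT) (maximalIdeal C),
    fun P hP K _ _ _ _ h => ?_⟩
  exact property_tensor_localization hP B K T C Q.asIdeal.primeCompl
    (hP.iso (Algebra.TensorProduct.cancelBaseChange A B K K Ah).symm.toRingEquiv h)

end Groth.Agent.EGA4Lib
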