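import Groth.Agent.EGA4Lib.FormallyEquidim
import Groth.Agent.EGA4Lib.CplFlat
import Mathlib.RingTheory.RegularLocalRing.Polynomial
import Mathlib.RingTheory.EssentialFiniteness
import Mathlib.RingTheory.TensorProduct.MvPolynomial

/-!
# Formally equidimensional is inherited by local domains essentially of finite type (EGA IV 7.1.11, 7.1.12)
-/

set_option autoImplicit false
set_option linter.style.haveILetI false

open IsLocalRing TensorProduct

namespace Groth.Agent.EGA4Lib

universe u

attribute [local instance] MvPolynomial.algebraMvPolynomial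

/-- Localisations of catenary equidimensional local rings are equidimensional. -/
theorem isEquidim_localization {R : Type u} [CommRing R] [IsLocalRing R] [IsNoetherianRing R]
    (hcat : CAlg.IsCatenary R) (heq : EGA4.IsEquidim R) (M : Ideal R) [M.IsPrime] :
    EGA4.IsEquidim (Localization.AtPrime M) := by
  let L := Localization.AtPrime M
  intro P hP
  haveI := hP.1.1
  refine le_antisymm (ringKrullDim_quotient_le P) ?_
  let p := P.comap (algebraMap R L)
  haveI hpp : p.IsPrime := hP.1.1.comap _
  have hpM : p ≤ M := by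
    refine (Ideal.comap_mono (le_maximalIdeal hP.1.1.ne_top)).trans ?_
    exact le_of_eq Localization.AtPrime.comap_maximalIdeal
  -- a saturated chain from `p` to `M`
  obtain ⟨n, hn⟩ := hcat.1 ⟨p, hpp⟩ ⟨M, inferInstance⟩ hpM
  let T : Set ℕ := {m | ∃ r : LTSeries (PrimeSpectrum R), r.head = ⟨p, hpp⟩ ∧
    r.last = ⟨M, inferInstance⟩ ∧ r.length = m}
  have hT : T.Nonempty := by
    rcases eq_or_lt_of_le (show (⟨p, hpp⟩ : PrimeSpectrum R) ≤ ⟨M, inferInstance⟩ from hpM) with h' | h'
    · exact ⟨_, RelSeries.singleton _ ⟨p, hpp⟩, rfl, h', rfl⟩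
    · exact ⟨_, (RelSeries.singleton _ _).snoc ⟨M, inferInstance⟩ h', rfl, RelSeries.last_snoc _ _ _, rfl⟩
  have hbdd : BddAbove T := ⟨n, fun m ⟨r, h1, h2, h3⟩ => h3 ▸ hn r h1 h2⟩
  obtain ⟨s, hs1, hs2, hs3⟩ := Nat.sSup_mem hT hbdd
  have hss : PtTop.Catenary.Saturated s := PtTop.Catenary.saturated_of_longest s fun u h1 h2 =>
    hs3 ▸ le_csSup hbdd ⟨u, h1.trans hs1, h2.trans hs2, rfl⟩
  obtain ⟨c, hc1, hc2, hc3⟩ := exists_saturated_from hcat (⟨M, inferInstance⟩ : PrimeSpectrum R)
  have hpmin : p ∈ minimalPrimes R := by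
    refine ⟨⟨hpp, bot_le⟩, fun r hr hrp => ?_⟩
    haveI := hr.1
    have hdisj : Disjoint (M.primeCompl : Set R) (r : Set R) :=
      Set.disjoint_left.2 fun x hx hxr => hx (hpM (hrp hxr))
    haveI : (r.map (algebraMap R L)).IsPrime :=
      IsLocalization.isPrime_of_isPrime_disjoint M.primeCompl _ r inferInstance hdisj
    have hle : P ≤ r.map (algebraMap R L) :=
      hP.2 ⟨inferInstance, bot_le⟩ (Ideal.map_le_iff_le_comap.2 hrp)
    refine (Ideal.comap_mono hle).trans ?_
    exact le_of_eq (IsLocalization.under_map_of_isPrime_disjoint M.primeCompl L inferInstance hdisj)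
  have e1 := length_eq_ringKrullDim hcat heq (s.smash c (hs2.trans hc1.symm))
    (saturated_smash s c _ hss hc3) (by simpa [hs1] using hpmin) (by simpa using hc2)
  have e2 : (c.length : WithBot ℕ∞) = ringKrullDim (R ⧸ M) := by
    rw [ringKrullDim_quotient_eq_length hcat c hc3 hc2, hc1]
  have e3 := height_add_ringKrullDim_quotient hcat heq M
  rw [IsLocalization.AtPrime.ringKrullDim_eq_height M L]
  obtain ⟨a, ha⟩ := exists_nat_height M
  rw [← e1, ← e2, ha] at e3
  have hlen : a + c.length = s.length + c.length := by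
    have h4 : ((a + c.length : ℕ) : WithBot ℕ∞) = ((s.length + c.length : ℕ) : WithBot ℕ∞) := by
      push_cast
      simpa [RelSeries.smash] using e3
    exact_mod_cast h4
  rw [ha, show a = s.length by omega, ringKrullDim_quotient]
  have hmem : ∀ i, p ≤ (s i).asIdeal ∧ (s i).asIdeal ≤ M := fun i =>
    ⟨(congrArg PrimeSpectrum.asIdeal hs1).ge.trans (s.monotone (Fin.zero_le i)),
      le_trans (s.monotone (Fin.le_last i) : s i ≤ s.last) (congrArg PrimeSpectrum.asIdeal hs2).le⟩
  have hdisj : ∀ i, Disjoint (M.primeCompl : Set R) ((s i).asIdeal : Set R) := fun i =>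
    Set.disjoint_left.2 fun x hx hxr => hx ((hmem i).2 hxr)
  have hcm : ∀ i, ((s i).asIdeal.map (algebraMap R L)).comap (algebraMap R L) = (s i).asIdeal := fun i =>
    IsLocalization.under_map_of_isPrime_disjoint M.primeCompl _ (s i).isPrime (hdisj i)
  let t : LTSeries (PrimeSpectrum.zeroLocus (P : Set L)) := LTSeries.mk s.length
    (fun i => ⟨⟨(s i).asIdeal.map (algebraMap R L),
      IsLocalization.isPrime_of_isPrime_disjoint M.primeCompl _ _ (s i).isPrime (hdisj i)⟩, by
        show P ≤ (s i).asIdeal.map (algebraMap R L)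
        rw [← IsLocalization.map_comap M.primeCompl L P]
        exact Ideal.map_mono (hmem i).1⟩)
    fun i j hij => by
      refine lt_of_le_of_ne (Ideal.map_mono (s.strictMono hij).le) fun h => (s.strictMono hij).ne ?_
      have h' := congrArg (fun x : PrimeSpectrum.zeroLocus (P : Set L) => x.1.asIdeal.comap (algebraMap R L)) h
      simp only at h'
      exact PrimeSpectrum.ext ((hcm i).symm.trans (h'.trans (hcm j)))
  exact Order.LTSeries.length_le_krullDim t

theorem exists_cm_surjective_polynomial (A : Type u) [CommRing A] [IsLocalRing A] [IsNoetherianRing A]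
    [IsAdicComplete (maximalIdeal A) A] (m : ℕ) (N : Ideal (MvPolynomial (Fin m) A)) [N.IsPrime] :
    EGA4.IsFormallyCatenary (Localization.AtPrime N) := by
  obtain ⟨Λ, _, n, f, hΛ, hf⟩ := Nagata.CohenLift.exists_surjective A (IsNoetherian.noetherian _)
  haveI : IsRegularRing Λ := by
    rcases hΛ with hF | ⟨hdom, hdvr, -⟩
    · letI : Field Λ := hF.toField
      infer_instance
    · haveI := hdom
      haveI := hdvr
      exact RegLoc.Homological.isRegularRing
  haveI := EGA41Lib.isRegularRing_mvPowerSeries.{u} Λ n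
  let R0 := MvPolynomial (Fin m) (MvPowerSeries (Fin n) Λ)
  let g : R0 →+* MvPolynomial (Fin m) A := MvPolynomial.map f
  have hg : Function.Surjective g := MvPolynomial.map_surjective f hf
  haveI : (N.comap g).IsPrime := inferInstance
  haveI : IsRegularRing R0 := inferInstance
  haveI : IsRegularLocalRing (Localization.AtPrime (N.comap g)) :=
    IsRegularRing.isRegularLocalRing_localization _
  haveI : LocCoh.IsCohenMacaulayLocalRing (Localization.AtPrime (N.comap g)) :=
    Depth.isCohenMacaulayLocalRing_of_isRegularLocalRing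
  refine isFormallyCatenary_of_surjective (A := Localization.AtPrime (N.comap g)) (B := Localization.AtPrime N)
    (Localization.localRingHom (N.comap g) N g rfl) (fun z => ?_)
    (isFormallyCatenary_of_formallyEquidim (isFormallyEquidim_of_cm _))
  obtain ⟨x, ⟨y, hy⟩, rfl⟩ := IsLocalization.exists_mk'_eq N.primeCompl z
  obtain ⟨x, rfl⟩ := hg x
  obtain ⟨y, rfl⟩ := hg y
  exact ⟨IsLocalization.mk' _ x (⟨y, hy⟩ : (N.comap g).primeCompl), Localization.localRingHom_mk' _ _ _ _ _ _⟩

theorem exists_presentation (D B : Type u) [CommRing D] [CommRing B] [IsLocalRing B] [Algebra D B]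
    [Algebra.EssFiniteType D B] :
    ∃ (m : ℕ) (n0 : Ideal (MvPolynomial (Fin m) D)) (_ : n0.IsPrime)
      (f : Localization.AtPrime n0 →+* B), Function.Surjective f := by
  let S0 := Algebra.EssFiniteType.subalgebra D B
  obtain ⟨m, ψ0, hψ0⟩ := Algebra.FiniteType.iff_quotient_mvPolynomial''.1
    (inferInstance : Algebra.FiniteType D S0)
  let ψ : MvPolynomial (Fin m) D →+* B := (S0.val.comp ψ0).toRingHom
  let n0 := (maximalIdeal B).comap ψ
  have hunit : ∀ y : n0.primeCompl, IsUnit (ψ y) := fun y => notMem_maximalIdeal.1 y.2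
  refine ⟨m, n0, inferInstance, IsLocalization.lift (M := n0.primeCompl) hunit, fun b => ?_⟩
  obtain ⟨s, ⟨t, ht⟩, rfl⟩ := IsLocalization.exists_mk'_eq (Algebra.EssFiniteType.submonoid D B) b
  obtain ⟨x, rfl⟩ := hψ0 s
  obtain ⟨y, rfl⟩ := hψ0 t
  refine ⟨IsLocalization.mk' _ x (⟨y, notMem_maximalIdeal.2 ht⟩ : n0.primeCompl), ?_⟩
  rw [IsLocalization.lift_mk'_spec]
  exact (IsLocalization.mk'_spec' B (ψ0 x) (⟨ψ0 y, ht⟩ : Algebra.EssFiniteType.submonoid D B)).symm

theorem isPrime_map_algebraMap_mvPolynomial (A : Type u) [CommRing A] (m : ℕ) (p : Ideal A) [p.IsPrime] :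
    (p.map (algebraMap A (MvPolynomial (Fin m) A))).IsPrime := by
  rw [MvPolynomial.algebraMap_eq, ← Ideal.Quotient.isDomain_iff_prime]
  exact (MvPolynomial.quotientEquivQuotientMvPolynomial p).symm.toRingEquiv.toMulEquiv.isDomain

/-- The localisation of `D̂[X]` is equidimensional. -/
theorem isEquidim_localization_polynomial (A : Type u) [CommRing A] [IsLocalRing A] [IsNoetherianRing A]
    (hcat : CAlg.IsCatenary A) (heq : EGA4.IsEquidim A) (m : ℕ) (N : Ideal (MvPolynomial (Fin m) A))
    [N.IsPrime] : EGA4.IsEquidim (Localization.AtPrime N) := by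
  let T := MvPolynomial (Fin m) A
  let S := Localization.AtPrime N
  let M0 := N.comap (algebraMap A T)
  let E := Localization.AtPrime M0
  letI : Algebra E S := (Localization.localRingHom M0 N (algebraMap A T) rfl).toAlgebra
  haveI : IsLocalHom (algebraMap E S) := Localization.isLocalHom_localRingHom _ _ _ rfl
  haveI : IsScalarTower A E S := IsScalarTower.of_algebraMap_eq fun x => by
    rw [RingHom.algebraMap_toAlgebra, Localization.localRingHom_to_map,
      IsScalarTower.algebraMap_apply A T S]
  haveI : Module.Flat E S := RingHom.flat_algebraMap_iff.1 (RingHom.Flat.localRingHom (f := algebraMap A T)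
    (RingHom.flat_algebraMap_iff.2 inferInstance) N _ rfl)
  haveI : IsNoetherianRing E := IsLocalization.isNoetherianRing M0.primeCompl E inferInstance
  haveI : IsNoetherianRing S := IsLocalization.isNoetherianRing N.primeCompl S inferInstance
  intro P hP
  haveI := hP.1.1
  let P' := P.comap (algebraMap T S)
  let P0 := P'.comap (algebraMap A T)
  have hP'N : P' ≤ N := (Ideal.comap_mono (le_maximalIdeal hP.1.1.ne_top)).trans
    (le_of_eq Localization.AtPrime.comap_maximalIdeal)
  have hP0M : P0 ≤ M0 := Ideal.comap_mono hP'N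
  haveI : (P0.map (algebraMap A T)).IsPrime := isPrime_map_algebraMap_mvPolynomial A m P0
  have hdisjT : Disjoint (N.primeCompl : Set T) (P0.map (algebraMap A T) : Set T) :=
    Set.disjoint_left.2 fun x hx hxP => hx (hP'N (Ideal.map_le_iff_le_comap.2 le_rfl hxP))
  haveI : ((P0.map (algebraMap A T)).map (algebraMap T S)).IsPrime :=
    IsLocalization.isPrime_of_isPrime_disjoint N.primeCompl _ _ inferInstance hdisjT
  have hPeq : P = (P0.map (algebraMap A T)).map (algebraMap T S) := by
    have hle : (P0.map (algebraMap A T)).map (algebraMap T S) ≤ P :=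
      Ideal.map_le_iff_le_comap.2 (Ideal.map_le_iff_le_comap.2 le_rfl)
    exact le_antisymm (hP.2 ⟨inferInstance, bot_le⟩ hle) hle
  have hdisjA : Disjoint (M0.primeCompl : Set A) (P0 : Set A) :=
    Set.disjoint_left.2 fun x hx hxP => hx (hP0M hxP)
  haveI : (P0.map (algebraMap A E)).IsPrime :=
    IsLocalization.isPrime_of_isPrime_disjoint M0.primeCompl _ _ inferInstance hdisjA
  have hPE : P = (P0.map (algebraMap A E)).map (algebraMap E S) := by
    rw [hPeq, Ideal.map_map, Ideal.map_map, ← IsScalarTower.algebraMap_eq, ← IsScalarTower.algebraMap_eq]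
  have hmin : P0.map (algebraMap A E) ∈ minimalPrimes E := by
    refine ⟨⟨inferInstance, bot_le⟩, fun r hr hrP => ?_⟩
    haveI := hr.1
    let r0 := r.comap (algebraMap A E)
    have hr0 : r0 ≤ P0 := by
      refine (Ideal.comap_mono hrP).trans ?_
      exact le_of_eq (IsLocalization.under_map_of_isPrime_disjoint M0.primeCompl E inferInstance hdisjA)
    haveI : (r0.map (algebraMap A T)).IsPrime := isPrime_map_algebraMap_mvPolynomial A m r0
    have hdisjR : Disjoint (N.primeCompl : Set T) (r0.map (algebraMap A T) : Set T) :=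
      Set.disjoint_left.2 fun x hx hxP =>
        hx (hP'N (Ideal.map_le_iff_le_comap.2 hr0 hxP))
    haveI : ((r0.map (algebraMap A T)).map (algebraMap T S)).IsPrime :=
      IsLocalization.isPrime_of_isPrime_disjoint N.primeCompl _ _ inferInstance hdisjR
    have h1 : P ≤ (r0.map (algebraMap A T)).map (algebraMap T S) :=
      hP.2 ⟨inferInstance, bot_le⟩ (hPeq ▸ Ideal.map_mono (Ideal.map_mono hr0))
    have h2 : P' ≤ r0.map (algebraMap A T) := (Ideal.comap_mono (f := algebraMap T S) h1).trans
      (le_of_eq (IsLocalization.under_map_of_isPrime_disjoint N.primeCompl S inferInstance hdisjR))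
    have h3 : P0 ≤ r0 := by
      refine (Ideal.comap_mono (f := algebraMap A T) h2).trans ?_
      rw [MvPolynomial.algebraMap_eq]
      intro x hx
      have h5 := MvPolynomial.mem_map_C_iff.1 (Ideal.mem_comap.1 hx) 0
      rwa [MvPolynomial.coeff_C, if_pos rfl] at h5
    rw [← IsLocalization.map_comap M0.primeCompl E r]
    exact Ideal.map_mono h3
  rw [hPE, ringKrullDim_quotient_map _ (Ideal.IsPrime.ne_top inferInstance),
    isEquidim_localization hcat heq M0 _ hmin, Dim.ringKrullDim_eq_add_fibre E S]

/-- Descent of formally equidimensional to a quotient along a flat cover with formally catenary source. -/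
theorem isFormallyEquidim_quotient_of_flat {A B : Type u} [CommRing A] [CommRing B] [IsLocalRing A]
    [IsLocalRing B] [IsNoetherianRing A] [IsNoetherianRing B] [Algebra A B] [IsLocalHom (algebraMap A B)]
    [Module.Flat A B] (hcat : CAlg.IsCatenary B) (heq : EGA4.IsEquidim B)
    (hB : EGA4.IsFormallyCatenary B) (I : Ideal A) [I.IsPrime] : EGA4.IsFormallyEquidim (A ⧸ I) := by
  let J := I.map (algebraMap A B)
  haveI : Nontrivial (B ⧸ J) := Ideal.Quotient.nontrivial_iff.2 (map_ne_top_of_ne_top I Ideal.IsPrime.ne_top')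
  haveI : IsLocalRing (B ⧸ J) := IsLocalRing.of_surjective' _ Ideal.Quotient.mk_surjective
  have hc := isFormallyCatenary_of_surjective (Ideal.Quotient.mk J) Ideal.Quotient.mk_surjective hB
  have hfC : EGA4.IsFormallyEquidim (B ⧸ J) :=
    isFormallyEquidim_iff_minimalPrimes.2 ⟨isEquidim_quotient_map hcat heq I, fun p _ _ => hc p⟩
  haveI : IsLocalRing (A ⧸ I) := IsLocalRing.of_surjective' _ Ideal.Quotient.mk_surjective
  letI := CycLib.quotAlgebra (C := B) I
  haveI := CycLib.flat_quotAlgebra (C := B) I
  haveI : IsLocalHom (algebraMap (A ⧸ I) (B ⧸ J)) := by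
    refine ⟨fun z hz => ?_⟩
    obtain ⟨a, rfl⟩ := Ideal.Quotient.mk_surjective z
    have h1 : IsUnit (Ideal.Quotient.mk J (algebraMap A B a)) := hz
    haveI : IsLocalHom (Ideal.Quotient.mk J) := IsLocalHom.of_surjective _ Ideal.Quotient.mk_surjective
    exact (isUnit_of_map_unit _ _ (isUnit_of_map_unit _ _ h1)).map _
  obtain ⟨_, _, _⟩ := exists_algebra_cpl (A ⧸ I) (B ⧸ J)
  haveI : IsNoetherianRing (AdicCompletion (maximalIdeal (A ⧸ I)) (A ⧸ I)) :=
    RegLoc.Completion.isNoetherianRing_adicCompletion' _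
  haveI : IsNoetherianRing (AdicCompletion (maximalIdeal (B ⧸ J)) (B ⧸ J)) :=
    RegLoc.Completion.isNoetherianRing_adicCompletion' _
  haveI := flat_cpl (A ⧸ I) (B ⧸ J)
  exact (isEquidim_and_isCatenary_of_flat (B := AdicCompletion (maximalIdeal (B ⧸ J)) (B ⧸ J))
    (isCatenary_cpl (B ⧸ J)) hfC).1

/-- EGA IV 7.1.11: local domains essentially of finite type over a formally equidimensional ring. -/
theorem isFormallyEquidim_of_essFiniteType (D B : Type u) [CommRing D] [CommRing B] [IsLocalRing D]
    [IsNoetherianRing D] [IsLocalRing B] [IsNoetherianRing B] [IsDomain B] [Algebra D B]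
    [Algebra.EssFiniteType D B] (hD : EGA4.IsFormallyEquidim D) : EGA4.IsFormallyEquidim B := by
  obtain ⟨m, n0, hn0, f, hf⟩ := exists_presentation D B
  haveI := hn0
  let Dh := AdicCompletion (maximalIdeal D) D
  haveI : IsNoetherianRing Dh := RegLoc.Completion.isNoetherianRing_adicCompletion' _
  haveI : Module.FaithfullyFlat D Dh := Module.FaithfullyFlat.of_flat_of_isLocalHom
  let P := MvPolynomial (Fin m) D
  let T := MvPolynomial (Fin m) Dh
  haveI : Algebra.IsPushout D P Dh T := Algebra.IsPushout.symm inferInstance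
  let eT : P ⊗[D] Dh ≃ₐ[P] T := Algebra.IsPushout.equiv D P Dh T
  haveI : Module.FaithfullyFlat P T := Module.FaithfullyFlat.of_linearEquiv (R := P) (M := P ⊗[D] Dh) eT.symm.toLinearEquiv
  obtain ⟨Q, hQ⟩ := PrimeSpectrum.comap_surjective_of_faithfullyFlat (A := P) (B := T) ⟨n0, hn0⟩
  have hQc : Q.asIdeal.comap (algebraMap P T) = n0 := congrArg PrimeSpectrum.asIdeal hQ
  obtain ⟨N, hN, -⟩ := Ideal.exists_minimalPrimes_le
    (Ideal.map_le_iff_le_comap.2 hQc.ge : n0.map (algebraMap P T) ≤ Q.asIdeal)
  haveI := hN.1.1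
  have hNc : N.comap (algebraMap P T) = n0 := comap_eq_of_mem_minimalPrimes_map n0 hN
  have hNh : N.height = n0.height := height_eq_of_mem_minimalPrimes_map n0 hN
  subst hNc
  let R := Localization.AtPrime (N.comap (algebraMap P T))
  let S := Localization.AtPrime N
  letI : Algebra R S := (Localization.localRingHom _ N (algebraMap P T) rfl).toAlgebra
  haveI : IsLocalHom (algebraMap R S) := Localization.isLocalHom_localRingHom _ _ _ rfl
  haveI : Module.Flat R S := RingHom.flat_algebraMap_iff.1 (RingHom.Flat.localRingHom (f := algebraMap P T)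
    (RingHom.flat_algebraMap_iff.2 inferInstance) N _ rfl)
  haveI : IsNoetherianRing R := IsLocalization.isNoetherianRing (N.comap (algebraMap P T)).primeCompl R inferInstance
  haveI : IsNoetherianRing S := IsLocalization.isNoetherianRing N.primeCompl S inferInstance
  have hcatS : CAlg.IsCatenary S := PtTop.Catenary.isCatenary_of_isLocalization N.primeCompl S
    ((isExcellent_of_isAdicComplete Dh).2.1.2 T inferInstance)
  have heqS : EGA4.IsEquidim S := isEquidim_localization_polynomial Dh (isCatenary_cpl D) hD m N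
  let I := RingHom.ker f
  haveI : I.IsPrime := RingHom.ker_isPrime f
  refine isFormallyEquidim_of_ringEquiv (R := R ⧸ I) (RingHom.quotientKerEquivOfSurjective hf) ?_
  exact isFormallyEquidim_quotient_of_flat (A := R) (B := S) hcatS heqS
    (exists_cm_surjective_polynomial Dh m N) I

/-- EGA IV 7.1.11 (i). -/
theorem isFormallyEquidim_of_isFormallyCatenary (A B : Type u) [CommRing A] [CommRing B] [IsLocalRing A]
    [IsNoetherianRing A] [IsLocalRing B] [IsNoetherianRing B] [IsDomain B] [Algebra A B]
    [Algebra.EssFiniteType A B] (hA : EGA4.IsFormallyCatenary A) : EGA4.IsFormallyEquidim B := by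
  let p0 := RingHom.ker (algebraMap A B)
  haveI : p0.IsPrime := RingHom.ker_isPrime _
  letI : Algebra (A ⧸ p0) B := (RingHom.kerLift (algebraMap A B)).toAlgebra
  haveI : IsScalarTower A (A ⧸ p0) B := IsScalarTower.of_algebraMap_eq fun _ => rfl
  haveI : IsLocalRing (A ⧸ p0) := IsLocalRing.of_surjective' _ Ideal.Quotient.mk_surjective
  haveI : Algebra.EssFiniteType (A ⧸ p0) B := Algebra.EssFiniteType.of_comp A (A ⧸ p0) B
  exact isFormallyEquidim_of_essFiniteType (A ⧸ p0) B (hA p0)

end Groth.Agent.EGA4Lib
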