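import Groth.Agent.EGA4Lib.StrictlyCatenary
import Groth.Agent.EGA4Lib.FormallyEquidimEFT
import Groth.Agent.EGA4Lib.FormalFibresEFT
import Groth.Agent.EGA4Lib.FibresInstances
import Groth.Agent.EGA4Lib.SkFibers
import Groth.Agent.EGA4Lib.HomToLocal
import Groth.Agent.GeomFieldLib.CMTensor
import Groth.Agent.GeomFieldLib.Main
import Groth.Agent.RegLoc.SupportDim
import Groth.Agent.S2659

/-!
# Strictly formally catenary = formally catenary with `(S₁)` formal fibres (EGA IV 7.2)
-/

set_option autoImplicit false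
set_option linter.style.haveILetI false

open IsLocalRing TensorProduct

namespace Groth.Agent.EGA4Lib

universe u

theorem hasSk_of_isLocalization (n : ℕ) {R : Type u} (R' : Type u) [CommRing R] [CommRing R'] [Algebra R R']
    (M : Submonoid R) [IsLocalization M R'] (h : LocCoh.HasSk n R R) : LocCoh.HasSk n R' R' := by
  intro q _
  haveI : IsLocalization.AtPrime (Localization.AtPrime q) (q.comap (algebraMap R R')) :=
    IsLocalization.isLocalization_isLocalization_atPrime_isLocalization (M := M) (Localization.AtPrime q) q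
  obtain ⟨h1, h2⟩ := depth_supportDim_ringEquiv
    (IsLocalization.algEquiv (q.comap (algebraMap R R')).primeCompl
      (Localization.AtPrime (q.comap (algebraMap R R'))) (Localization.AtPrime q)).toRingEquiv
  obtain ⟨a1, a2⟩ := depth_supportDim_congr (L := Localization.AtPrime q)
    (Depth.localizedModuleSelfEquiv q.primeCompl)
  obtain ⟨b1, b2⟩ := depth_supportDim_congr (L := Localization.AtPrime (q.comap (algebraMap R R')))
    (Depth.localizedModuleSelfEquiv (q.comap (algebraMap R R')).primeCompl)
  have := h (q.comap (algebraMap R R'))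
  rw [b1, b2, h1, h2] at this
  rw [a1, a2]
  exact this

theorem liftingProperty_hasSk (n : ℕ) (hn : 1 ≤ n) : LiftingProperty (fun R _ => LocCoh.HasSk n R R) where
  iso e h := GeomFieldLib.hasSk_of_ringEquiv n e h
  loc R' _ _ _ M _ h := hasSk_of_isLocalization n R' M h
  of_loc R _ _ h := by
    intro p _
    obtain ⟨Q, hQ, hpQ⟩ := Ideal.exists_le_maximal p Ideal.IsPrime.ne_top'
    haveI := hQ
    obtain ⟨q, hq, ⟨e⟩⟩ := exists_localization_equiv_of_le p Q hpQ
    haveI := hq
    obtain ⟨h1, h2⟩ := depth_supportDim_ringEquiv e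
    obtain ⟨a1, a2⟩ := depth_supportDim_congr (L := Localization.AtPrime p)
      (Depth.localizedModuleSelfEquiv p.primeCompl)
    obtain ⟨b1, b2⟩ := depth_supportDim_congr (L := Localization.AtPrime q)
      (Depth.localizedModuleSelfEquiv q.primeCompl)
    have := h Q q
    rw [b1, b2, h1, h2] at this
    rw [a1, a2]
    exact this
  step C _ _ _ hcat t ht htreg h := Groth.Agent.S2659.result n hn C hcat t ht htreg h

/-- `(S_n)` formal fibres pass to essentially finite type algebras. -/
theorem hasSnFormalFibres_of_essFiniteType (n : ℕ) (hn : 1 ≤ n) (A B : Type u) [CommRing A] [CommRing B]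
    [IsNoetherianRing A] [IsLocalRing A] [IsNoetherianRing B] [IsLocalRing B] [Algebra A B]
    [Algebra.EssFiniteType A B] (hA : EGA4.HasSnFormalFibres n A) : EGA4.HasSnFormalFibres n B := by
  obtain ⟨C, _, _, _, _, _, hflat, hreg, hfib⟩ := exists_local_cover A B
  haveI := hflat
  obtain ⟨_, _, _⟩ := exists_algebra_cpl B C
  haveI : IsNoetherianRing (EGA4.Cpl A) := RegLoc.Completion.isNoetherianRing_adicCompletion' _
  haveI : IsNoetherianRing (EGA4.Cpl B) := RegLoc.Completion.isNoetherianRing_adicCompletion' _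
  haveI : IsNoetherianRing (EGA4.Cpl C) := RegLoc.Completion.isNoetherianRing_adicCompletion' _
  haveI : Module.Flat (EGA4.Cpl B) (EGA4.Cpl C) := flat_cpl B C
  haveI : Module.FaithfullyFlat (EGA4.Cpl B) (EGA4.Cpl C) := Module.FaithfullyFlat.of_flat_of_isLocalHom
  haveI : Module.Flat C (EGA4.Cpl C) := hreg.1
  have hBC : ∀ (q : Ideal B) [q.IsPrime], LocCoh.HasSk n (q.Fiber C) (q.Fiber C) := by
    intro q _
    let p := q.comap (algebraMap A B)
    letI := residueAlgebra (A := A) q
    haveI := residueAlgebra_isScalarTower (A := A) q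
    haveI : IsScalarTower A B q.ResidueField := inferInstance
    haveI : Algebra.EssFiniteType A q.ResidueField := Algebra.EssFiniteType.comp A B q.ResidueField
    haveI : Algebra.EssFiniteType p.ResidueField q.ResidueField :=
      Algebra.EssFiniteType.of_comp A p.ResidueField q.ResidueField
    haveI : IsNoetherianRing (p.Fiber (EGA4.Cpl A)) :=
      forall_isCohenMacaulayRing_fiber_iff.isNoetherianRing_fiber A p
    exact hfib (fun R _ => LocCoh.HasSk n R R) (liftingProperty_hasSk n hn) q.ResidueField
      (GeomFieldLib.hasSk_of_ringEquiv n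
        (Algebra.TensorProduct.cancelBaseChange A p.ResidueField q.ResidueField q.ResidueField
          (EGA4.Cpl A)).toRingEquiv
        (GeomFieldLib.hasSk_tensor_fg n p.ResidueField q.ResidueField _ (hA p)))
  refine hasSk_fiber_of_comp B (EGA4.Cpl B) (C := EGA4.Cpl C) n
    (hasSk_fiber_comp B C n hBC fun r _ => ?_)
  haveI := isRegularRing_of_isGeometricallyRegular _ _ (hreg.2 r).2
  exact GeomFieldLib.hasSk_of_isCohenMacaulayRing (GeomFieldLib.isCohenMacaulayRing_of_isRegularRing _) n

/-- Formal fibres of a quotient are formal fibres. -/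
theorem nonempty_formalFibre_equiv (A B : Type u) [CommRing A] [IsLocalRing A] [IsNoetherianRing A]
    [CommRing B] [IsLocalRing B] [Algebra A B]
    (hB : Function.Surjective (algebraMap A B)) (p : Ideal B) [p.IsPrime] :
    Nonempty ((p.comap (algebraMap A B)).Fiber (AdicCompletion (maximalIdeal A) A) ≃+*
      p.Fiber (AdicCompletion (maximalIdeal B) B)) := by
  haveI : Module.Finite A B := Module.Finite.of_surjective (Algebra.linearMap A B) hB
  obtain ⟨e⟩ := nonempty_adicCompletion_finite (maximalIdeal A) B (maximalIdeal B)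
    (IsLocalRing.map_maximalIdeal_of_surjective (algebraMap A B) hB).symm
  letI := residueAlgebra (A := A) p
  obtain ⟨f⟩ := nonempty_fiber_baseChange e p
  obtain ⟨g⟩ := nonempty_ringEquiv_of_surjective (p.comap (algebraMap A B)).ResidueField p.ResidueField
    ((p.comap (algebraMap A B)).Fiber (AdicCompletion (maximalIdeal A) A))
    (residue_surjective (isQuotLike_of_surjective hB) p)
  exact ⟨g.trans f.symm.toRingEquiv⟩

variable {D : Type u} [CommRing D] [IsDomain D] [IsLocalRing D] [IsNoetherianRing D]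

theorem comap_eq_bot_of_mem_associatedPrimes {Q : Ideal (AdicCompletion (maximalIdeal D) D)}
    (hQ : Q ∈ associatedPrimes (AdicCompletion (maximalIdeal D) D) (AdicCompletion (maximalIdeal D) D)) :
    Q.comap (algebraMap D (AdicCompletion (maximalIdeal D) D)) = ⊥ := by
  let T := AdicCompletion (maximalIdeal D) D
  haveI : IsNoetherianRing T := RegLoc.Completion.isNoetherianRing_adicCompletion' _
  refine (Submodule.eq_bot_iff _).2 fun x hx => ?_
  by_contra hx0
  have hreg : IsSMulRegular T x :=
    Module.Flat.isSMulRegular_of_nonZeroDivisors (mem_nonZeroDivisors_of_ne_zero hx0)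
  have hreg' : IsSMulRegular T (algebraMap D T x) := fun a b hab => hreg (by
    simpa [Algebra.smul_def] using hab)
  have : algebraMap D T x ∈ {r : T | IsSMulRegular T r}ᶜ := by
    rw [← biUnion_associatedPrimes_eq_compl_regular]
    exact Set.mem_biUnion hQ hx
  exact this hreg'

/-- `(S₁)` at the generic formal fibre: no embedded primes in the completion. -/
theorem mem_minimalPrimes_of_hasSk_one (h : EGA4.HasSnFormalFibres 1 D)
    {Q : Ideal (AdicCompletion (maximalIdeal D) D)}
    (hQ : Q ∈ associatedPrimes (AdicCompletion (maximalIdeal D) D) (AdicCompletion (maximalIdeal D) D)) :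
    Q ∈ minimalPrimes (AdicCompletion (maximalIdeal D) D) := by
  let T := AdicCompletion (maximalIdeal D) D
  haveI : IsNoetherianRing T := RegLoc.Completion.isNoetherianRing_adicCompletion' _
  haveI : Q.IsPrime := IsAssociatedPrime.isPrime hQ
  have hs := (forall_hasSk_fiber_iff D (B := T) 1).1 (fun p _ => h p) Q
  have heq : ((Q.comap (algebraMap D T)).map (algebraMap D (Localization.AtPrime Q))) •
      (⊤ : Submodule (Localization.AtPrime Q) (LocalizedModule Q.primeCompl T)) = ⊥ := by
    rw [comap_eq_bot_of_mem_associatedPrimes hQ, Ideal.map_bot, Submodule.bot_smul]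
  obtain ⟨h1, h2⟩ := depth_supportDim_congr (L := Localization.AtPrime Q)
    (Submodule.quotEquivOfEqBot _ heq : stalkFib D Q T ≃ₗ[Localization.AtPrime Q] LocalizedModule Q.primeCompl T)
  rw [h1, h2, RegLoc.SupportDim.depth_localized_eq_zero_iff.mpr hQ] at hs
  have hann : Module.annihilator T T ≤ Q := by
    rw [Module.annihilator_eq_bot.2 inferInstance]; exact bot_le
  have h0 : Module.supportDim (Localization.AtPrime Q) (LocalizedModule Q.primeCompl T) ≤ 0 := by
    rcases min_le_iff.1 hs with h' | h'
    · exact absurd h' (by norm_num)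
    · exact_mod_cast h'
  have := (RegLoc.SupportDim.supportDim_localized_le_zero_iff hann).1 h0
  rwa [Module.annihilator_eq_bot.2 inferInstance] at this

theorem stalkFib_ineq_of_comap_eq_bot (n : ℕ) (D : Type u) {T : Type u} [CommRing D] [CommRing T] [Algebra D T]
    (hS : LocCoh.HasSk n T T) (r : Ideal T) [r.IsPrime] (hr : r.comap (algebraMap D T) = ⊥) :
    min (n : WithBot ℕ∞) (Module.supportDim (Localization.AtPrime r) (stalkFib D r T)) ≤
      ((LocCoh.depth (Localization.AtPrime r) (stalkFib D r T) : ℕ∞) : WithBot ℕ∞) := by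
  have heq : ((r.comap (algebraMap D T)).map (algebraMap D (Localization.AtPrime r))) •
      (⊤ : Submodule (Localization.AtPrime r) (LocalizedModule r.primeCompl T)) = ⊥ := by
    rw [hr, Ideal.map_bot, Submodule.bot_smul]
  obtain ⟨h1, h2⟩ := depth_supportDim_congr (L := Localization.AtPrime r)
    (Submodule.quotEquivOfEqBot _ heq : stalkFib D r T ≃ₗ[Localization.AtPrime r] LocalizedModule r.primeCompl T)
  rw [h1, h2]
  exact hS r

/-- The generic fibre of a domain is a localisation. -/
theorem hasSk_generic_fiber (n : ℕ) (D T : Type u) [CommRing D] [IsDomain D] [CommRing T] [Algebra D T]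
    (hS : LocCoh.HasSk n T T) :
    LocCoh.HasSk n ((⊥ : Ideal D).Fiber T) ((⊥ : Ideal D).Fiber T) := by
  intro Q _
  obtain ⟨a1, a2⟩ := depth_supportDim_congr (L := Localization.AtPrime Q)
    (Depth.localizedModuleSelfEquiv Q.primeCompl)
  obtain ⟨b1, b2⟩ := depth_supportDim_fiber D (⊥ : Ideal D) Q
  rw [a1, a2, b1, b2]
  refine stalkFib_ineq_of_comap_eq_bot n D hS _ ?_
  refine (Submodule.eq_bot_iff _).2 fun a ha => ?_
  by_contra ha0
  refine Ideal.IsPrime.ne_top ‹Q.IsPrime› (Ideal.eq_top_of_isUnit_mem _ ha ?_)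
  rw [AlgHom.commutes, IsScalarTower.algebraMap_apply D (⊥ : Ideal D).ResidueField ((⊥ : Ideal D).Fiber T)]
  exact (Ne.isUnit fun h0 => ha0 ((Submodule.mem_bot D).1 (Ideal.algebraMap_residueField_eq_zero.1 h0))).map _

/-- No embedded primes in the completion: `(S₁)` at the generic formal fibre. -/
theorem hasSk_one_generic (h : ∀ Q ∈ associatedPrimes (AdicCompletion (maximalIdeal D) D)
      (AdicCompletion (maximalIdeal D) D), Q ∈ minimalPrimes (AdicCompletion (maximalIdeal D) D)) :
    LocCoh.HasSk 1 ((⊥ : Ideal D).Fiber (AdicCompletion (maximalIdeal D) D))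
      ((⊥ : Ideal D).Fiber (AdicCompletion (maximalIdeal D) D)) := by
  haveI : IsNoetherianRing (AdicCompletion (maximalIdeal D) D) :=
    RegLoc.Completion.isNoetherianRing_adicCompletion' _
  refine hasSk_generic_fiber 1 D _ (RegLoc.SupportDim.hasSk_one_iff.2 fun P hP => ?_)
  rw [Module.annihilator_eq_bot.2 inferInstance]
  exact h P hP

omit [IsDomain D] in
theorem mem_minimalPrimes_of_dim_eq {T : Type u} [CommRing T] [IsNoetherianRing T] [IsLocalRing T]
    {Q : Ideal T} [hQ : Q.IsPrime] (hdim : ringKrullDim (T ⧸ Q) = ringKrullDim T) : Q ∈ minimalPrimes T := by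
  obtain ⟨P, hP, hPQ⟩ := Ideal.exists_minimalPrimes_le (bot_le : (⊥ : Ideal T) ≤ Q)
  rcases eq_or_lt_of_le hPQ with rfl | hlt
  · exact hP
  exfalso
  haveI := hP.1.1
  obtain ⟨x, hxQ, hxP⟩ := SetLike.exists_of_lt hlt
  have hnzd : Ideal.Quotient.mk P x ∈ nonZeroDivisors (T ⧸ P) :=
    mem_nonZeroDivisors_iff_ne_zero.2 fun h => hxP (Ideal.Quotient.eq_zero_iff_mem.1 h)
  have h1 : ringKrullDim (T ⧸ Q) ≤ ringKrullDim ((T ⧸ P) ⧸ Ideal.span {Ideal.Quotient.mk P x}) := by
    refine ringKrullDim_le_of_surjective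
      (Ideal.Quotient.lift _ (Ideal.Quotient.factor hlt.le) fun y hy => ?_)
      (Ideal.Quotient.lift_surjective_of_surjective _ _ (Ideal.Quotient.factor_surjective hlt.le))
    obtain ⟨c, rfl⟩ := Ideal.mem_span_singleton'.1 hy
    rw [map_mul, Ideal.Quotient.factor_mk, Ideal.Quotient.eq_zero_iff_mem.2 hxQ, mul_zero]
  have h2 := ((add_le_add h1 le_rfl).trans (ringKrullDim_quotient_succ_le_of_nonZeroDivisor hnzd)).trans
    (ringKrullDim_le_of_surjective _ Ideal.Quotient.mk_surjective)
  obtain ⟨n, hn⟩ := exists_nat_ringKrullDim_quotient Q hQ.ne_top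
  rw [← hdim, hn] at h2
  have h3 : n + 1 ≤ n := by exact_mod_cast h2
  omega

/-- EGA IV 7.2.?: strictly formally catenary iff formally catenary with `(S₁)` formal fibres. -/
theorem isFormallyStrictlyCatenary_iff (A : Type u) [CommRing A] [IsLocalRing A] [IsNoetherianRing A] :
    EGA4.IsFormallyStrictlyCatenary A ↔ EGA4.IsFormallyCatenary A ∧ EGA4.HasSnFormalFibres 1 A := by
  constructor
  · intro h
    refine ⟨fun p _ P hP => ?_, fun p _ => ?_⟩
    · haveI : IsLocalRing (A ⧸ p) := IsLocalRing.of_surjective' _ Ideal.Quotient.mk_surjective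
      haveI : IsNoetherianRing (AdicCompletion (maximalIdeal (A ⧸ p)) (A ⧸ p)) :=
        RegLoc.Completion.isNoetherianRing_adicCompletion' _
      refine h p P (Module.associatedPrimes.minimalPrimes_annihilator_subset_associatedPrimes _ _ ?_)
      rw [Module.annihilator_eq_bot.2 inferInstance]
      exact hP
    · haveI : IsLocalRing (A ⧸ p) := IsLocalRing.of_surjective' _ Ideal.Quotient.mk_surjective
      obtain ⟨e⟩ := nonempty_formalFibre_equiv A (A ⧸ p) Ideal.Quotient.mk_surjective (⊥ : Ideal (A ⧸ p))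
      haveI : IsNoetherianRing (AdicCompletion (maximalIdeal (A ⧸ p)) (A ⧸ p)) :=
        RegLoc.Completion.isNoetherianRing_adicCompletion' _
      have h1 := GeomFieldLib.hasSk_of_ringEquiv 1 e.symm (hasSk_one_generic (D := A ⧸ p) fun Q hQ =>
        haveI := IsAssociatedPrime.isPrime hQ
        mem_minimalPrimes_of_dim_eq (h p Q hQ))
      have key : ∀ (p' : Ideal A) [p'.IsPrime], p' = p →
          LocCoh.HasSk 1 (p'.Fiber (AdicCompletion (maximalIdeal A) A)) (p'.Fiber (AdicCompletion (maximalIdeal A) A)) →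
          LocCoh.HasSk 1 (p.Fiber (AdicCompletion (maximalIdeal A) A)) (p.Fiber (AdicCompletion (maximalIdeal A) A)) := by
        intro p' _ hp'
        subst hp'
        exact id
      refine key _ ?_ h1
      show (⊥ : Ideal (A ⧸ p)).comap (Ideal.Quotient.mk p) = p
      rw [← RingHom.ker_eq_comap_bot, Ideal.mk_ker]
  · rintro ⟨hfc, hS⟩ p _ Q hQ
    haveI : IsLocalRing (A ⧸ p) := IsLocalRing.of_surjective' _ Ideal.Quotient.mk_surjective
    refine hfc p Q (mem_minimalPrimes_of_hasSk_one (D := A ⧸ p) (fun q _ => ?_) hQ)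
    obtain ⟨e⟩ := nonempty_formalFibre_equiv A (A ⧸ p) Ideal.Quotient.mk_surjective q
    exact GeomFieldLib.hasSk_of_ringEquiv 1 e (hS (q.comap (algebraMap A (A ⧸ p))))

/-- EGA IV 7.2.?: strictly formally catenary passes to essentially finite type algebras. -/
theorem isFormallyStrictlyCatenary_of_essFiniteType (A B : Type u) [CommRing A] [CommRing B]
    [IsNoetherianRing A] [IsLocalRing A] [IsNoetherianRing B] [IsLocalRing B] [Algebra A B]
    [Algebra.EssFiniteType A B] (hA : EGA4.IsFormallyStrictlyCatenary A) :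
    EGA4.IsFormallyStrictlyCatenary B := by
  rw [isFormallyStrictlyCatenary_iff] at hA ⊢
  refine ⟨fun P _ => ?_, hasSnFormalFibres_of_essFiniteType 1 le_rfl A B hA.2⟩
  haveI : IsLocalRing (B ⧸ P) := IsLocalRing.of_surjective' _ Ideal.Quotient.mk_surjective
  haveI : Algebra.EssFiniteType A (B ⧸ P) := Algebra.EssFiniteType.comp A B (B ⧸ P)
  exact isFormallyEquidim_of_isFormallyCatenary A (B ⧸ P) hA.1

end Groth.Agent.EGA4Lib
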