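import Groth.Agent.EGA4Lib.DerKernel
import Groth.Agent.FieldSep.MacLane

/-!
# Generic regularity of finite domains over a power series ring in characteristic `p`
-/

set_option autoImplicit false
set_option linter.style.haveILetI false

open Polynomial

namespace Groth.Agent.EGA4Lib.DerKernel

universe u

theorem exists_coeffDer {k : Type u} [Field k] {r : ℕ} (d : k →+ k)
    (hd : ∀ a b, d (a * b) = a * d b + b * d a) :
    ∃ δ : MvPowerSeries (Fin r) k →+ MvPowerSeries (Fin r) k,
      (∀ a b, δ (a * b) = a • δ b + b • δ a) ∧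
      ∀ n g, MvPowerSeries.coeff n (δ g) = d (MvPowerSeries.coeff n g) :=
  ⟨(EGA41Lib.PSJacobian.coeffDer d hd).toLinearMap.toAddMonoidHom,
    (EGA41Lib.PSJacobian.coeffDer d hd).leibniz, fun _ _ => rfl⟩

attribute [local instance 2000] Ring.toIntAlgebra

/-- A regular model of finite type whose derivations cut out `p`-th powers. -/
def Good (p : ℕ) (R L : Type u) [CommRing R] [Field L] [Algebra R L] : Prop :=
  ∃ (B : Type u) (_ : CommRing B) (_ : IsDomain B) (_ : Algebra R B) (_ : Algebra B L),
    IsScalarTower R B L ∧ IsFractionRing B L ∧ Algebra.FiniteType R B ∧ IsRegularRing B ∧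
      PKer p B L

theorem charP_of_fractionRing (p : ℕ) (B L : Type u) [CommRing B] [Field L] [Algebra B L]
    [IsFractionRing B L] [CharP L p] : CharP B p :=
  ((algebraMap B L).charP_iff (IsFractionRing.injective B L) p).mpr inferInstance

theorem charP_of_algebra (p : ℕ) (L L₁ : Type u) [Field L] [Field L₁] [Algebra L L₁] [CharP L p] :
    CharP L₁ p :=
  ((algebraMap L L₁).charP_iff (algebraMap L L₁).injective p).mp inferInstance

/-- Localising a model at one element. -/
theorem exists_away {p : ℕ} [Fact p.Prime] {R L : Type u} [CommRing R] [Field L] [Algebra R L]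
    [CharP L p] (B : Type u) [CommRing B] [IsDomain B] [Algebra R B] [Algebra B L]
    [IsScalarTower R B L] [IsFractionRing B L] [Algebra.FiniteType R B] [IsRegularRing B]
    (h : PKer p B L) (b : B) (hb : b ≠ 0) :
    ∃ (S : Type u) (_ : CommRing S) (_ : IsDomain S) (_ : Algebra B S) (_ : Algebra R S)
      (_ : Algebra S L), IsLocalization.Away b S ∧ IsScalarTower R S L ∧ IsScalarTower B S L ∧
      IsFractionRing S L ∧ Algebra.FiniteType R S ∧ IsRegularRing S ∧ PKer p S L := by
  let S := Localization.Away b
  haveI : IsDomain S :=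
    IsLocalization.isDomain_localization (powers_le_nonZeroDivisors_of_noZeroDivisors hb)
  have hbu : IsUnit (algebraMap B L b) :=
    isUnit_iff_ne_zero.mpr ((map_ne_zero_iff _ (IsFractionRing.injective B L)).mpr hb)
  letI : Algebra S L := (IsLocalization.Away.lift (S := S) b hbu).toAlgebra
  haveI : IsScalarTower B S L := IsScalarTower.of_algebraMap_eq fun x =>
    (IsLocalization.Away.lift_eq (S := S) b hbu x).symm
  haveI : IsScalarTower R S L := IsScalarTower.of_algebraMap_eq fun x => by
    rw [IsScalarTower.algebraMap_apply R B L, IsScalarTower.algebraMap_apply B S L,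
      ← IsScalarTower.algebraMap_apply R B S]
  haveI : IsFractionRing S L :=
    IsFractionRing.isFractionRing_of_isDomain_of_isLocalization (Submonoid.powers b) S L
  haveI : Algebra.FiniteType B S := IsLocalization.finiteType_of_monoid_fg (Submonoid.powers b) S
  haveI hRS : Algebra.FiniteType R S :=
    Algebra.FiniteType.trans (R := R) (S := B) (A := S) inferInstance inferInstance
  haveI : CharP B p := charP_of_fractionRing p B L
  haveI : CharP S p := charP_of_fractionRing p S L
  exact ⟨S, inferInstance, inferInstance, inferInstance, inferInstance, inferInstance,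
    inferInstance, inferInstance, inferInstance, inferInstance, Algebra.FiniteType.trans (S := B) inferInstance inferInstance,
    EGA41Lib.isRegularRing_localization _,
    h.localization b hb (IsFractionRing.injective B L)⟩

theorem exists_ne_zero_of_not_pow {p : ℕ} {B L : Type u} [CommRing B] [Field L] [Algebra B L]
    (h : PKer p B L) (f : B) (hf : ∀ y : L, y ^ p ≠ algebraMap B L f) :
    ∃ D : Derivation ℤ B B, D f ≠ 0 := by
  by_contra hcon
  push Not at hcon
  obtain ⟨y, hy⟩ := h f hcon
  exact hf y hy

theorem good_pthRoot {p : ℕ} [Fact p.Prime] {R L L₁ : Type u} [CommRing R] [Field L] [Field L₁]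
    [Algebra R L] [Algebra R L₁] [Algebra L L₁] [IsScalarTower R L L₁] [CharP L p] (α : L₁) (f : L)
    (hα : α ^ p = algebraMap L L₁ f) (hgen : Algebra.adjoin L {α} = ⊤)
    (hf : ∀ y : L, y ^ p ≠ f) (h : Good p R L) : Good p R L₁ := by
  have hp : p.Prime := Fact.out
  haveI : CharP L₁ p := charP_of_algebra p L L₁
  obtain ⟨B, _, _, _, _, htB, hfrB, hftB, hregB, hker⟩ := h
  haveI := htB; haveI := hfrB; haveI := hftB; haveI := hregB
  obtain ⟨a, s, hs, hfas⟩ := IsFractionRing.div_surjective (A := B) f
  have hs0 : algebraMap B L s ≠ 0 :=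
    (map_ne_zero_iff _ (IsFractionRing.injective B L)).mpr (nonZeroDivisors.ne_zero hs)
  let f' : B := a * s ^ (p - 1)
  have hf' : algebraMap B L f' = f * algebraMap B L s ^ p := by
    rw [← hfas, map_mul, map_pow, ← pow_sub_one_mul hp.ne_zero (algebraMap B L s)]
    field_simp
  have hfnp : ∀ y : L, y ^ p ≠ algebraMap B L f' := fun y hy => hf (y / algebraMap B L s) (by
    rw [div_pow, hy, hf', mul_div_cancel_right₀ _ (pow_ne_zero _ hs0)])
  obtain ⟨D, hD⟩ := exists_ne_zero_of_not_pow hker f' hfnp
  obtain ⟨S, _, _, _, _, _, hloc, htS, htBS, hfrS, hftS, hregS, hkerS⟩ := exists_away (R := R) B hker _ hD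
  haveI := hloc; haveI := htS; haveI := htBS; haveI := hfrS; haveI := hftS; haveI := hregS
  haveI : CharP S p := charP_of_fractionRing p S L
  obtain ⟨E₀, hE₀⟩ := EGA41Lib.NagataCrit.exists_extension_localization
    (Submonoid.powers (D f')) (S := S) (K := S) ((Algebra.linearMap B S).compDer D)
  obtain ⟨u, hu⟩ := IsLocalization.Away.algebraMap_isUnit (S := S) (D f')
  let E : Derivation ℤ S S := ((u⁻¹ : Sˣ) : S) • E₀
  have hE : E (algebraMap B S f') = 1 := by
    show ((u⁻¹ : Sˣ) : S) * E₀ (algebraMap B S f') = 1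
    rw [hE₀, show (Algebra.linearMap B S).compDer D f' = algebraMap B S (D f') from rfl, ← hu,
      Units.inv_mul]
  letI : Algebra S L₁ := ((algebraMap L L₁).comp (algebraMap S L)).toAlgebra
  haveI : IsScalarTower S L L₁ := IsScalarTower.of_algebraMap_eq fun _ => rfl
  let α' : L₁ := α * algebraMap L L₁ (algebraMap B L s)
  have hα' : α' ^ p = algebraMap S L₁ (algebraMap B S f') := by
    rw [mul_pow, hα, ← map_pow, ← map_mul, ← hf', IsScalarTower.algebraMap_apply S L L₁,
      ← IsScalarTower.algebraMap_apply B S L]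
  have hgen' : Algebra.adjoin L {α'} = ⊤ := by
    rw [eq_top_iff, ← hgen]
    refine Algebra.adjoin_le (Set.singleton_subset_iff.mpr ?_)
    have hsL : algebraMap L L₁ (algebraMap B L s) ≠ 0 := (_root_.map_ne_zero _).mpr hs0
    rw [show α = algebraMap L L₁ (algebraMap B L s)⁻¹ * α' by
      simp only [α']
      rw [map_inv₀]
      field_simp]
    exact mul_mem (Subalgebra.algebraMap_mem _ _) (Algebra.subset_adjoin (Set.mem_singleton _))
  let g : S[X] := X ^ p - C (algebraMap B S f')
  have hgm : g.Monic := monic_X_pow_sub_C _ hp.ne_zero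
  have hmap : g.map (algebraMap S L) = X ^ p - C (algebraMap B L f') := by
    simp [g, ← IsScalarTower.algebraMap_apply]
  have hmin : g.map (algebraMap S L) = minpoly L α' := by
    refine minpoly.eq_of_irreducible_of_monic ?_ ?_ (hgm.map _)
    · rw [hmap]; exact X_pow_sub_C_irreducible_of_prime hp hfnp
    · rw [aeval_map_algebraMap]
      simp [g, hα']
  have hαint : IsIntegral L α' :=
    ⟨g.map (algebraMap S L), hgm.map _, by
      rw [← aeval_def, aeval_map_algebraMap]
      simp [g, hα']⟩
  obtain ⟨φ, -, hφ, hfrac⟩ := exists_lift_adjoinRoot α' hαint hgen' g hgm hmin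
  haveI : IsDomain (AdjoinRoot g) := hφ.isDomain
  letI : Algebra (AdjoinRoot g) L₁ := φ.toRingHom.toAlgebra
  haveI : IsScalarTower S (AdjoinRoot g) L₁ :=
    IsScalarTower.of_algebraMap_eq fun x => (φ.commutes x).symm
  haveI : IsScalarTower R (AdjoinRoot g) L₁ := IsScalarTower.of_algebraMap_eq fun x => by
    rw [IsScalarTower.algebraMap_apply R S (AdjoinRoot g), ← IsScalarTower.algebraMap_apply S,
      IsScalarTower.algebraMap_apply S L L₁, ← IsScalarTower.algebraMap_apply R S L,
      ← IsScalarTower.algebraMap_apply R L L₁]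
  haveI : Module.Finite S (AdjoinRoot g) := hgm.finite_adjoinRoot
  have hRC : Algebra.FiniteType R (AdjoinRoot g) :=
    Algebra.FiniteType.trans (R := R) (S := S) (A := AdjoinRoot g) inferInstance inferInstance
  refine ⟨AdjoinRoot g, inferInstance, inferInstance, inferInstance, inferInstance, inferInstance,
    isFractionRing_adjoinRoot g ?_ hφ hfrac, hRC,
    isRegularRing_adjoinRoot E _ hE, pker_adjoinRoot_pthRoot _ E hE α' hα' g rfl φ hkerS⟩
  rw [IsScalarTower.algebraMap_eq S L L₁]
  exact (algebraMap L L₁).injective.comp (IsFractionRing.injective S L)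

theorem good_separable {p : ℕ} [Fact p.Prime] {R L L₁ : Type u} [CommRing R] [IsNoetherianRing R]
    [Field L] [Field L₁]
    [Algebra R L] [Algebra R L₁] [Algebra L L₁] [IsScalarTower R L L₁] [CharP L p]
    [Algebra.IsSeparable L L₁] (α : L₁) (hgen : Algebra.adjoin L {α} = ⊤) (h : Good p R L) :
    Good p R L₁ := by
  classical
  haveI : CharP L₁ p := charP_of_algebra p L L₁
  obtain ⟨B, _, _, _, _, htB, hfrB, hftB, hregB, hker⟩ := h
  haveI := htB; haveI := hfrB; haveI := hftB; haveI := hregB
  have hαint : IsIntegral L α := Algebra.IsIntegral.isIntegral α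
  obtain ⟨⟨s, hs⟩, hsint⟩ := IsLocalization.exist_integer_multiples_of_finite (nonZeroDivisors B)
    (fun i : Fin ((minpoly L α).natDegree + 1) => (minpoly L α).coeff i)
  obtain ⟨S, _, _, _, _, _, hloc, htS, htBS, hfrS, hftS, hregS, hkerS⟩ :=
    exists_away (R := R) B hker s (nonZeroDivisors.ne_zero hs)
  haveI := hloc; haveI := htS; haveI := htBS; haveI := hfrS; haveI := hftS; haveI := hregS
  haveI : CharP S p := charP_of_fractionRing p S L
  have hlifts : minpoly L α ∈ Polynomial.lifts (algebraMap S L) := by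
    rw [Polynomial.lifts_iff_coeff_lifts]
    intro n
    by_cases hn : n < (minpoly L α).natDegree + 1
    · obtain ⟨β, hβ⟩ := hsint ⟨n, hn⟩
      obtain ⟨u, hu⟩ := IsLocalization.Away.algebraMap_isUnit (S := S) s
      refine ⟨((u⁻¹ : Sˣ) : S) * algebraMap B S β, ?_⟩
      have hone : algebraMap S L ((u⁻¹ : Sˣ) : S) * algebraMap B L s = 1 := by
        rw [IsScalarTower.algebraMap_apply B S L s, ← map_mul, ← hu, Units.inv_mul, map_one]
      rw [map_mul, ← IsScalarTower.algebraMap_apply B S L, hβ, Algebra.smul_def, ← mul_assoc,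
        hone, one_mul]
    · exact ⟨0, by rw [map_zero, coeff_eq_zero_of_natDegree_lt (by omega)]⟩
  obtain ⟨g, hmap, -, hgm⟩ := lifts_and_degree_eq_and_monic hlifts (minpoly.monic hαint)
  letI : Algebra S L₁ := ((algebraMap L L₁).comp (algebraMap S L)).toAlgebra
  haveI : IsScalarTower S L L₁ := IsScalarTower.of_algebraMap_eq fun _ => rfl
  obtain ⟨φ, hφα, hφ, hfrac⟩ := exists_lift_adjoinRoot α hαint hgen g hgm hmap
  haveI : IsDomain (AdjoinRoot g) := hφ.isDomain
  letI : Algebra (AdjoinRoot g) L₁ := φ.toRingHom.toAlgebra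
  haveI : IsScalarTower S (AdjoinRoot g) L₁ :=
    IsScalarTower.of_algebraMap_eq fun x => (φ.commutes x).symm
  haveI : IsScalarTower R (AdjoinRoot g) L₁ := IsScalarTower.of_algebraMap_eq fun x => by
    rw [IsScalarTower.algebraMap_apply R S (AdjoinRoot g), ← IsScalarTower.algebraMap_apply S,
      IsScalarTower.algebraMap_apply S L L₁, ← IsScalarTower.algebraMap_apply R S L,
      ← IsScalarTower.algebraMap_apply R L L₁]
  have hSinj : Function.Injective (algebraMap S L₁) := by
    rw [IsScalarTower.algebraMap_eq S L L₁]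
    exact (algebraMap L L₁).injective.comp (IsFractionRing.injective S L)
  haveI : Module.Finite S (AdjoinRoot g) := hgm.finite_adjoinRoot
  haveI : Algebra.FiniteType R (AdjoinRoot g) :=
    Algebra.FiniteType.trans (R := R) (S := S) (A := AdjoinRoot g) inferInstance inferInstance
  haveI hfr : IsFractionRing (AdjoinRoot g) L₁ := isFractionRing_adjoinRoot g hSinj hφ hfrac
  have hkerC : PKer p (AdjoinRoot g) L₁ :=
    pker_adjoinRoot_separable g hgm α (Algebra.IsSeparable.isSeparable L α) hgen hmap φ hφα hφ hkerS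
  haveI : IsNoetherianRing S := Algebra.FiniteType.isNoetherianRing R S
  haveI : IsNoetherianRing (AdjoinRoot g) := Algebra.FiniteType.isNoetherianRing R _
  haveI : CharP (AdjoinRoot g) p := charP_of_fractionRing p _ L₁
  haveI : Algebra.FormallyEtale L L₁ := Algebra.FormallyEtale.of_isSeparable L L₁
  haveI : Algebra.FormallySmooth L L₁ := inferInstance
  obtain ⟨f₀, hf₀, hreg⟩ := exists_forall_mem_regLocus_of_formallySmooth (R := S)
    (S := AdjoinRoot g) (K := L) (F := L₁)
    (by
      have : Function.Injective ((algebraMap (AdjoinRoot g) L₁) ∘ (algebraMap S (AdjoinRoot g))) := by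
        rw [← RingHom.coe_comp, ← IsScalarTower.algebraMap_eq]; exact hSinj
      exact this.of_comp)
    ⟨1, one_ne_zero, fun q _ => IsRegularRing.isRegularLocalRing_localization q.asIdeal⟩
  let T := Localization.Away f₀
  haveI : IsDomain T :=
    IsLocalization.isDomain_localization (powers_le_nonZeroDivisors_of_noZeroDivisors hf₀)
  have hbu : IsUnit (algebraMap (AdjoinRoot g) L₁ f₀) :=
    isUnit_iff_ne_zero.mpr ((map_ne_zero_iff _ hφ).mpr hf₀)
  letI : Algebra T L₁ := (IsLocalization.Away.lift (S := T) f₀ hbu).toAlgebra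
  haveI : IsScalarTower (AdjoinRoot g) T L₁ := IsScalarTower.of_algebraMap_eq fun x =>
    (IsLocalization.Away.lift_eq (S := T) f₀ hbu x).symm
  haveI : Algebra.FiniteType (AdjoinRoot g) T :=
    IsLocalization.finiteType_of_monoid_fg (Submonoid.powers f₀) T
  haveI : IsScalarTower R T L₁ := IsScalarTower.of_algebraMap_eq fun x => by
    rw [IsScalarTower.algebraMap_apply R (AdjoinRoot g) L₁,
      IsScalarTower.algebraMap_apply (AdjoinRoot g) T L₁, ← IsScalarTower.algebraMap_apply R]
  haveI : IsFractionRing T L₁ :=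
    IsFractionRing.isFractionRing_of_isDomain_of_isLocalization (Submonoid.powers f₀) T L₁
  haveI : CharP T p := charP_of_fractionRing p T L₁
  haveI : IsNoetherianRing T := IsLocalization.isNoetherianRing (Submonoid.powers f₀) T inferInstance
  haveI : IsRegularRing T := isRegularRing_iff.mpr fun Q hQ => by
    refine (mem_regLocus_away f₀ ⟨Q, hQ⟩).mpr (hreg _ fun hmem => ?_)
    exact hQ.ne_top (Q.eq_top_of_isUnit_mem hmem (IsLocalization.Away.algebraMap_isUnit f₀))
  exact ⟨T, inferInstance, inferInstance, inferInstance, inferInstance, inferInstance,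
    inferInstance, Algebra.FiniteType.trans (R := R) (S := AdjoinRoot g) (A := T) inferInstance inferInstance,
    inferInstance, hkerC.localization f₀ hf₀ hφ⟩

/-- `Good` passes to purely inseparable finite extensions. -/
theorem good_of_isPurelyInseparable {p : ℕ} [Fact p.Prime] {R : Type u} [CommRing R]
    [IsNoetherianRing R] (d : ℕ) :
    ∀ (M L : Type u) [Field M] [Field L] [Algebra R M] [Algebra R L] [Algebra M L]
      [IsScalarTower R M L] [Module.Finite M L] [IsPurelyInseparable M L] [CharP M p],
      Module.finrank M L ≤ d → Good p R M → Good p R L := by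
  induction d with
  | zero =>
    intro M L _ _ _ _ _ _ _ _ _ hd _
    exact absurd hd (by have := Module.finrank_pos (R := M) (M := L); omega)
  | succ d ih =>
    intro M L _ _ _ _ _ _ _ _ _ hd hM
    haveI : CharP L p := charP_of_algebra p M L
    haveI : ExpChar M p := ExpChar.prime Fact.out
    by_cases hsurj : Function.Surjective (algebraMap M L)
    · haveI : Algebra.IsSeparable M L := ⟨fun x => by
        obtain ⟨m, rfl⟩ := hsurj x
        exact isSeparable_algebraMap m⟩
      refine good_separable (0 : L) ?_ hM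
      rw [eq_top_iff]
      intro z _
      obtain ⟨m, rfl⟩ := hsurj z
      exact Subalgebra.algebraMap_mem _ _
    obtain ⟨y₀, hy₀⟩ := not_forall.mp hsurj
    obtain ⟨y, hyM, hyp⟩ : ∃ y : L, y ∉ Set.range (algebraMap M L) ∧
        y ^ p ∈ Set.range (algebraMap M L) := by
      obtain ⟨n, hn⟩ := IsPurelyInseparable.pow_mem M p y₀
      have hn' : y₀ ^ p ^ n ∈ Set.range (algebraMap M L) := hn
      clear hn
      induction n generalizing y₀ with
      | zero => exact absurd (by simpa using hn') (by simpa using hy₀)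
      | succ n ihn =>
        by_cases hp1 : y₀ ^ p ∈ Set.range (algebraMap M L)
        · exact ⟨y₀, by simpa using hy₀, hp1⟩
        · exact ihn (y₀ ^ p) (by simpa using hp1) (by rw [← pow_mul, ← pow_succ']; exact hn')
    obtain ⟨f, hf⟩ := hyp
    let M₁ := IntermediateField.adjoin M ({y} : Set L)
    haveI : IsScalarTower R M M₁ := IsScalarTower.of_algebraMap_eq fun x =>
      Subtype.ext (IsScalarTower.algebraMap_apply R M L x)
    haveI : IsScalarTower R M₁ L := IsScalarTower.of_algebraMap_eq fun x => rfl
    haveI : CharP M₁ p := charP_of_algebra p M M₁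
    have hM₁ : Good p R M₁ := by
      refine good_pthRoot (⟨y, IntermediateField.mem_adjoin_simple_self M y⟩ : M₁) f
        (Subtype.ext hf.symm) ?_ ?_ hM
      · rw [eq_top_iff]
        rintro ⟨z, hz⟩ -
        have hz' : z ∈ Algebra.adjoin M ({y} : Set L) := by
          rw [← IntermediateField.adjoin_simple_toSubalgebra_of_isAlgebraic
            (Algebra.IsAlgebraic.isAlgebraic y)]
          exact hz
        rw [Algebra.adjoin_singleton_eq_range_aeval] at hz' ⊢
        obtain ⟨P, hP⟩ := hz'
        refine ⟨P, Subtype.ext ?_⟩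
        exact (Polynomial.aeval_algHom_apply (IntermediateField.val M₁) _ P).symm.trans hP
      · intro z hz
        refine hyM ⟨z, frobenius_inj L p ?_⟩
        rw [frobenius_def, frobenius_def, ← map_pow, hz, hf]
    haveI : IsPurelyInseparable M₁ L := IsPurelyInseparable.tower_top M M₁ L
    refine ih M₁ L ?_ hM₁
    have h1 : 1 < Module.finrank M M₁ := by
      have h2 := Module.finrank_pos (R := M) (M := M₁)
      rcases Nat.lt_or_ge 1 (Module.finrank M M₁) with h | h
      · exact h
      · exfalso
        have hbot : M₁ = ⊥ := IntermediateField.finrank_eq_one_iff.mp (by omega)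
        have hy : y ∈ (⊥ : IntermediateField M L) := hbot ▸ IntermediateField.mem_adjoin_simple_self M y
        exact hyM (IntermediateField.mem_bot.mp hy)
    have h2 := Module.finrank_mul_finrank M M₁ L
    have h3 := Module.finrank_pos (R := M₁) (M := L)
    nlinarith

/-- `Good` passes to finite extensions. -/
theorem good_of_finite {p : ℕ} [Fact p.Prime] {R K L : Type u} [CommRing R] [IsNoetherianRing R]
    [Field K] [Field L] [Algebra R K] [Algebra R L] [Algebra K L] [IsScalarTower R K L]
    [Module.Finite K L] [CharP K p] (h : Good p R K) : Good p R L := by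
  haveI : CharP L p := charP_of_algebra p K L
  let Ls := separableClosure K L
  haveI : IsScalarTower R Ls L := IsScalarTower.of_algebraMap_eq fun x => rfl
  haveI : IsScalarTower R K Ls := IsScalarTower.of_algebraMap_eq fun x =>
    Subtype.ext (IsScalarTower.algebraMap_apply R K L x)
  haveI : CharP Ls p := charP_of_algebra p K Ls
  obtain ⟨α, hα⟩ := Field.exists_primitive_element K Ls
  have hLs : Good p R Ls := by
    refine good_separable α ?_ h
    rw [← IntermediateField.adjoin_simple_toSubalgebra_of_isAlgebraic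
      (Algebra.IsAlgebraic.isAlgebraic α), hα, IntermediateField.top_toSubalgebra]
  exact good_of_isPurelyInseparable _ Ls L le_rfl hLs

/-- A finite-type domain birational to a regular one is generically regular. -/
theorem exists_forall_mem_regLocus_of_model {R A B F : Type u} [CommRing R] [IsNoetherianRing R]
    [CommRing A] [IsDomain A] [CommRing B] [IsDomain B] [Field F] [Algebra R A] [Algebra R B]
    [Algebra R F] [Algebra A F] [Algebra B F] [IsScalarTower R A F] [IsScalarTower R B F]
    [IsFractionRing A F] [IsFractionRing B F] [Algebra.FiniteType R A] [Algebra.FiniteType R B]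
    [IsRegularRing B] :
    ∃ f : A, f ≠ 0 ∧ ∀ q : PrimeSpectrum A, f ∉ q.asIdeal → q ∈ EGA4.regLocus A := by
  classical
  obtain ⟨gA, hgA⟩ := (inferInstance : Algebra.FiniteType R A).out
  obtain ⟨gB, hgB⟩ := (inferInstance : Algebra.FiniteType R B).out
  obtain ⟨⟨s, hs⟩, hsint⟩ := IsLocalization.exist_integer_multiples (nonZeroDivisors A) gB
    (fun b => algebraMap B F b)
  obtain ⟨⟨t, ht⟩, htint⟩ := IsLocalization.exist_integer_multiples (nonZeroDivisors B) gA
    (fun a => algebraMap A F a)
  have hsF : algebraMap A F s ≠ 0 :=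
    (map_ne_zero_iff _ (IsFractionRing.injective A F)).mpr (nonZeroDivisors.ne_zero hs)
  have htF : algebraMap B F t ≠ 0 :=
    (map_ne_zero_iff _ (IsFractionRing.injective B F)).mpr (nonZeroDivisors.ne_zero ht)
  -- `B ⊆ A[1/s]` and `A ⊆ B[1/t]`
  let PA : Subalgebra R F :=
    { carrier := {z | ∃ (n : ℕ) (a : A), algebraMap A F s ^ n * z = algebraMap A F a}
      mul_mem' := by
        rintro x y ⟨n, a, hx⟩ ⟨m, b, hy⟩
        exact ⟨n + m, a * b, by rw [map_mul, ← hx, ← hy]; ring⟩
      add_mem' := by
        rintro x y ⟨n, a, hx⟩ ⟨m, b, hy⟩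
        exact ⟨n + m, s ^ m * a + s ^ n * b, by
          rw [map_add, map_mul, map_mul, ← hx, ← hy, map_pow, map_pow]; ring⟩
      algebraMap_mem' := fun r => ⟨0, algebraMap R A r, by
        rw [pow_zero, one_mul, ← IsScalarTower.algebraMap_apply]⟩ }
  let PB : Subalgebra R F :=
    { carrier := {z | ∃ (n : ℕ) (b : B), algebraMap B F t ^ n * z = algebraMap B F b}
      mul_mem' := by
        rintro x y ⟨n, a, hx⟩ ⟨m, b, hy⟩
        exact ⟨n + m, a * b, by rw [map_mul, ← hx, ← hy]; ring⟩
      add_mem' := by
        rintro x y ⟨n, a, hx⟩ ⟨m, b, hy⟩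
        exact ⟨n + m, t ^ m * a + t ^ n * b, by
          rw [map_add, map_mul, map_mul, ← hx, ← hy, map_pow, map_pow]; ring⟩
      algebraMap_mem' := fun r => ⟨0, algebraMap R B r, by
        rw [pow_zero, one_mul, ← IsScalarTower.algebraMap_apply]⟩ }
  have hBA : ∀ b : B, algebraMap B F b ∈ PA := by
    intro b
    have hb : b ∈ Algebra.adjoin R (gB : Set B) := hgB ▸ Algebra.mem_top
    have h1 : IsScalarTower.toAlgHom R B F b ∈ (Algebra.adjoin R (gB : Set B)).map (IsScalarTower.toAlgHom R B F) :=
      Subalgebra.mem_map.mpr ⟨b, hb, rfl⟩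
    rw [AlgHom.map_adjoin] at h1
    refine Algebra.adjoin_le ?_ h1
    rintro _ ⟨x, hx, rfl⟩
    obtain ⟨a, ha⟩ := hsint x hx
    exact ⟨1, a, by rw [ha, pow_one, Algebra.smul_def]; rfl⟩
  have hAB : ∀ a : A, algebraMap A F a ∈ PB := by
    intro a
    have ha : a ∈ Algebra.adjoin R (gA : Set A) := hgA ▸ Algebra.mem_top
    have h1 : IsScalarTower.toAlgHom R A F a ∈ (Algebra.adjoin R (gA : Set A)).map (IsScalarTower.toAlgHom R A F) :=
      Subalgebra.mem_map.mpr ⟨a, ha, rfl⟩
    rw [AlgHom.map_adjoin] at h1
    refine Algebra.adjoin_le ?_ h1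
    rintro _ ⟨x, hx, rfl⟩
    obtain ⟨b, hb⟩ := htint x hx
    exact ⟨1, b, by rw [hb, pow_one, Algebra.smul_def]; rfl⟩
  -- write `t = a₀ / s^n` and `s = b₀ / t^m`
  obtain ⟨n, a₀, ha₀⟩ := hBA t
  obtain ⟨m, b₀, hb₀⟩ := hAB s
  let u : A := s * a₀
  let v : B := t * b₀
  have hu : u ≠ 0 := mul_ne_zero (nonZeroDivisors.ne_zero hs) fun h0 => by
    rw [h0, map_zero] at ha₀
    exact mul_ne_zero (pow_ne_zero _ hsF) htF ha₀
  have hv : v ≠ 0 := mul_ne_zero (nonZeroDivisors.ne_zero ht) fun h0 => by
    rw [h0, map_zero] at hb₀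
    exact mul_ne_zero (pow_ne_zero _ htF) hsF hb₀
  have huF : algebraMap A F u = algebraMap A F s ^ (n + 1) * algebraMap B F t := by
    rw [map_mul, ← ha₀]; ring
  have hvF : algebraMap B F v = algebraMap B F t ^ (m + 1) * algebraMap A F s := by
    rw [map_mul, ← hb₀]; ring
  -- the common localisation
  have hAu : IsUnit (algebraMap A F u) :=
    isUnit_iff_ne_zero.mpr ((map_ne_zero_iff _ (IsFractionRing.injective A F)).mpr hu)
  have hBv : IsUnit (algebraMap B F v) :=
    isUnit_iff_ne_zero.mpr ((map_ne_zero_iff _ (IsFractionRing.injective B F)).mpr hv)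
  let φA : Localization.Away u →+* F := IsLocalization.Away.lift u hAu
  let φB : Localization.Away v →+* F := IsLocalization.Away.lift v hBv
  have injA : Function.Injective φA := (IsLocalization.lift_injective_iff _).mpr fun x y => by
    rw [(IsLocalization.injective (Localization.Away u)
      (powers_le_nonZeroDivisors_of_noZeroDivisors hu)).eq_iff,
      (IsFractionRing.injective A F).eq_iff]
  have injB : Function.Injective φB := (IsLocalization.lift_injective_iff _).mpr fun x y => by
    rw [(IsLocalization.injective (Localization.Away v)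
      (powers_le_nonZeroDivisors_of_noZeroDivisors hv)).eq_iff,
      (IsFractionRing.injective B F).eq_iff]
  let inner := fun (z : F) => (z * algebraMap A F s)⁻¹
  have hsA : (algebraMap A F s)⁻¹ ∈ φA.range := by
    refine ⟨algebraMap A _ a₀ * IsLocalization.Away.invSelf u, ?_⟩
    have h1 : φA (IsLocalization.Away.invSelf u) * algebraMap A F u = 1 := by
      rw [← IsLocalization.Away.lift_eq u hAu u (S := Localization.Away u), ← map_mul, mul_comm,
        IsLocalization.Away.mul_invSelf, map_one]
    rw [map_mul, IsLocalization.Away.lift_eq]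
    refine eq_inv_of_mul_eq_one_left ?_
    calc algebraMap A F a₀ * φA (IsLocalization.Away.invSelf u) * algebraMap A F s
        = φA (IsLocalization.Away.invSelf u) * algebraMap A F u := by rw [map_mul]; ring
      _ = 1 := h1
  have hsB : (algebraMap B F t)⁻¹ ∈ φB.range := by
    refine ⟨algebraMap B _ b₀ * IsLocalization.Away.invSelf v, ?_⟩
    have h1 : φB (IsLocalization.Away.invSelf v) * algebraMap B F v = 1 := by
      rw [← IsLocalization.Away.lift_eq v hBv v (S := Localization.Away v), ← map_mul, mul_comm,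
        IsLocalization.Away.mul_invSelf, map_one]
    rw [map_mul, IsLocalization.Away.lift_eq]
    refine eq_inv_of_mul_eq_one_left ?_
    calc algebraMap B F b₀ * φB (IsLocalization.Away.invSelf v) * algebraMap B F t
        = φB (IsLocalization.Away.invSelf v) * algebraMap B F v := by rw [map_mul]; ring
      _ = 1 := h1
  have hPA : ∀ z ∈ PA, z ∈ φA.range := by
    rintro z ⟨k, a, hz⟩
    rw [show z = (algebraMap A F s)⁻¹ ^ k * algebraMap A F a by
      rw [← hz, inv_pow, inv_mul_cancel_left₀ (pow_ne_zero _ hsF)]]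
    exact mul_mem (pow_mem hsA k) ⟨algebraMap A _ a, IsLocalization.Away.lift_eq u hAu a⟩
  have hPB : ∀ z ∈ PB, z ∈ φB.range := by
    rintro z ⟨k, b, hz⟩
    rw [show z = (algebraMap B F t)⁻¹ ^ k * algebraMap B F b by
      rw [← hz, inv_pow, inv_mul_cancel_left₀ (pow_ne_zero _ htF)]]
    exact mul_mem (pow_mem hsB k) ⟨algebraMap B _ b, IsLocalization.Away.lift_eq v hBv b⟩
  have htA : (algebraMap B F t)⁻¹ ∈ φA.range := by
    refine ⟨algebraMap A _ s ^ (n + 1) * IsLocalization.Away.invSelf u, ?_⟩
    have h1 : φA (IsLocalization.Away.invSelf u) * algebraMap A F u = 1 := by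
      rw [← IsLocalization.Away.lift_eq u hAu u (S := Localization.Away u), ← map_mul, mul_comm,
        IsLocalization.Away.mul_invSelf, map_one]
    rw [huF] at h1
    rw [map_mul, map_pow, IsLocalization.Away.lift_eq]
    refine eq_inv_of_mul_eq_one_left ?_
    rw [← h1]
    ring
  have hsB' : (algebraMap A F s)⁻¹ ∈ φB.range := by
    refine ⟨algebraMap B _ t ^ (m + 1) * IsLocalization.Away.invSelf v, ?_⟩
    have h1 : φB (IsLocalization.Away.invSelf v) * algebraMap B F v = 1 := by
      rw [← IsLocalization.Away.lift_eq v hBv v (S := Localization.Away v), ← map_mul, mul_comm,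
        IsLocalization.Away.mul_invSelf, map_one]
    rw [hvF] at h1
    rw [map_mul, map_pow, IsLocalization.Away.lift_eq]
    refine eq_inv_of_mul_eq_one_left ?_
    rw [← h1]
    ring
  have hinvu : ∀ k : ℕ, (algebraMap A F u ^ k)⁻¹ ∈ φB.range := fun k => by
    rw [huF, ← inv_pow, mul_inv, ← inv_pow]
    exact pow_mem (mul_mem (pow_mem hsB' _) hsB) k
  have hinvv : ∀ k : ℕ, (algebraMap B F v ^ k)⁻¹ ∈ φA.range := fun k => by
    rw [hvF, ← inv_pow, mul_inv, ← inv_pow]
    exact pow_mem (mul_mem (pow_mem htA _) hsA) k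
  have hrange : φA.range = φB.range := by
    refine le_antisymm ?_ ?_
    · rintro _ ⟨x, rfl⟩
      obtain ⟨k, a, hx⟩ := IsLocalization.Away.surj u x
      have h1 := congrArg φA hx
      rw [map_mul, map_pow, IsLocalization.Away.lift_eq, IsLocalization.Away.lift_eq] at h1
      rw [(eq_mul_inv_iff_mul_eq₀ (pow_ne_zero _ hAu.ne_zero)).mpr h1]
      exact mul_mem (hPB _ (hAB a)) (hinvu k)
    · rintro _ ⟨x, rfl⟩
      obtain ⟨k, b, hx⟩ := IsLocalization.Away.surj v x
      have h1 := congrArg φB hx
      rw [map_mul, map_pow, IsLocalization.Away.lift_eq, IsLocalization.Away.lift_eq] at h1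
      rw [(eq_mul_inv_iff_mul_eq₀ (pow_ne_zero _ hBv.ne_zero)).mpr h1]
      exact mul_mem (hPA _ (hBA b)) (hinvv k)
  let eA := RingEquiv.ofBijective φA.rangeRestrict
    ⟨fun x y h => injA (congrArg Subtype.val h), φA.rangeRestrict_surjective⟩
  let eB := RingEquiv.ofBijective φB.rangeRestrict
    ⟨fun x y h => injB (congrArg Subtype.val h), φB.rangeRestrict_surjective⟩
  haveI : IsRegularRing (Localization.Away v) := EGA41Lib.isRegularRing_localization _
  haveI : IsRegularRing (Localization.Away u) :=
    IsRegularRing.of_ringEquiv ((eB.trans (RingEquiv.subringCongr hrange.symm)).trans eA.symm)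
  refine ⟨u, hu, fun q hq => ?_⟩
  obtain ⟨Q, hQ⟩ := exists_mem_away_of_notMem q hq
  rw [← hQ, ← mem_regLocus_away]
  exact IsRegularRing.isRegularLocalRing_localization Q.asIdeal

theorem pker_mvPowerSeries {k : Type u} [Field k] (p : ℕ) [Fact p.Prime] [CharP k p] (r : ℕ)
    (K : Type u) [Field K] [Algebra (MvPowerSeries (Fin r) k) K] :
    PKer p (MvPowerSeries (Fin r) k) K := by
  classical
  have hp : p.Prime := Fact.out
  intro f hf
  have hdiv : ∀ (n : Fin r →₀ ℕ) (i : Fin r), ¬ p ∣ n i → MvPowerSeries.coeff n f = 0 := by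
    intro n i hi
    have h1 := congrArg (MvPowerSeries.coeff (n - Finsupp.single i 1))
      (hf ((MvPowerSeries.pderiv k i).restrictScalars ℤ))
    rw [map_zero, Derivation.restrictScalars_apply] at h1
    have hn1 : 1 ≤ n i := Nat.one_le_iff_ne_zero.mpr fun h0 => hi (h0 ▸ dvd_zero p)
    have hadd : n - Finsupp.single i 1 + Finsupp.single i 1 = n :=
      tsub_add_cancel_of_le (Finsupp.single_le_iff.mpr hn1)
    rw [MvPowerSeries.coeff_pderiv, hadd, ← Nat.cast_add_one] at h1
    refine (mul_eq_zero.mp h1).resolve_right ?_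
    rw [CharP.cast_eq_zero_iff k p]
    simpa [Finsupp.tsub_apply, Nat.sub_add_cancel hn1] using hi
  have hroot : ∀ n, ∃ b : k, b ^ p = MvPowerSeries.coeff n f := fun n =>
    FieldSep.MacLane.exists_pow_of_D_eq_zero p ((Module.forall_dual_apply_eq_zero_iff k _).mp fun ψ => by
      let d : k →+ k := ψ.toAddMonoidHom.comp (KaehlerDifferential.D ℤ k).toLinearMap.toAddMonoidHom
      have hd : ∀ a b, d (a * b) = a * d b + b * d a := fun a b => by
        show ψ (KaehlerDifferential.D ℤ k (a * b)) = _
        rw [Derivation.leibniz, map_add, map_smul, map_smul]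
        rfl
      obtain ⟨δ, hleib, hδ⟩ := exists_coeffDer (r := r) d hd
      have h1 := congrArg (MvPowerSeries.coeff n) (hf (Derivation.mk' δ.toIntLinearMap hleib))
      rw [map_zero] at h1
      exact (hδ n f).symm.trans h1)
  choose b hb using hroot
  let y : MvPowerSeries (Fin r) k := fun m => b (p • m)
  refine ⟨algebraMap _ K y, ?_⟩
  rw [← map_pow]
  congr 1
  rw [← MvPowerSeries.map_frobenius_expand p hp.ne_zero]
  ext n
  rw [MvPowerSeries.coeff_map]
  by_cases hn : ∀ i, p ∣ n i
  · choose m hm using hn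
    obtain rfl : n = p • (Finsupp.equivFunOnFinite.symm m) := Finsupp.ext fun i => by simp [hm i]
    rw [MvPowerSeries.coeff_expand_smul, frobenius_def]
    exact hb _
  · obtain ⟨i, hi⟩ := not_forall.mp hn
    rw [MvPowerSeries.coeff_expand_of_not_dvd p hp.ne_zero _ hi, map_zero, hdiv n i hi]

theorem exists_forall_mem_regLocus_mvPowerSeries {k : Type u} [Field k] (p : ℕ) [Fact p.Prime]
    [CharP k p] (r : ℕ) (A : Type u) [CommRing A] [IsDomain A] [Algebra (MvPowerSeries (Fin r) k) A]
    [Module.Finite (MvPowerSeries (Fin r) k) A]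
    (hinj : Function.Injective (algebraMap (MvPowerSeries (Fin r) k) A)) :
    ∃ f : A, f ≠ 0 ∧ ∀ q : PrimeSpectrum A, f ∉ q.asIdeal → q ∈ EGA4.regLocus A := by
  set R := MvPowerSeries (Fin r) k
  haveI : IsRegularRing R := EGA41Lib.isRegularRing_mvPowerSeries k r
  haveI : IsDomain R := NoZeroDivisors.to_isDomain _
  haveI : CharP R p := charP_of_injective_algebraMap (algebraMap k R).injective p
  let K := FractionRing R
  let F := FractionRing A
  haveI : CharP K p := charP_of_injective_algebraMap (IsFractionRing.injective R K) p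
  haveI : FaithfulSMul R F := (faithfulSMul_iff_algebraMap_injective R F).mpr (by
    rw [IsScalarTower.algebraMap_eq R A F]
    exact (IsFractionRing.injective A F).comp hinj)
  letI : Algebra K F := FractionRing.liftAlgebra R F
  haveI : IsScalarTower R K F := FractionRing.isScalarTower_liftAlgebra R F
  haveI : FaithfulSMul R A := (faithfulSMul_iff_algebraMap_injective R A).mpr hinj
  haveI : Module.Finite K F := Module.Finite.of_isLocalization R A (nonZeroDivisors R)
  have hK : Good p R K :=
    ⟨R, inferInstance, inferInstance, inferInstance, inferInstance, inferInstance, inferInstance,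
      inferInstance, inferInstance, pker_mvPowerSeries p r K⟩
  obtain ⟨B, _, _, _, _, ht, hfr, hft, hreg, -⟩ := good_of_finite (L := F) hK
  haveI := ht; haveI := hfr; haveI := hft; haveI := hreg
  exact exists_forall_mem_regLocus_of_model (R := R) (B := B) (F := F)

end Groth.Agent.EGA4Lib.DerKernel
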