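import Groth.Agent.EGA41Lib.NagataCrit
import Groth.Agent.EGA4Lib.J2
import Groth.Agent.Hoch95.Basic
import Mathlib

/-!
# Regular models with `p`-th powers as common kernel of all derivations

For a field `L` of characteristic `p` over a ring `R`, `Good p R L` asks for a regular domain of
finite type over `R` with fraction field `L` whose elements killed by all derivations are `p`-th
powers in `L`. The property passes to finite extensions, and gives generic regularity of finite
domains (EGA 0_IV 22.7).
-/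

set_option autoImplicit false
set_option linter.style.haveILetI false

open Polynomial

namespace Groth.Agent.EGA4Lib.DerKernel

universe u

attribute [local instance 2000] Ring.toIntAlgebra

/-- The derivation of `B[X]` extending `D` and sending `X` to `v`. -/
noncomputable def polyDer {B : Type u} [CommRing B] (D : Derivation ℤ B B) (v : B[X]) :
    Derivation ℤ B[X] B[X] :=
  @Differential.implicitDeriv B _ ⟨D⟩ v

theorem polyDer_C {B : Type u} [CommRing B] (D : Derivation ℤ B B) (v : B[X]) (b : B) :
    polyDer D v (C b) = C (D b) :=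
  @Differential.implicitDeriv_C B _ ⟨D⟩ v b

theorem polyDer_X {B : Type u} [CommRing B] (D : Derivation ℤ B B) (v : B[X]) :
    polyDer D v X = v :=
  @Differential.implicitDeriv_X B _ ⟨D⟩ v

theorem polyDer_eq {B : Type u} [CommRing B] (D : Derivation ℤ B B) (v : B[X]) (P : B[X]) :
    polyDer D v P = polyDer D 0 P + v * derivative P := by
  induction P using Polynomial.induction_on with
  | C b => simp [polyDer_C]
  | add P Q hP hQ => rw [map_add, map_add, hP, hQ, map_add]; ring
  | monomial n b _ =>
    simp [Derivation.leibniz, Derivation.leibniz_pow, polyDer_C, polyDer_X]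
    ring

theorem polyDer_zero {B : Type u} [CommRing B] (P : B[X]) :
    polyDer (0 : Derivation ℤ B B) 1 P = derivative P := by
  rw [polyDer_eq, one_mul, add_eq_right]
  induction P using Polynomial.induction_on with
  | C b => simp [polyDer_C]
  | add P Q hP hQ => rw [map_add, hP, hQ, add_zero]
  | monomial n b _ =>
    simp [Derivation.leibniz, Derivation.leibniz_pow, polyDer_C, polyDer_X]

theorem polyDer_smul {B : Type u} [CommRing B] (c : B) (D : Derivation ℤ B B) (P : B[X]) :
    polyDer (c • D) 0 P = C c * polyDer D 0 P := by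
  induction P using Polynomial.induction_on with
  | C b => simp [polyDer_C]
  | add P Q hP hQ => rw [map_add, map_add, hP, hQ, mul_add]
  | monomial n b _ =>
    simp [Derivation.leibniz, Derivation.leibniz_pow, polyDer_C, polyDer_X]
    ring

/-- Derivations of `B[X]` descend to `AdjoinRoot g`. -/
theorem exists_derivation_adjoinRoot {B : Type u} [CommRing B] (g : B[X]) (D : Derivation ℤ B B)
    (v : B[X]) (hv : AdjoinRoot.mk g (polyDer D v g) = 0) :
    ∃ D' : Derivation ℤ (AdjoinRoot g) (AdjoinRoot g),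
      ∀ P, D' (AdjoinRoot.mk g P) = AdjoinRoot.mk g (polyDer D v P) := by
  refine ⟨Derivation.liftOfSurjective (f := (AdjoinRoot.mk g).toIntAlgHom)
    AdjoinRoot.mk_surjective (d := polyDer D v) ?_, fun P => ?_⟩
  · intro x hx
    simp only [RingHom.toIntAlgHom_apply] at hx ⊢
    obtain ⟨q, rfl⟩ := AdjoinRoot.mk_eq_zero.mp hx
    rw [Derivation.leibniz, map_add, smul_eq_mul, smul_eq_mul, map_mul, map_mul, AdjoinRoot.mk_self,
      hv, zero_mul, mul_zero, add_zero]
  · exact Derivation.liftOfSurjective_apply (f := (AdjoinRoot.mk g).toIntAlgHom) _ _ P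

/-- Elements killed by all derivations are `p`-th powers in `L`. -/
def PKer (p : ℕ) (B L : Type u) [CommRing B] [Field L] [Algebra B L] : Prop :=
  ∀ x : B, (∀ D : Derivation ℤ B B, D x = 0) → ∃ y : L, y ^ p = algebraMap B L x

theorem derivation_pow_char {R B : Type*} [CommRing R] [CommRing B] [Algebra R B] (p : ℕ)
    [CharP B p] (D : Derivation R B B) (s : B) : D (s ^ p) = 0 := by
  rw [Derivation.leibniz_pow, ← Nat.cast_smul_eq_nsmul B, CharP.cast_eq_zero, zero_smul]

theorem derivation_pow_mul {R B : Type*} [CommRing R] [CommRing B] [Algebra R B] (p : ℕ)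
    [CharP B p] (D : Derivation R B B) (s x : B) : D (s ^ p * x) = s ^ p * D x := by
  rw [Derivation.leibniz, derivation_pow_char p, smul_zero, add_zero, smul_eq_mul]

theorem PKer.localization {p : ℕ} [Fact p.Prime] {B S L : Type u} [CommRing B] [IsDomain B]
    [CommRing S] [IsDomain S] [Field L] [Algebra B L] [Algebra B S] [Algebra S L]
    [IsScalarTower B S L] [CharP B p] [CharP S p] (b : B) (hb : b ≠ 0) [IsLocalization.Away b S]
    (hinj : Function.Injective (algebraMap B L)) (h : PKer p B L) : PKer p S L := by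
  intro x hx
  obtain ⟨a, ⟨_, n, rfl⟩, rfl⟩ := IsLocalization.exists_mk'_eq (Submonoid.powers b) x
  have hp1 : 1 ≤ p := (Fact.out : p.Prime).one_le
  have hzy : algebraMap B S ((b ^ n) ^ (p - 1) * a) =
      algebraMap B S (b ^ n) ^ p *
        IsLocalization.mk' S a (⟨b ^ n, n, rfl⟩ : Submonoid.powers b) := by
    let y : Submonoid.powers b := ⟨b ^ n, n, rfl⟩
    show _ = algebraMap B S (y : B) ^ p * IsLocalization.mk' S a y
    rw [← pow_sub_one_mul (show p ≠ 0 by omega) (algebraMap B S (y : B)), mul_assoc,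
      IsLocalization.mk'_spec', map_mul, map_pow]
  obtain ⟨y, hy⟩ := h ((b ^ n) ^ (p - 1) * a) fun D => by
    obtain ⟨E, hE⟩ := EGA41Lib.NagataCrit.exists_extension_localization (Submonoid.powers b)
      (S := S) (K := S) ((Algebra.linearMap B S).compDer D)
    have hSinj : Function.Injective (algebraMap B S) :=
      IsLocalization.injective S (powers_le_nonZeroDivisors_of_noZeroDivisors hb)
    refine (map_eq_zero_iff _ hSinj).mp ?_
    have h1 := hE ((b ^ n) ^ (p - 1) * a)
    rw [hzy, derivation_pow_mul p E, hx E, mul_zero] at h1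
    exact h1.symm
  have hbL : algebraMap B L (b ^ n) ≠ 0 := (map_ne_zero_iff _ hinj).mpr (pow_ne_zero _ hb)
  refine ⟨y / algebraMap B L (b ^ n), ?_⟩
  rw [div_pow, hy, div_eq_iff (pow_ne_zero _ hbL), IsScalarTower.algebraMap_apply B S L, hzy,
    map_mul, map_pow (algebraMap S L), ← IsScalarTower.algebraMap_apply B S L, mul_comm]

/-- If every derivation killing `f` kills `a`, and `E f = 1`, then `a` is a `p`-th power wherever
`f` and all elements killed by every derivation are. -/
theorem exists_pow_of_forall {p : ℕ} [Fact p.Prime] {B M : Type u} [CommRing B] [Field M]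
    [CharP B p] [CharP M p] (χ : B →+* M)
    (hker : ∀ x : B, (∀ D : Derivation ℤ B B, D x = 0) → ∃ z : M, z ^ p = χ x)
    (E : Derivation ℤ B B) (f : B) (hE : E f = 1) (hf : ∃ z : M, z ^ p = χ f) (a : B)
    (ha : ∀ D : Derivation ℤ B B, D f = 0 → D a = 0) : ∃ z : M, z ^ p = χ a := by
  have hp : p.Prime := Fact.out
  let W : Set B := {a | ∀ D : Derivation ℤ B B, D f = 0 → D a = 0}
  have hWE : ∀ a ∈ W, E a ∈ W := by
    intro a ha D hD
    have h2 := ha ⁅D, E⁆ (by rw [Derivation.commutator_apply, hE, hD]; simp)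
    rw [Derivation.commutator_apply, ha D hD, map_zero, sub_zero] at h2
    exact h2
  have hWEi : ∀ (i : ℕ) (a : B), a ∈ W → E^[i] a ∈ W := fun i => by
    induction i with
    | zero => exact fun a ha => ha
    | succ i ih => intro a ha; rw [Function.iterate_succ_apply]; exact ih _ (hWE a ha)
  have hall : ∀ a ∈ W, E a = 0 → ∀ D : Derivation ℤ B B, D a = 0 := by
    intro a ha h0 D
    have h := ha (D - D f • E) (by simp [hE])
    simpa [h0] using h
  have key : ∀ i : ℕ, i < p → ∀ a ∈ W, E^[i + 1] a = 0 → ∃ z : M, z ^ p = χ a := by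
    intro i
    induction i with
    | zero => exact fun _ a ha h0 => hker a (hall a ha h0)
    | succ i ih =>
      intro hi a ha h0
      set y := E^[i + 1] a with hy
      have hy0 : ∀ D : Derivation ℤ B B, D y = 0 :=
        hall y (hWEi _ a ha) (by rw [hy, ← Function.iterate_succ_apply' E (i + 1) a]; exact h0)
      have hyf : ∀ j m : ℕ, E^[j] (y * f ^ m) = (m.descFactorial j : B) * (y * f ^ (m - j)) := by
        intro j
        induction j with
        | zero => simp
        | succ j ihj =>
          intro m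
          rw [Function.iterate_succ_apply', ihj, Derivation.leibniz, Derivation.map_natCast,
            smul_zero, add_zero, Derivation.leibniz, hy0 E, smul_zero, add_zero,
            Derivation.leibniz_pow, hE, Nat.descFactorial_succ, Nat.cast_mul, Nat.sub_sub]
          simp only [smul_eq_mul, nsmul_eq_mul, mul_one]
          ring
      have hfm : ∀ D : Derivation ℤ B B, D f = 0 → D (y * f ^ (i + 1)) = 0 := fun D hD => by
        simp [Derivation.leibniz, Derivation.leibniz_pow, hy0 D, hD]
      let a' : B := ((i + 1).factorial : B) * a - y * f ^ (i + 1)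
      have ha' : a' ∈ W := fun D hD => by
        show D (((i + 1).factorial : B) * a - y * f ^ (i + 1)) = 0
        rw [map_sub, hfm D hD, Derivation.leibniz, ha D hD, Derivation.map_natCast]
        simp
      have hlin : ∀ (j : ℕ) (c : ℕ) (u v : B), E^[j] ((c : B) * u - v) = c * E^[j] u - E^[j] v := by
        intro j c
        induction j with
        | zero => simp
        | succ j ihj =>
          intro u v
          simp only [Function.iterate_succ_apply', ihj, map_sub, Derivation.leibniz,
            Derivation.map_natCast, smul_zero, add_zero, smul_eq_mul, mul_zero]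
      have h1 : E^[i + 1] a' = 0 := by
        rw [hlin, hyf, Nat.descFactorial_self, Nat.sub_self, pow_zero, mul_one, ← hy, sub_self]
      obtain ⟨z₁, hz₁⟩ := ih (by omega) a' ha' h1
      obtain ⟨z₂, hz₂⟩ := hker y hy0
      obtain ⟨z₃, hz₃⟩ := hf
      have hfac : ((i + 1).factorial : M) ≠ 0 := by
        rw [Ne, CharP.cast_eq_zero_iff M p, hp.dvd_factorial]
        omega
      obtain ⟨w, hw⟩ : ∃ w : M, w ^ p = ((i + 1).factorial : M) :=
        ⟨((i + 1).factorial : M), by rw [← frobenius_def, map_natCast]⟩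
      refine ⟨(z₁ + z₂ * z₃ ^ (i + 1)) / w, ?_⟩
      rw [div_pow, hw, add_pow_char, mul_pow, hz₁, hz₂, ← pow_mul, mul_comm (i + 1) p, pow_mul,
        hz₃, div_eq_iff hfac]
      show χ (((i + 1).factorial : B) * a - y * f ^ (i + 1)) + χ y * χ f ^ (i + 1) = _
      rw [map_sub, map_mul, map_mul, map_pow, map_natCast]
      ring
  refine key (p - 1) (by have := hp.pos; omega) a ha ?_
  rw [Nat.sub_add_cancel hp.one_le]
  obtain ⟨Ep, hEp⟩ := Hoch95.exists_iterPow p E
  rw [← hEp]
  refine ha Ep ?_
  rw [hEp, show p = (p - 2) + 1 + 1 by have := hp.two_le; omega, Function.iterate_succ_apply,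
    hE, Function.iterate_succ_apply, Derivation.map_one_eq_zero]
  exact Function.iterate_fixed (map_zero E) _

/-- The monogenic model of a simple extension. -/
theorem exists_lift_adjoinRoot {B L L₁ : Type u} [CommRing B] [IsDomain B] [Field L] [Field L₁]
    [Algebra B L] [IsFractionRing B L] [Algebra B L₁] [Algebra L L₁] [IsScalarTower B L L₁]
    (α : L₁) (hα : IsIntegral L α) (hgen : Algebra.adjoin L {α} = ⊤) (g : B[X]) (hg : g.Monic)
    (hmap : g.map (algebraMap B L) = minpoly L α) :
    ∃ φ : AdjoinRoot g →ₐ[B] L₁, φ (AdjoinRoot.root g) = α ∧ Function.Injective φ ∧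
      ∀ z : L₁, ∃ (c : AdjoinRoot g) (s : B), s ≠ 0 ∧ φ c = algebraMap B L₁ s * z := by
  have hev : aeval α g = 0 := by
    rw [← aeval_map_algebraMap L, hmap, minpoly.aeval]
  let φ : AdjoinRoot g →ₐ[B] L₁ := AdjoinRoot.liftAlgHom g (Algebra.ofId B L₁) α hev
  have hmk : ∀ P, φ (AdjoinRoot.mk g P) = aeval α P := fun P =>
    by simp [φ, AdjoinRoot.liftAlgHom, Polynomial.aeval_def]
  refine ⟨φ, ?_, ?_, fun z => ?_⟩
  · rw [← AdjoinRoot.mk_X, hmk, aeval_X]
  · rw [injective_iff_map_eq_zero]
    intro x hx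
    obtain ⟨P, rfl⟩ := AdjoinRoot.mk_surjective x
    rw [← Polynomial.modByMonic_add_div P g, map_add, map_mul, AdjoinRoot.mk_self, zero_mul,
      add_zero] at hx ⊢
    rw [hmk, ← aeval_map_algebraMap L] at hx
    by_contra hne
    have hR : (P %ₘ g).map (algebraMap B L) ≠ 0 := fun h =>
      hne (by rw [(Polynomial.map_eq_zero_iff (IsFractionRing.injective B L)).mp h, map_zero])
    have h1 := minpoly.degree_le_of_ne_zero L α hR hx
    rw [← hmap, hg.degree_map, degree_map_eq_of_injective (IsFractionRing.injective B L)] at h1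
    exact absurd (Polynomial.degree_modByMonic_lt P hg) (not_lt.mpr h1)
  · obtain ⟨P, rfl⟩ : ∃ P : L[X], aeval α P = z := by
      have hz : z ∈ Algebra.adjoin L {α} := hgen ▸ Algebra.mem_top
      rw [Algebra.adjoin_singleton_eq_range_aeval] at hz
      exact hz
    obtain ⟨s, hs⟩ := IsLocalization.integerNormalization_map_to_map (nonZeroDivisors B) P
    refine ⟨AdjoinRoot.mk g (IsLocalization.integerNormalization (nonZeroDivisors B) P), s,
      nonZeroDivisors.ne_zero s.2, ?_⟩
    rw [hmk, ← aeval_map_algebraMap L, hs, ← algebraMap_smul L (s : B) P,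
      map_smul, Algebra.smul_def, ← IsScalarTower.algebraMap_apply]

theorem isFractionRing_adjoinRoot {B L₁ : Type u} [CommRing B] [Field L₁] [Algebra B L₁]
    (g : B[X]) [IsDomain (AdjoinRoot g)] [Algebra (AdjoinRoot g) L₁] [IsScalarTower B (AdjoinRoot g) L₁]
    (hB : Function.Injective (algebraMap B L₁))
    (hinj : Function.Injective (algebraMap (AdjoinRoot g) L₁))
    (hfrac : ∀ z : L₁, ∃ (c : AdjoinRoot g) (s : B), s ≠ 0 ∧
      algebraMap (AdjoinRoot g) L₁ c = algebraMap B L₁ s * z) :
    IsFractionRing (AdjoinRoot g) L₁ := by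
  haveI : FaithfulSMul (AdjoinRoot g) L₁ := (faithfulSMul_iff_algebraMap_injective _ _).mpr hinj
  refine IsFractionRing.of_field (AdjoinRoot g) L₁ fun z => ?_
  obtain ⟨c, s, hs, hc⟩ := hfrac z
  refine ⟨c, algebraMap B _ s, ?_⟩
  rw [hc, ← IsScalarTower.algebraMap_apply, mul_div_cancel_left₀ _
    ((map_ne_zero_iff _ hB).mpr hs)]

/-- `B[X]/(X^p - f)` is regular if `B` is and some derivation takes the value one at `f`. -/
theorem isRegularRing_adjoinRoot {p : ℕ} [Fact p.Prime] {B : Type u} [CommRing B] [IsRegularRing B]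
    [CharP B p] (E : Derivation ℤ B B) (f : B) (hE : E f = 1) :
    IsRegularRing (AdjoinRoot (X ^ p - C f : B[X])) := by
  set g : B[X] := X ^ p - C f with hg
  haveI : IsNoetherianRing (AdjoinRoot g) := isNoetherianRing_of_surjective _ _ _ AdjoinRoot.mk_surjective
  refine isRegularRing_iff.mpr fun Q hQ => ?_
  let P : Ideal B[X] := Q.comap (AdjoinRoot.mk g)
  haveI : P.IsPrime := Ideal.IsPrime.comap _
  have hqP : Ideal.span ({g} : Set B[X]) ≤ P := by
    rw [Ideal.span_le, Set.singleton_subset_iff]
    show AdjoinRoot.mk g g ∈ Q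
    rw [AdjoinRoot.mk_self]; exact Q.zero_mem
  have hPQ : P.map (Ideal.Quotient.mk (Ideal.span ({g} : Set B[X]))) = Q :=
    Ideal.map_comap_of_surjective _ Ideal.Quotient.mk_surjective Q
  haveI : (P.map (Ideal.Quotient.mk (Ideal.span ({g} : Set B[X])))).IsPrime := by rw [hPQ]; exact hQ
  haveI : IsRegularLocalRing (Localization.AtPrime P) := IsRegularRing.isRegularLocalRing_localization P
  letI : Algebra (ZMod p) B[X] := ZMod.algebra _ p
  let k := ULift.{u} (ZMod p)
  letI : Algebra k B[X] :=
    ((algebraMap (ZMod p) B[X]).comp (ULift.ringEquiv (R := ZMod p)).toRingHom).toAlgebra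
  let d : B[X] →+ B[X] := (polyDer E 0).toLinearMap.toAddMonoidHom
  let D : Derivation k B[X] B[X] := Derivation.mk'
    { toFun := d, map_add' := d.map_add, map_smul' := fun c x => by
        show d (algebraMap (ZMod p) B[X] c.down * x) = algebraMap (ZMod p) B[X] c.down * d x
        rw [← Algebra.smul_def, ← Algebra.smul_def, ZMod.map_smul] }
    fun a b => by exact (polyDer E 0).leibniz a b
  have hDg : D g = -1 := by
    show polyDer E 0 g = -1
    rw [hg, map_sub, Derivation.leibniz_pow, polyDer_X, polyDer_C, hE]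
    simp
  have hJC : EGA41Lib.NagataCrit.JC k (Ideal.span ({g} : Set B[X])) P := by
    refine ⟨1, fun _ => D, fun _ => g, fun _ => Ideal.mem_span_singleton_self g, ?_, ?_⟩
    · rw [Ideal.map_span, Set.image_singleton, Set.range_const]
    · rw [Matrix.det_unique, Matrix.of_apply]
      show D g ∉ P
      rw [hDg]
      intro h
      exact ‹P.IsPrime›.ne_top (P.eq_top_iff_one.mpr (by simpa using P.neg_mem h))
  have h := EGA41Lib.NagataCrit.isRegular_of_JC hqP hJC
  have main : ∀ (Q' : Ideal (B[X] ⧸ Ideal.span ({g} : Set B[X]))) (_ : Q'.IsPrime),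
      P.map (Ideal.Quotient.mk (Ideal.span ({g} : Set B[X]))) = Q' →
      IsRegularLocalRing (Localization.AtPrime Q') := by
    rintro _ _ rfl
    exact h
  exact main Q hQ hPQ

theorem pker_adjoinRoot_pthRoot {p : ℕ} [Fact p.Prime] {B L L₁ : Type u} [CommRing B] [IsDomain B]
    [Field L] [Field L₁] [Algebra B L] [IsFractionRing B L] [Algebra B L₁] [Algebra L L₁]
    [IsScalarTower B L L₁] [CharP B p] [CharP L₁ p] (f : B) (E : Derivation ℤ B B) (hE : E f = 1)
    (α : L₁) (hα : α ^ p = algebraMap B L₁ f)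
    (g : B[X]) (hg : g = X ^ p - C f)
    (φ : AdjoinRoot g →ₐ[B] L₁) (h : PKer p B L) :
    letI := φ.toRingHom.toAlgebra
    PKer p (AdjoinRoot g) L₁ := by
  letI := φ.toRingHom.toAlgebra
  have hp : p.Prime := Fact.out
  have hgm : g.Monic := hg ▸ monic_X_pow_sub_C f hp.ne_zero
  intro x hx
  obtain ⟨P₀, rfl⟩ := AdjoinRoot.mk_surjective x
  set P := P₀ %ₘ g with hP
  have hmkP : AdjoinRoot.mk g P₀ = AdjoinRoot.mk g P := by
    conv_lhs => rw [← Polynomial.modByMonic_add_div P₀ g, map_add, map_mul, AdjoinRoot.mk_self,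
      zero_mul, add_zero]
  rw [hmkP] at hx ⊢
  have hdeg : P.degree < g.degree := Polynomial.degree_modByMonic_lt P₀ hgm
  have hgdeg : g.degree = p := hg ▸ degree_X_pow_sub_C hp.pos f
  have hzero : ∀ Q : B[X], Q.degree < g.degree → AdjoinRoot.mk g Q = 0 → Q = 0 := fun Q hQ h0 => by
    by_contra hne
    exact hgm.not_dvd_of_degree_lt hne hQ (AdjoinRoot.mk_eq_zero.mp h0)
  -- `∂/∂α`
  obtain ⟨D₁, hD₁⟩ := exists_derivation_adjoinRoot g (0 : Derivation ℤ B B) 1 (by
    rw [polyDer_zero, hg, derivative_sub, derivative_X_pow, derivative_C, sub_zero,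
      CharP.cast_eq_zero B p, map_zero, zero_mul, map_zero])
  have hder : derivative P = 0 := by
    refine hzero _ (lt_of_le_of_lt (degree_derivative_le) hdeg) ?_
    rw [← polyDer_zero P, ← hD₁]
    exact hx D₁
  have hPC : P = C (P.coeff 0) := by
    ext n
    rw [coeff_C]
    rcases n with _ | n
    · simp
    · rw [if_neg (Nat.succ_ne_zero n)]
      by_cases hn : P.coeff (n + 1) = 0
      · exact hn
      have hlt : (n + 1 : ℕ) < p := by
        have h1 := lt_of_le_of_lt (Polynomial.le_degree_of_ne_zero hn) hdeg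
        rw [hgdeg] at h1
        exact_mod_cast h1
      have h2 := congrArg (fun Q => Q.coeff n) hder
      rw [coeff_derivative, coeff_zero] at h2
      refine (mul_eq_zero.mp h2).resolve_right fun h3 => ?_
      rw [← Nat.cast_one, ← Nat.cast_add, CharP.cast_eq_zero_iff B p] at h3
      exact absurd (Nat.le_of_dvd (Nat.succ_pos n) h3) (not_le.mpr hlt)
  rw [hPC] at hx ⊢
  rw [RingHom.algebraMap_toAlgebra]
  show ∃ y : L₁, y ^ p = φ (AdjoinRoot.mk g (C (P.coeff 0)))
  rw [show φ (AdjoinRoot.mk g (C (P.coeff 0))) = algebraMap B L₁ (P.coeff 0) from φ.commutes _]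
  refine exists_pow_of_forall (algebraMap B L₁) ?_ E f hE ⟨α, hα⟩ _ fun D hD => ?_
  · intro y hy
    obtain ⟨z, hz⟩ := h y hy
    exact ⟨algebraMap L L₁ z, by rw [← map_pow, hz, ← IsScalarTower.algebraMap_apply]⟩
  · obtain ⟨D', hD'⟩ := exists_derivation_adjoinRoot g D 0 (by
      rw [hg, map_sub, Derivation.leibniz_pow, polyDer_X, polyDer_C, hD]
      simp)
    have h1 := hx D'
    rw [hD', polyDer_C] at h1
    have h2 := hzero _ (lt_of_le_of_lt degree_C_le (by rw [hgdeg]; exact_mod_cast hp.pos)) h1
    exact C_eq_zero.mp h2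

theorem pker_adjoinRoot_separable {p : ℕ} [Fact p.Prime] {B L L₁ : Type u} [CommRing B] [IsDomain B]
    [Field L] [Field L₁] [Algebra B L] [IsFractionRing B L] [Algebra B L₁] [Algebra L L₁]
    [IsScalarTower B L L₁] [CharP B p] [CharP L₁ p] (g : B[X]) (hg : g.Monic) (α : L₁)
    (hsep : IsSeparable L α) (hgen : Algebra.adjoin L {α} = ⊤)
    (hmap : g.map (algebraMap B L) = minpoly L α) [IsDomain (AdjoinRoot g)]
    (φ : AdjoinRoot g →ₐ[B] L₁) (hα : φ (AdjoinRoot.root g) = α) (hφ : Function.Injective φ)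
    (h : PKer p B L) :
    letI := φ.toRingHom.toAlgebra
    PKer p (AdjoinRoot g) L₁ := by
  classical
  letI := φ.toRingHom.toAlgebra
  have hp : p.Prime := Fact.out
  haveI : CharP L p := charP_of_injective_algebraMap (IsFractionRing.injective B L) p
  haveI : Module.Finite B (AdjoinRoot g) := hg.finite_adjoinRoot
  have hCinj : Function.Injective (algebraMap B L₁) := by
    rw [IsScalarTower.algebraMap_eq B L L₁]
    exact (algebraMap L L₁).injective.comp (IsFractionRing.injective B L)
  haveI : CharP (AdjoinRoot g) p := (φ.toRingHom.charP_iff hφ p).mpr inferInstance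
  have hmk : ∀ P, φ (AdjoinRoot.mk g P) = aeval α P := fun P => by
    rw [← AdjoinRoot.aeval_eq, ← aeval_algHom_apply, hα]
  -- a multiple of the derivative in the base
  obtain ⟨c, hc0, w, hw⟩ : ∃ c : B, c ≠ 0 ∧ ∃ w : AdjoinRoot g,
      algebraMap B (AdjoinRoot g) c = AdjoinRoot.mk g (derivative g) * w := by
    by_contra hcon
    push Not at hcon
    have hne : AdjoinRoot.mk g (derivative g) ≠ 0 := by
      intro h0
      have h1 := congrArg φ h0
      rw [hmk, map_zero, ← aeval_map_algebraMap L, ← derivative_map, hmap] at h1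
      exact hsep.aeval_derivative_ne_zero (minpoly.aeval L α) h1
    refine Ideal.comap_ne_bot_of_integral_mem hne (Ideal.mem_span_singleton_self _)
      (Algebra.IsIntegral.isIntegral (R := B) _) ?_
    rw [eq_bot_iff]
    intro b hb
    obtain ⟨w, hw⟩ := Ideal.mem_span_singleton.mp hb
    by_contra hb0
    exact hcon b hb0 w hw
  have hext : ∀ D : Derivation ℤ B B, ∃ D' : Derivation ℤ (AdjoinRoot g) (AdjoinRoot g),
      ∀ b, D' (algebraMap B _ b) = algebraMap B _ (c * D b) := by
    intro D
    obtain ⟨v, hv⟩ := AdjoinRoot.mk_surjective (-(w * AdjoinRoot.mk g (polyDer D 0 g)))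
    obtain ⟨D', hD'⟩ := exists_derivation_adjoinRoot g (c • D) v (by
      rw [polyDer_eq, polyDer_smul, map_add, map_mul, map_mul, hv, AdjoinRoot.mk_C,
        ← AdjoinRoot.algebraMap_eq g, hw]
      ring)
    refine ⟨D', fun b => ?_⟩
    rw [AdjoinRoot.algebraMap_eq, ← AdjoinRoot.mk_C, hD', polyDer_C]
    rfl
  -- the power basis at `α ^ p`
  have hαint : IsIntegral L α := hsep.isIntegral
  have htop : Algebra.adjoin L {α ^ p} = ⊤ := by
    rw [← IntermediateField.adjoin_simple_toSubalgebra_of_isAlgebraic (hαint.pow p).isAlgebraic,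
      ← IntermediateField.adjoin_simple_eq_adjoin_pow_expChar_of_isSeparable L L₁ hsep p,
      IntermediateField.adjoin_simple_toSubalgebra_of_isAlgebraic hαint.isAlgebraic, hgen]
  let pb := PowerBasis.ofAdjoinEqTop (hαint.pow p) htop
  have hpb : pb.gen = α ^ p := PowerBasis.ofAdjoinEqTop_gen _ _
  intro x hx
  obtain ⟨⟨s, hs⟩, hsint⟩ := IsLocalization.exist_integer_multiples_of_finite (nonZeroDivisors B)
    (fun i => pb.basis.repr (φ x) i)
  choose β hβ using hsint
  let γ : Fin pb.dim → B := fun i => s ^ (p - 1) * β i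
  have hs0 : s ≠ 0 := nonZeroDivisors.ne_zero hs
  have hφx : algebraMap B L₁ (s ^ p) * φ x =
      ∑ i, algebraMap B L₁ (γ i) * (α ^ p) ^ (i : ℕ) := by
    conv_lhs => rw [← pb.basis.sum_repr (φ x), Finset.mul_sum]
    refine Finset.sum_congr rfl fun i _ => ?_
    rw [pb.coe_basis, hpb, Algebra.smul_def, ← mul_assoc]
    congr 1
    rw [IsScalarTower.algebraMap_apply B L L₁ (γ i), IsScalarTower.algebraMap_apply B L L₁ (s ^ p),
      ← map_mul]
    congr 1
    simp only [γ]
    rw [map_mul, hβ i, Algebra.smul_def, ← mul_assoc, ← map_mul,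
      pow_sub_one_mul hp.ne_zero]
  have hCx : algebraMap B (AdjoinRoot g) (s ^ p) * x =
      ∑ i, algebraMap B (AdjoinRoot g) (γ i) * (AdjoinRoot.root g ^ (i : ℕ)) ^ p := by
    refine hφ ?_
    rw [map_mul, φ.commutes, hφx, map_sum]
    refine Finset.sum_congr rfl fun i _ => ?_
    rw [map_mul φ, φ.commutes, map_pow, map_pow, hα, ← pow_mul, ← pow_mul, mul_comm (i : ℕ) p]
  have hγ : ∀ i, ∀ D : Derivation ℤ B B, D (γ i) = 0 := by
    intro i D
    obtain ⟨D', hD'⟩ := hext D
    have h1 := congrArg D' hCx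
    rw [map_pow, derivation_pow_mul p D', hx D', mul_zero, map_sum] at h1
    have h2 : ∑ j, algebraMap B L₁ (c * D (γ j)) * (α ^ p) ^ (j : ℕ) = 0 := by
      have h3 := congrArg φ h1.symm
      rw [map_zero, map_sum] at h3
      rw [← h3]
      refine Finset.sum_congr rfl fun j _ => ?_
      rw [mul_comm (algebraMap B (AdjoinRoot g) (γ j)), derivation_pow_mul p D', hD', map_mul φ,
        φ.commutes, map_pow, map_pow, hα, ← pow_mul, ← pow_mul, mul_comm p, mul_comm (algebraMap B L₁ _)]
    have h4 := Fintype.linearIndependent_iff.mp pb.basis.linearIndependent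
      (fun j => algebraMap B L (c * D (γ j))) (by
        rw [← h2]
        refine Finset.sum_congr rfl fun j _ => ?_
        rw [pb.coe_basis, hpb, Algebra.smul_def, ← IsScalarTower.algebraMap_apply]) i
    exact (mul_eq_zero.mp ((map_eq_zero_iff _ (IsFractionRing.injective B L)).mp h4)).resolve_left hc0
  choose y hy using fun i => h (γ i) (hγ i)
  refine ⟨(∑ i, algebraMap L L₁ (y i) * α ^ (i : ℕ)) / algebraMap B L₁ s, ?_⟩
  have hsL : algebraMap B L₁ (s ^ p) ≠ 0 := (map_ne_zero_iff _ hCinj).mpr (pow_ne_zero p hs0)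
  show _ = φ x
  rw [div_pow, ← map_pow (algebraMap B L₁), div_eq_iff hsL, mul_comm (φ x), hφx, sum_pow_char]
  refine Finset.sum_congr rfl fun i _ => ?_
  rw [mul_pow, ← map_pow (algebraMap L L₁), hy, ← IsScalarTower.algebraMap_apply, ← pow_mul,
    ← pow_mul, mul_comm p]

end Groth.Agent.EGA4Lib.DerKernel
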