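import Groth.Agent.EGA4Lib.SmoothRegular
import Groth.Agent.CAlg48.SepGen
import Mathlib.RingTheory.Spectrum.Prime.FreeLocus
import Mathlib.FieldTheory.IsAlgClosed.AlgebraicClosure
import Mathlib.RingTheory.Nilpotent.GeometricallyReduced
import Mathlib.RingTheory.EssentialFiniteness
import Mathlib.RingTheory.Ideal.GoingUp
import Mathlib.RingTheory.Localization.Integral
import Mathlib.RingTheory.Smooth.Locus
import Mathlib.RingTheory.Artinian.Module

/-!
# Generic regularity of finite type algebras (EGA IV 6.12.4)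
-/

set_option autoImplicit false
set_option linter.style.haveILetI false

open IsLocalRing TensorProduct

namespace Groth.Agent.EGA4Lib

universe u

section field

variable (K F : Type u) [Field K] [Field F] [Algebra K F] [Algebra.EssFiniteType K F]

variable {K F}

omit [Algebra.EssFiniteType K F] in
theorem exists_geometricallyReduced_compositum_aux (K' L : Type u) [Field K'] [Field L]
    [Algebra K K'] [Algebra K L] [Algebra K' L] [IsScalarTower K K' L] [Module.Finite K K']
    [IsAlgClosed L] [Algebra.IsAlgebraic K L] (P0 : Ideal (L ⊗[K] F)) [P0.IsMaximal]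
    (G : Finset (L ⊗[K] F)) (hG : Ideal.span (G : Set (L ⊗[K] F)) = P0)
    (hGr : ∀ g ∈ G, g ∈ (Algebra.TensorProduct.map (Algebra.ofId K' L) (AlgHom.id K F)).range) :
    ∃ (P : Ideal (K' ⊗[K] F)) (_ : P.IsMaximal),
      Algebra.IsGeometricallyReduced K' ((K' ⊗[K] F) ⧸ P) := by
  classical
  let incl : (K' ⊗[K] F) →ₐ[K'] L ⊗[K] F :=
    Algebra.TensorProduct.map (Algebra.ofId K' L) (AlgHom.id K F)
  let P : Ideal (K' ⊗[K] F) := P0.comap incl.toRingHom
  haveI : P.IsPrime := Ideal.IsPrime.comap _
  haveI : Module.Finite F (F ⊗[K] K') := inferInstance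
  haveI : IsArtinianRing (F ⊗[K] K') := isArtinian_of_tower F inferInstance
  let σ : (F ⊗[K] K') ≃ₐ[K] (K' ⊗[K] F) := Algebra.TensorProduct.comm K F K'
  haveI hPmax : P.IsMaximal := by
    haveI : (P.comap σ.toRingEquiv.toRingHom).IsPrime := Ideal.IsPrime.comap _
    haveI : (P.comap σ.toRingEquiv.toRingHom).IsMaximal := IsArtinianRing.isMaximal_of_isPrime _
    have h := Ideal.map_isMaximal_of_equiv σ.toRingEquiv (p := P.comap σ.toRingEquiv.toRingHom)
    rwa [show (P.comap σ.toRingEquiv.toRingHom).map σ.toRingEquiv = P from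
      Ideal.map_comap_of_surjective _ σ.toRingEquiv.surjective P] at h
  refine ⟨P, hPmax, ?_⟩
  have hmap : P.map incl.toRingHom = P0 := by
    refine le_antisymm Ideal.map_comap_le ?_
    rw [← hG]
    refine Submodule.span_le.2 fun g hg => ?_
    obtain ⟨g', hg'⟩ := hGr g hg
    rw [← hg']
    refine Ideal.mem_map_of_mem _ (show incl g' ∈ P0 from ?_)
    rw [← hG]; exact Submodule.subset_span (show incl g' ∈ (G : Set _) from hg' ▸ hg)
  let F' := (K' ⊗[K] F) ⧸ P
  let j : F' →ₐ[K'] (L ⊗[K] F) ⧸ P0 := Ideal.quotientMapₐ P0 incl le_rfl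
  let ψ : L ⊗[K'] F' →ₐ[L] (L ⊗[K] F) ⧸ P0 :=
    Algebra.TensorProduct.lift (Algebra.ofId L _) j fun _ _ => Commute.all _ _
  have hψ : Function.Injective ψ := by
    rw [injective_iff_map_eq_zero]
    intro z hz
    let π : L ⊗[K'] (K' ⊗[K] F) →ₐ[L] L ⊗[K'] F' :=
      Algebra.TensorProduct.map (AlgHom.id L L) (Ideal.Quotient.mkₐ K' P)
    have hsurj : ∀ z, ∃ w, π w = z := fun z => by
      induction z using TensorProduct.induction_on with
      | zero => exact ⟨0, map_zero _⟩
      | tmul l x =>
        obtain ⟨x, rfl⟩ := Ideal.Quotient.mk_surjective x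
        exact ⟨l ⊗ₜ x, rfl⟩
      | add a b ha hb =>
        obtain ⟨a', rfl⟩ := ha
        obtain ⟨b', rfl⟩ := hb
        exact ⟨a' + b', map_add _ _ _⟩
    obtain ⟨w, rfl⟩ := hsurj z
    let c : L ⊗[K'] (K' ⊗[K] F) ≃ₐ[L] L ⊗[K] F := Algebra.TensorProduct.cancelBaseChange K K' L L F
    have hc : ∀ x, c ((1 : L) ⊗ₜ[K'] x) = incl x := fun x => by
      induction x using TensorProduct.induction_on with
      | zero => simp
      | tmul k f => simp [c, incl, Algebra.smul_def, Algebra.ofId_apply]
      | add a b ha hb => rw [TensorProduct.tmul_add, map_add, map_add, ha, hb]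
    have hψπ : ψ.comp π = ((Ideal.Quotient.mkₐ L P0).comp c.toAlgHom) := by
      refine Algebra.TensorProduct.ext (Subsingleton.elim _ _) (AlgHom.ext fun x => ?_)
      simp only [AlgHom.coe_comp, AlgHom.coe_restrictScalars', Function.comp_apply,
        Algebra.TensorProduct.includeRight_apply, AlgEquiv.coe_toAlgHom]
      rw [hc]
      simp [π, ψ, j, Ideal.Quotient.mkₐ_eq_mk]
      rfl
    have hw : c w ∈ P0 := by
      rw [← Ideal.Quotient.eq_zero_iff_mem, ← Ideal.Quotient.mkₐ_eq_mk L]
      exact (AlgHom.congr_fun hψπ w).symm.trans hz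
    have hle : P0.comap c.toAlgHom.toRingHom ≤
        P.map (Algebra.TensorProduct.includeRight : K' ⊗[K] F →ₐ[K'] L ⊗[K'] (K' ⊗[K] F)) := by
      intro v hv
      have h1 : (P.map incl.toRingHom) ≤
          (P.map (Algebra.TensorProduct.includeRight : K' ⊗[K] F →ₐ[K'] L ⊗[K'] (K' ⊗[K] F))).comap
            c.symm.toAlgHom.toRingHom := by
        rw [Ideal.map_le_iff_le_comap]
        intro x hx
        simp only [Ideal.mem_comap, AlgHom.toRingHom_eq_coe, RingHom.coe_coe,
          AlgEquiv.coe_toAlgHom]
        rw [← hc, AlgEquiv.symm_apply_apply]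
        exact Ideal.mem_map_of_mem _ hx
      have h2 := h1 (show c v ∈ P.map incl.toRingHom by rw [hmap]; exact hv)
      simpa using h2
    have hle2 : P.map (Algebra.TensorProduct.includeRight : K' ⊗[K] F →ₐ[K'] L ⊗[K'] (K' ⊗[K] F)) ≤
        RingHom.ker π.toRingHom := by
      rw [Ideal.map_le_iff_le_comap]
      intro x hx
      show π ((1 : L) ⊗ₜ[K'] x) = 0
      have h0 : Ideal.Quotient.mkₐ K' P x = 0 := Ideal.Quotient.eq_zero_iff_mem.2 hx
      simp [π, h0]
    exact hle2 (hle hw)
  haveI : IsAlgClosure K' L :=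
    ⟨inferInstance, Algebra.IsAlgebraic.tower_top (K := K) K'⟩
  let e : AlgebraicClosure K' ≃ₐ[K'] L := IsAlgClosure.equiv K' _ _
  rw [Algebra.isGeometricallyReduced_field_iff]
  haveI : IsReduced ((L ⊗[K] F) ⧸ P0) := by
    letI := Ideal.Quotient.field P0
    infer_instance
  haveI : IsReduced (L ⊗[K'] F') := isReduced_of_injective ψ.toRingHom hψ
  exact isReduced_of_injective (Algebra.TensorProduct.congr e AlgEquiv.refl) (AlgEquiv.injective _)

variable (K F)

/-- A finitely generated field extension becomes geometrically reduced, after a finite extension of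
the base field, on a suitable compositum. -/
theorem exists_geometricallyReduced_compositum :
    ∃ (K' : Type u) (_ : Field K') (_ : Algebra K K') (_ : Module.Finite K K')
      (P : Ideal (K' ⊗[K] F)) (_ : P.IsMaximal),
      Algebra.IsGeometricallyReduced K' ((K' ⊗[K] F) ⧸ P) := by
  classical
  let L := AlgebraicClosure K
  haveI : Algebra.EssFiniteType L (L ⊗[K] F) := inferInstance
  haveI : IsNoetherianRing (L ⊗[K] F) := Algebra.EssFiniteType.isNoetherianRing L (L ⊗[K] F)
  haveI : Nontrivial (L ⊗[K] F) :=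
    (Algebra.TensorProduct.includeRight_injective (A := L) (B := F) (algebraMap K L).injective).nontrivial
  obtain ⟨P0, hP0⟩ := Ideal.exists_maximal (L ⊗[K] F)
  obtain ⟨G, hG⟩ := IsNoetherian.noetherian P0
  have hsupp : ∀ t : L ⊗[K] F, ∃ s : Finset L, ∀ K' : IntermediateField K L, (s : Set L) ⊆ K' →
      t ∈ (Algebra.TensorProduct.map (Algebra.ofId K' L) (AlgHom.id K F)).range := by
    intro t
    induction t using TensorProduct.induction_on with
    | zero => exact ⟨∅, fun K' _ => zero_mem _⟩
    | tmul l f =>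
      exact ⟨{l}, fun K' h => ⟨(⟨l, h (Finset.mem_singleton_self l)⟩ : K') ⊗ₜ f, rfl⟩⟩
    | add a b ha hb =>
      obtain ⟨s, hs⟩ := ha
      obtain ⟨s', hs'⟩ := hb
      refine ⟨s ∪ s', fun K' h => add_mem (hs K' ?_) (hs' K' ?_)⟩
      · exact fun x hx => h (Finset.mem_union_left _ hx)
      · exact fun x hx => h (Finset.mem_union_right _ hx)
  choose supp hsupp using hsupp
  let S0 : Finset L := G.biUnion supp
  let K' : IntermediateField K L := IntermediateField.adjoin K (S0 : Set L)
  haveI : FiniteDimensional K K' :=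
    IntermediateField.finiteDimensional_adjoin fun x _ => Algebra.IsIntegral.isIntegral x
  have hGr : ∀ g ∈ G, g ∈ (Algebra.TensorProduct.map (Algebra.ofId K' L) (AlgHom.id K F)).range := fun g hg => hsupp g K' fun x hx =>
    IntermediateField.subset_adjoin K _ (Finset.mem_biUnion.2 ⟨g, hg, hx⟩)
  exact ⟨K', inferInstance, inferInstance, inferInstance,
    exists_geometricallyReduced_compositum_aux K' L P0 G hG hGr⟩

end field

section domain

theorem mem_regLocus_away {A : Type u} [CommRing A] (f : A)
    (Q : PrimeSpectrum (Localization.Away f)) :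
    Q ∈ EGA4.regLocus (Localization.Away f) ↔
      PrimeSpectrum.comap (algebraMap A (Localization.Away f)) Q ∈ EGA4.regLocus A := by
  constructor
  · intro h
    haveI : IsRegularLocalRing (Localization.AtPrime Q.asIdeal) := h
    exact IsRegularLocalRing.of_ringEquiv
      (IsLocalization.localizationLocalizationAtPrimeIsoLocalization (Submonoid.powers f) Q.asIdeal).symm.toRingEquiv
  · intro h
    haveI : IsRegularLocalRing (Localization.AtPrime
        (Q.asIdeal.comap (algebraMap A (Localization.Away f)))) := h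
    exact IsRegularLocalRing.of_ringEquiv
      (IsLocalization.localizationLocalizationAtPrimeIsoLocalization (Submonoid.powers f) Q.asIdeal).toRingEquiv

theorem exists_mem_away_of_notMem {A : Type u} [CommRing A] {f : A} (q : PrimeSpectrum A)
    (hf : f ∉ q.asIdeal) :
    ∃ Q : PrimeSpectrum (Localization.Away f),
      PrimeSpectrum.comap (algebraMap A (Localization.Away f)) Q = q := by
  have : q ∈ Set.range (PrimeSpectrum.comap (algebraMap A (Localization.Away f))) := by
    rw [PrimeSpectrum.localization_away_comap_range _ f]; exact hf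
  exact this

/-- Generic regularity descends along finite injective maps of domains. -/
theorem exists_forall_mem_regLocus_of_finite {A B : Type u} [CommRing A] [IsNoetherianRing A]
    [IsDomain A] [CommRing B] [IsDomain B] [Algebra A B] [Module.Finite A B]
    (hinj : Function.Injective (algebraMap A B))
    (h : ∃ g : B, g ≠ 0 ∧ ∀ q : PrimeSpectrum B, g ∉ q.asIdeal → q ∈ EGA4.regLocus B) :
    ∃ f : A, f ≠ 0 ∧ ∀ p : PrimeSpectrum A, f ∉ p.asIdeal → p ∈ EGA4.regLocus A := by
  obtain ⟨g, hg0, hg⟩ := h
  haveI : IsNoetherianRing B := IsNoetherianRing.of_finite A B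
  obtain ⟨f1, hf1, hf1ne⟩ : ∃ f1 : A, algebraMap A B f1 ∈ Ideal.span {g} ∧ f1 ≠ 0 := by
    by_contra hcon
    push Not at hcon
    refine Ideal.comap_ne_bot_of_integral_mem hg0 (Ideal.mem_span_singleton_self g)
      (Algebra.IsIntegral.isIntegral (R := A) g) ?_
    rw [eq_bot_iff]
    exact fun x hx => hcon x hx
  haveI : Module.FinitePresentation A B := Module.finitePresentation_of_finite A B
  have hbot : (⟨⊥, Ideal.isPrime_bot⟩ : PrimeSpectrum A) ∈ Module.freeLocus A B := by
    show Module.Free (Localization.AtPrime (⊥ : Ideal A)) _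
    haveI : IsFractionRing A (Localization.AtPrime (⊥ : Ideal A)) := by
      show IsLocalization (nonZeroDivisors A) (Localization.AtPrime (⊥ : Ideal A))
      have heq : (⊥ : Ideal A).primeCompl = nonZeroDivisors A := by
        ext x; simp [Ideal.primeCompl]
      rw [← heq]; infer_instance
    letI := IsFractionRing.toField A (K := Localization.AtPrime (⊥ : Ideal A))
    exact Module.Free.of_divisionRing _ _
  obtain ⟨_, ⟨_, ⟨f2, rfl⟩, rfl⟩, hxf, hf2⟩ :=
    PrimeSpectrum.isBasis_basic_opens.exists_subset_of_mem_open hbot Module.isOpen_freeLocus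
  have hf2ne : f2 ≠ 0 := fun h0 => hxf (show f2 ∈ (⊥ : Ideal A) by simp [h0])
  refine ⟨f1 * f2, mul_ne_zero hf1ne hf2ne, fun p hp => ?_⟩
  haveI := p.isPrime
  have hp1 : f1 ∉ p.asIdeal := fun h' => hp (Ideal.mul_mem_right _ _ h')
  have hp2 : f2 ∉ p.asIdeal := fun h' => hp (Ideal.mul_mem_left _ _ h')
  let A' := Localization.Away f2
  let B' := Localization.Away (algebraMap A B f2)
  haveI : IsLocalization (Algebra.algebraMapSubmonoid B (Submonoid.powers f2)) B' := by
    rw [Algebra.algebraMapSubmonoid_powers]; infer_instance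
  letI : Algebra A' B' :=
    (IsLocalization.map B' (algebraMap A B) (M := Submonoid.powers f2)
      (T := Algebra.algebraMapSubmonoid B (Submonoid.powers f2))
      (show Submonoid.powers f2 ≤ (Algebra.algebraMapSubmonoid B _).comap (algebraMap A B) from
        Submonoid.le_comap_map _)).toAlgebra
  haveI : IsScalarTower A A' B' := IsScalarTower.of_algebraMap_eq fun x => by
    rw [RingHom.algebraMap_toAlgebra, IsLocalization.map_eq]
    exact IsScalarTower.algebraMap_apply A B B' x
  let e₀ := IsLocalizedModule.iso (Submonoid.powers f2) (IsScalarTower.toAlgHom A B B').toLinearMap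
  let e := e₀.extendScalarsOfIsLocalization (Submonoid.powers f2) A'
  haveI : Module.Projective A' (LocalizedModule.Away f2 B) :=
    (Module.basicOpen_subset_freeLocus_iff).1 hf2
  haveI : Module.Flat A' (LocalizedModule.Away f2 B) := inferInstance
  haveI : Module.Flat A' B' := Module.Flat.of_linearEquiv e.symm
  haveI : Module.Finite A' (LocalizedModule.Away f2 B) :=
    Module.Finite.of_isLocalizedModule (Submonoid.powers f2)
      (LocalizedModule.mkLinearMap (Submonoid.powers f2) B)
  haveI : Module.Finite A' B' := Module.Finite.equiv e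
  haveI : IsNoetherianRing A' := IsLocalization.isNoetherianRing (Submonoid.powers f2) A' inferInstance
  have hinj' : Function.Injective (algebraMap A' B') :=
    IsLocalization.map_injective_of_injective (Submonoid.powers f2) A' B' hinj
  haveI : FaithfulSMul A' B' := (faithfulSMul_iff_algebraMap_injective A' B').2 hinj'
  obtain ⟨P, hP⟩ := exists_mem_away_of_notMem p hp2
  obtain ⟨Q, hQ⟩ := Algebra.IsIntegral.comap_surjective (R := A') (S := B') P
  rw [← hP, ← mem_regLocus_away]
  have hQA : PrimeSpectrum.comap (algebraMap A B) (PrimeSpectrum.comap (algebraMap B B') Q) = p := by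
    rw [← hP, ← hQ, ← PrimeSpectrum.comap_comp_apply, ← PrimeSpectrum.comap_comp_apply,
      ← IsScalarTower.algebraMap_eq, ← IsScalarTower.algebraMap_eq]
  have hgQ : g ∉ (PrimeSpectrum.comap (algebraMap B B') Q).asIdeal := fun h' => hp1 (by
    rw [← hQA]
    exact (Ideal.span_le.2 (Set.singleton_subset_iff.2 h')) hf1)
  haveI : IsRegularLocalRing (Localization.AtPrime Q.asIdeal) :=
    (mem_regLocus_away _ Q).2 (hg _ hgQ)
  have hPQ : P.asIdeal = Q.asIdeal.comap (algebraMap A' B') := by rw [← hQ]; rfl
  letI : Algebra (Localization.AtPrime P.asIdeal) (Localization.AtPrime Q.asIdeal) :=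
    (Localization.localRingHom P.asIdeal Q.asIdeal (algebraMap A' B') hPQ).toAlgebra
  haveI : IsLocalHom (algebraMap (Localization.AtPrime P.asIdeal) (Localization.AtPrime Q.asIdeal)) :=
    Localization.isLocalHom_localRingHom _ _ _ hPQ
  haveI : Module.Flat (Localization.AtPrime P.asIdeal) (Localization.AtPrime Q.asIdeal) :=
    RingHom.flat_algebraMap_iff.1 (flat_localRingHom Q.asIdeal P.asIdeal hPQ)
  exact RegLoc.Homological.isRegularLocalRing_of_flat (Localization.AtPrime Q.asIdeal)

theorem isFractionRing_adjoin (R K K' : Type u) [CommRing R] [IsDomain R] [Field K] [Field K']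
    [Algebra R K] [IsFractionRing R K] [Algebra K K'] [Algebra R K'] [IsScalarTower R K K']
    {ι : Type*} (b : Module.Basis ι K K') (T : Set K')
    (hT : ∀ i, ∃ r : nonZeroDivisors R, r • b i ∈ Algebra.adjoin R T) :
    IsFractionRing (Algebra.adjoin R T) K' := by
  set R' := Algebra.adjoin R T
  have hRK' : Function.Injective (algebraMap R K') := by
    rw [IsScalarTower.algebraMap_eq R K K']
    exact (algebraMap K K').injective.comp (IsFractionRing.injective R K)
  refine IsFractionRing.of_field R' K' fun z => ?_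
  let N : Submodule K K' :=
    { carrier := {z | ∃ r : R, r ≠ 0 ∧ algebraMap R K' r * z ∈ R'}
      add_mem' := by
        rintro z w ⟨r, hr, hrz⟩ ⟨s, hs, hsw⟩
        refine ⟨r * s, mul_ne_zero hr hs, ?_⟩
        have := add_mem (mul_mem (R'.algebraMap_mem s) hrz) (mul_mem (R'.algebraMap_mem r) hsw)
        convert this using 1
        rw [map_mul]; ring
      zero_mem' := ⟨1, one_ne_zero, by simp⟩
      smul_mem' := by
        rintro k z ⟨r, hr, hrz⟩
        obtain ⟨a, s, hs, rfl⟩ := IsFractionRing.div_surjective (A := R) k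
        have hs0 : s ≠ 0 := nonZeroDivisors.ne_zero hs
        refine ⟨r * s, mul_ne_zero hr hs0, ?_⟩
        have := mul_mem (R'.algebraMap_mem a) hrz
        convert this using 1
        have hsK : algebraMap R K' s ≠ 0 := (map_ne_zero_iff _ hRK').2 hs0
        rw [Algebra.smul_def, map_div₀, map_mul, ← IsScalarTower.algebraMap_apply R K K' s,
          ← IsScalarTower.algebraMap_apply R K K' a]
        field_simp }
  have hN : N = ⊤ := by
    rw [eq_top_iff, ← b.span_eq, Submodule.span_le]
    rintro _ ⟨i, rfl⟩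
    obtain ⟨r, hr⟩ := hT i
    refine ⟨r, nonZeroDivisors.ne_zero r.2, ?_⟩
    rwa [Submonoid.smul_def, Algebra.smul_def] at hr
  obtain ⟨r, hr, hrz⟩ : z ∈ N := hN ▸ Submodule.mem_top
  refine ⟨⟨_, hrz⟩, algebraMap R R' r, ?_⟩
  show z = algebraMap R K' r * z / algebraMap R K' r
  rw [mul_div_cancel_left₀ _ ((map_ne_zero_iff _ hRK').2 hr)]

theorem isFractionRing_of_generated (R' K' S F F' : Type u) [CommRing R'] [Field K'] [CommRing S]
    [Field F] [Field F'] [Algebra R' K'] [IsFractionRing R' K'] [Algebra S F] [IsFractionRing S F]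
    [IsDomain R'] [IsDomain S] [Algebra R' F'] [Algebra K' F'] [IsScalarTower R' K' F']
    [Algebra S F'] [Algebra F F'] [IsScalarTower S F F'] (Sp : Subalgebra S F')
    (hR' : ∀ x : R', algebraMap R' F' x ∈ Sp)
    (hgen : ∀ z : F', z ∈ AddSubmonoid.closure
      (Set.range fun kf : K' × F => algebraMap K' F' kf.1 * algebraMap F F' kf.2)) :
    IsFractionRing Sp F' := by
  refine IsFractionRing.of_field Sp F' fun z => ?_
  suffices h : ∃ x y : F', x ∈ Sp ∧ y ∈ Sp ∧ y ≠ 0 ∧ z * y = x by
    obtain ⟨x, y, hx, hy, hy0, h⟩ := h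
    exact ⟨⟨x, hx⟩, ⟨y, hy⟩, by rw [eq_div_iff (show algebraMap Sp F' ⟨y, hy⟩ ≠ 0 from hy0)]; exact h⟩
  induction hgen z using AddSubmonoid.closure_induction with
  | mem w hw =>
    obtain ⟨⟨k, f⟩, rfl⟩ := hw
    obtain ⟨a, s, hs, rfl⟩ := IsFractionRing.div_surjective (A := R') k
    obtain ⟨u, v, hv, rfl⟩ := IsFractionRing.div_surjective (A := S) f
    have hs' : algebraMap R' F' s ≠ 0 := by
      rw [IsScalarTower.algebraMap_apply R' K' F']
      exact (map_ne_zero _).2 ((map_ne_zero_iff _ (IsFractionRing.injective R' K')).2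
        (nonZeroDivisors.ne_zero hs))
    have hv' : algebraMap S F' v ≠ 0 := by
      rw [IsScalarTower.algebraMap_apply S F F']
      exact (map_ne_zero _).2 ((map_ne_zero_iff _ (IsFractionRing.injective S F)).2
        (nonZeroDivisors.ne_zero hv))
    refine ⟨algebraMap R' F' a * algebraMap S F' u, algebraMap R' F' s * algebraMap S F' v,
      mul_mem (hR' a) (Sp.algebraMap_mem u), mul_mem (hR' s) (Sp.algebraMap_mem v),
      mul_ne_zero hs' hv', ?_⟩
    simp only [map_div₀, ← IsScalarTower.algebraMap_apply]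
    field_simp
  | zero => exact ⟨0, 1, zero_mem _, one_mem _, one_ne_zero, by simp⟩
  | add w₁ w₂ _ _ h₁ h₂ =>
    obtain ⟨x₁, y₁, hx₁, hy₁, hy₁0, h₁⟩ := h₁
    obtain ⟨x₂, y₂, hx₂, hy₂, hy₂0, h₂⟩ := h₂
    refine ⟨x₁ * y₂ + x₂ * y₁, y₁ * y₂, add_mem (mul_mem hx₁ hy₂) (mul_mem hx₂ hy₁),
      mul_mem hy₁ hy₂, mul_ne_zero hy₁0 hy₂0, ?_⟩
    rw [← h₁, ← h₂]; ring

set_option maxHeartbeats 1600000 in
/-- If every finite domain over `R` is generically regular, so is every finitely generated domain
over `R` with trivial kernel. -/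
theorem exists_forall_mem_regLocus_of_finiteType {R S : Type u} [CommRing R] [IsNoetherianRing R]
    [IsDomain R] [CommRing S] [IsDomain S] [Algebra R S] [Algebra.FiniteType R S]
    (hinj : Function.Injective (algebraMap R S))
    (hfin : ∀ (R' : Type u) [CommRing R'] [IsDomain R'] [Algebra R R'], Module.Finite R R' →
      Function.Injective (algebraMap R R') →
      ∃ c : R', c ≠ 0 ∧ ∀ q : PrimeSpectrum R', c ∉ q.asIdeal → q ∈ EGA4.regLocus R') :
    ∃ f : S, f ≠ 0 ∧ ∀ q : PrimeSpectrum S, f ∉ q.asIdeal → q ∈ EGA4.regLocus S := by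
  classical
  haveI : IsNoetherianRing S := Algebra.FiniteType.isNoetherianRing R S
  let K := FractionRing R
  let F := FractionRing S
  haveI : FaithfulSMul R F := (faithfulSMul_iff_algebraMap_injective R F).2 (by
    rw [IsScalarTower.algebraMap_eq R S F]
    exact (IsFractionRing.injective S F).comp hinj)
  letI : Algebra K F := FractionRing.liftAlgebra R F
  haveI : IsScalarTower R K F := FractionRing.isScalarTower_liftAlgebra R F
  haveI : Algebra.EssFiniteType S F := Algebra.EssFiniteType.of_isLocalization F (nonZeroDivisors S)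
  haveI : Algebra.EssFiniteType R F := Algebra.EssFiniteType.comp R S F
  haveI : Algebra.EssFiniteType K F := Algebra.EssFiniteType.of_comp R K F
  obtain ⟨K', _, _, _, P, hPmax, hgr⟩ := exists_geometricallyReduced_compositum K F
  letI : Algebra R K' := ((algebraMap K K').comp (algebraMap R K)).toAlgebra
  haveI : IsScalarTower R K K' := IsScalarTower.of_algebraMap_eq fun _ => rfl
  let F' := (K' ⊗[K] F) ⧸ P
  haveI : IsDomain F' := Ideal.Quotient.isDomain P
  have hF' : IsField F' := (Ideal.Quotient.maximal_ideal_iff_isField_quotient P).1 hPmax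
  let b := Module.finBasis K K'
  choose m hm using fun i => IsIntegral.exists_multiple_integral_of_isLocalization
    (R := R) (nonZeroDivisors R) (Rₘ := K) (b i) (Algebra.IsIntegral.isIntegral _)
  let T : Set K' := Set.range fun i => m i • b i
  have hTint : ∀ x ∈ T, IsIntegral R x := by rintro _ ⟨i, rfl⟩; exact hm i
  let R' := Algebra.adjoin R T
  haveI : Module.Finite R R' :=
    Module.Finite.iff_fg.2 (fg_adjoin_of_finite (Set.finite_range _) hTint)
  haveI : IsNoetherianRing R' := IsNoetherianRing.of_finite R R'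
  have hRK' : Function.Injective (algebraMap R K') :=
    (algebraMap K K').injective.comp (IsFractionRing.injective R K)
  have hR'inj : Function.Injective (algebraMap R R') := fun x y hxy => hRK' (congr_arg Subtype.val hxy)
  haveI : IsFractionRing R' K' :=
    isFractionRing_adjoin R K K' b T fun i => ⟨m i, Algebra.subset_adjoin ⟨i, rfl⟩⟩
  -- the compositum model
  let φR : R' →+* F' :=
    (Ideal.Quotient.mk P).comp ((algebraMap K' (K' ⊗[K] F)).comp R'.val.toRingHom)
  let φS : S →+* F' :=
    (Ideal.Quotient.mk P).comp ((Algebra.TensorProduct.includeRight (A := K') (R := K)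
      (B := F)).toRingHom.comp (algebraMap S F))
  haveI : Nontrivial F' := Ideal.Quotient.nontrivial_iff.2 hPmax.ne_top
  have hφS : Function.Injective φS :=
    (RingHom.injective ((Ideal.Quotient.mk P).comp
      (Algebra.TensorProduct.includeRight (A := K') (R := K) (B := F)).toRingHom)).comp
      (IsFractionRing.injective S F)
  letI : Algebra S F' := φS.toAlgebra
  haveI : IsScalarTower R S F' := IsScalarTower.of_algebraMap_eq fun r => by
    show _ = Ideal.Quotient.mk P ((Algebra.TensorProduct.includeRight (A := K') (R := K)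
      (B := F)) (algebraMap S F (algebraMap R S r)))
    rw [← IsScalarTower.algebraMap_apply R S F, IsScalarTower.algebraMap_apply R K F,
      AlgHom.commutes]
    rfl
  let Sp := Algebra.adjoin S (algebraMap R' F' '' ((fun x : R' => (x : K')) ⁻¹' T))
  have hR'Sp : ∀ x : R', algebraMap R' F' x ∈ Sp := by
    intro x
    have hx : x ∈ Algebra.adjoin R ((fun x : R' => (x : K')) ⁻¹' T) := by
      rw [Algebra.adjoin_adjoin_coe_preimage]; trivial
    induction hx using Algebra.adjoin_induction with
    | mem y hy => exact Algebra.subset_adjoin ⟨y, hy, rfl⟩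
    | algebraMap r =>
      rw [← IsScalarTower.algebraMap_apply R R' F', IsScalarTower.algebraMap_apply R S F']
      exact Sp.algebraMap_mem _
    | add y z _ _ hy hz => rw [map_add]; exact add_mem hy hz
    | mul y z _ _ hy hz => rw [map_mul]; exact mul_mem hy hz
  haveI : Module.Finite S Sp := by
    refine Module.Finite.iff_fg.2 (fg_adjoin_of_finite ?_ ?_)
    · exact (Set.Finite.preimage Subtype.val_injective.injOn (Set.finite_range _)).image _
    · rintro _ ⟨x, -, rfl⟩
      exact ((Algebra.IsIntegral.isIntegral (R := R) x).map (IsScalarTower.toAlgHom R R' F')).tower_top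
  letI : Algebra R' Sp := ((algebraMap R' F').codRestrict Sp hR'Sp).toAlgebra
  haveI : IsScalarTower R' Sp F' := ⟨fun r x y => by
    show algebraMap R' F' r * (x : F') * y = r • ((x : F') * y)
    rw [Algebra.smul_def r ((x : F') * y), mul_assoc]⟩
  haveI : IsScalarTower R R' Sp := IsScalarTower.of_algebraMap_eq fun r => Subtype.ext (by
    show algebraMap Sp F' (algebraMap R Sp r) = algebraMap R' F' (algebraMap R R' r)
    rw [← IsScalarTower.algebraMap_apply R R' F', ← IsScalarTower.algebraMap_apply R Sp F'])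
  haveI : Algebra.FiniteType R Sp := Algebra.FiniteType.trans (S := S) inferInstance inferInstance
  haveI : Algebra.FiniteType R' Sp := Algebra.FiniteType.of_restrictScalars_finiteType R R' Sp
  haveI : Algebra.FinitePresentation R' Sp := Algebra.FinitePresentation.of_finiteType.1 inferInstance
  letI := hF'.toField
  letI : Algebra F F' := ((Ideal.Quotient.mk P).comp
    (Algebra.TensorProduct.includeRight (A := K') (R := K) (B := F)).toRingHom).toAlgebra
  haveI : IsScalarTower S F F' := IsScalarTower.of_algebraMap_eq fun _ => rfl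
  haveI : IsFractionRing Sp F' := by
    refine isFractionRing_of_generated R' K' S F F' Sp hR'Sp fun z => ?_
    obtain ⟨w, rfl⟩ := Ideal.Quotient.mk_surjective z
    induction w using TensorProduct.induction_on with
    | zero => rw [map_zero]; exact zero_mem _
    | tmul k f =>
      refine AddSubmonoid.subset_closure ⟨(k, f), ?_⟩
      show Ideal.Quotient.mk P (k ⊗ₜ[K] (1 : F)) * Ideal.Quotient.mk P ((1 : K') ⊗ₜ[K] f) = _
      rw [← map_mul, Algebra.TensorProduct.tmul_mul_tmul, mul_one, one_mul]
    | add w₁ w₂ h₁ h₂ => rw [map_add]; exact add_mem h₁ h₂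
  haveI : Algebra.EssFiniteType K' (K' ⊗[K] F) := inferInstance
  haveI : Algebra.EssFiniteType K' F' :=
    Algebra.EssFiniteType.comp K' (K' ⊗[K] F) F'
  haveI : Algebra.FormallySmooth K' F' := CAlg48.SepGen.formallySmooth K' F'
  haveI : Algebra.FormallyEtale R' K' := Algebra.FormallyEtale.of_isLocalization (nonZeroDivisors R')
  haveI : Algebra.FormallySmooth R' F' := Algebra.FormallySmooth.comp R' K' F'
  haveI : IsLocalization.AtPrime F' (⊥ : Ideal Sp) := by
    show IsLocalization (⊥ : Ideal Sp).primeCompl F'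
    have heq : (⊥ : Ideal Sp).primeCompl = nonZeroDivisors Sp := by
      ext x; simp [Ideal.primeCompl]
    rw [heq]; infer_instance
  haveI : Algebra.IsSmoothAt R' (⊥ : Ideal Sp) := Algebra.FormallySmooth.of_equiv
    ((IsLocalization.algEquiv (⊥ : Ideal Sp).primeCompl F'
      (Localization.AtPrime (⊥ : Ideal Sp))).restrictScalars R')
  obtain ⟨g, hg, hsm⟩ := Algebra.IsSmoothAt.exists_notMem_smooth R' (⊥ : Ideal Sp)
  obtain ⟨c, hc0, hc⟩ := hfin R' inferInstance hR'inj
  have hR'Spinj : Function.Injective (algebraMap R' Sp) := fun x y hxy =>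
    Subtype.val_injective (RingHom.injective ((Ideal.Quotient.mk P).comp (algebraMap K' (K' ⊗[K] F)))
      (congr_arg Subtype.val hxy))
  refine exists_forall_mem_regLocus_of_finite (A := S) (B := Sp)
    (fun x y hxy => hφS (congr_arg Subtype.val hxy))
    ⟨g * algebraMap R' Sp c, mul_ne_zero (fun h => hg (by simp [h]))
      ((map_ne_zero_iff _ hR'Spinj).2 hc0), fun q hq => ?_⟩
  have hgq : g ∉ q.asIdeal := fun h => hq (Ideal.mul_mem_right _ _ h)
  have hcq : algebraMap R' Sp c ∉ q.asIdeal := fun h => hq (Ideal.mul_mem_left _ _ h)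
  obtain ⟨Q, hQ⟩ := exists_mem_away_of_notMem q hgq
  rw [← hQ, ← mem_regLocus_away]
  refine mem_regLocus_of_smooth (R := R') Q (hc _ ?_)
  rw [IsScalarTower.algebraMap_eq R' Sp (Localization.Away g), PrimeSpectrum.comap_comp_apply, hQ]
  exact hcq

end domain

end Groth.Agent.EGA4Lib

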