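import Groth.Agent.EGA4Lib.Stalks
import Groth.Agent.EGA4Lib.DepthFlat
import Groth.Agent.Dim.LocalHom
import Groth.Agent.FlatMor.FlatAtBC
import Mathlib.RingTheory.Flat.Localization

/-!
# Stalks of `F ⊗ E` for `F` flat over the base; `(S_k)` (EGA IV 6.4)
-/

set_option autoImplicit false
set_option linter.style.haveILetI false

universe u

open IsLocalRing TensorProduct

namespace Groth.Agent.EGA4Lib

section local_

variable {R : Type u} [CommRing R] [IsLocalRing R] (N : Type u) [AddCommGroup N] [Module R N]
  [Module.Finite R N]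

theorem depth_supportDim_atMaximal :
    LocCoh.depth (Localization.AtPrime (maximalIdeal R)) (LocalizedModule (maximalIdeal R).primeCompl N) =
        LocCoh.depth R N ∧
      Module.supportDim (Localization.AtPrime (maximalIdeal R))
        (LocalizedModule (maximalIdeal R).primeCompl N) = Module.supportDim R N := by
  let L := Localization.AtPrime (maximalIdeal R)
  let e : R ≃ₐ[R] L := IsLocalization.atUnits R (maximalIdeal R).primeCompl fun x hx => by
    have hx' : x ∉ maximalIdeal R := hx
    rw [IsUnit.mem_submonoid_iff]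
    simpa [mem_maximalIdeal, mem_nonunits_iff] using hx'
  obtain ⟨h1, h2⟩ := depth_supportDim_congr
    (LocalizedModule.equivTensorProduct (maximalIdeal R).primeCompl N)
  obtain ⟨h3, h4⟩ := depth_supportDim_tensor_algEquiv e N
  obtain ⟨h5, h6⟩ := depth_supportDim_congr (L := R) (Y := N) (TensorProduct.lid R N)
  exact ⟨h1.trans (h3.symm.trans h5), h2.trans (h4.symm.trans h6)⟩

theorem min_le_depth_of_hasSk {k : ℕ} (h : LocCoh.HasSk k R N) :
    min (k : WithBot ℕ∞) (Module.supportDim R N) ≤ ((LocCoh.depth R N : ℕ∞) : WithBot ℕ∞) := by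
  obtain ⟨h1, h2⟩ := depth_supportDim_atMaximal (R := R) N
  have := h (maximalIdeal R)
  rwa [h1, h2] at this

end local_

variable (A : Type u) {B : Type u} [CommRing A] [CommRing B] [IsNoetherianRing A] [IsNoetherianRing B]
  [Algebra A B] (q : Ideal B) [q.IsPrime]
  (E : Type u) [AddCommGroup E] [Module A E] [Module.Finite A E]
  (F : Type u) [AddCommGroup F] [Module B F] [Module.Finite B F]

/-- `F_q / p F_q` as a module over `B_q`, where `p = q ∩ A`. -/
abbrev stalkFib : Type u := EGA4.FibLocMod A B q F

/-- EGA IV 6.3.1 and 6.1.2 at the stalks. -/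
theorem depth_supportDim_stalk [Module A F] [IsScalarTower A B F] [Module.Flat A F] :
    LocCoh.depth (Localization.AtPrime q) (LocalizedModule q.primeCompl (F ⊗[A] E)) =
        LocCoh.depth (Localization.AtPrime (q.comap (algebraMap A B)))
            (LocalizedModule (q.comap (algebraMap A B)).primeCompl E) +
          LocCoh.depth (Localization.AtPrime q) (stalkFib A q F) ∧
      (Nontrivial (LocalizedModule (q.comap (algebraMap A B)).primeCompl E) →
        Nontrivial (LocalizedModule q.primeCompl F) →
        Module.supportDim (Localization.AtPrime q) (LocalizedModule q.primeCompl (F ⊗[A] E)) =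
          Module.supportDim (Localization.AtPrime (q.comap (algebraMap A B)))
              (LocalizedModule (q.comap (algebraMap A B)).primeCompl E) +
            Module.supportDim (Localization.AtPrime q) (stalkFib A q F)) := by
  let p := q.comap (algebraMap A B)
  let Ap := Localization.AtPrime p
  let Bq := Localization.AtPrime q
  letI : Algebra Ap Bq := (Localization.localRingHom p q (algebraMap A B) rfl).toAlgebra
  haveI : IsScalarTower A Ap Bq := IsScalarTower.of_algebraMap_eq fun x => by
    rw [RingHom.algebraMap_toAlgebra, Localization.localRingHom_to_map]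
    exact IsScalarTower.algebraMap_apply A B Bq x
  haveI : IsLocalHom (algebraMap Ap Bq) := Localization.isLocalHom_localRingHom p q _ rfl
  let X := Bq ⊗[B] F
  haveI : IsScalarTower A Ap X := inferInstance
  haveI : IsScalarTower Ap Bq X := inferInstance
  haveI : Module.Flat B Bq := IsLocalization.flat Bq q.primeCompl
  haveI : Module.Flat A X := FlatMor.FlatAtBC.flat_tensor A B Bq F
  haveI : Module.Flat Ap X := (Module.flat_iff_of_isLocalization Ap p.primeCompl X).2 inferInstance
  haveI : Module.Finite Ap (Ap ⊗[A] E) := inferInstance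
  haveI : Module.Finite Bq X := inferInstance
  let eE : LocalizedModule p.primeCompl E ≃ₗ[Ap] Ap ⊗[A] E :=
    LocalizedModule.equivTensorProduct p.primeCompl E
  let eF : LocalizedModule q.primeCompl F ≃ₗ[Bq] X := LocalizedModule.equivTensorProduct q.primeCompl F
  let e1 : LocalizedModule q.primeCompl (F ⊗[A] E) ≃ₗ[Bq] Bq ⊗[B] (F ⊗[A] E) :=
    LocalizedModule.equivTensorProduct q.primeCompl (F ⊗[A] E)
  let e2 : (Bq ⊗[B] F) ⊗[A] E ≃ₗ[Bq] Bq ⊗[B] (F ⊗[A] E) := AlgebraTensorModule.assoc A B Bq Bq F E
  let e3 : X ⊗[Ap] (Ap ⊗[A] E) ≃ₗ[Bq] X ⊗[A] E := AlgebraTensorModule.cancelBaseChange A Ap Bq X E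
  obtain ⟨h1, h1'⟩ := depth_supportDim_congr (L := Bq) (Y := X ⊗[Ap] (Ap ⊗[A] E))
    ((e1.trans e2.symm).trans e3.symm)
  have hJ : (maximalIdeal Ap).map (algebraMap Ap Bq) = p.map (algebraMap A Bq) := by
    rw [← Localization.AtPrime.map_eq_maximalIdeal, Ideal.map_map, ← IsScalarTower.algebraMap_eq]
  let ef : (LocalizedModule q.primeCompl F ⧸
        (p.map (algebraMap A Bq) • (⊤ : Submodule Bq (LocalizedModule q.primeCompl F)))) ≃ₗ[Bq]
      X ⧸ ((maximalIdeal Ap).map (algebraMap Ap Bq) • (⊤ : Submodule Bq X)) :=
    Submodule.Quotient.equiv _ _ eF (by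
      rw [hJ, Submodule.map_smul'', Submodule.map_top, LinearEquiv.range])
  obtain ⟨hf, hf'⟩ := depth_supportDim_congr (L := Bq) ef
  obtain ⟨hE, hE'⟩ := depth_supportDim_congr (L := Ap) eE
  refine ⟨?_, fun hnE hnF => ?_⟩
  · rw [h1, depth_tensor_of_flat, ← hE, ← hf]
  · haveI : Nontrivial (Ap ⊗[A] E) := eE.symm.toEquiv.nontrivial
    haveI : Nontrivial X := eF.symm.toEquiv.nontrivial
    rw [h1', Dim.supportDim_tensor_eq_add Ap Bq (Ap ⊗[A] E) X, ← hE', ← hf']

omit [IsNoetherianRing A] [IsNoetherianRing B] [Module.Finite A E] [Module.Finite B F] in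
theorem subsingleton_stalk [Module A F] [IsScalarTower A B F]
    (h : Subsingleton (LocalizedModule (q.comap (algebraMap A B)).primeCompl E) ∨
      Subsingleton (LocalizedModule q.primeCompl F)) :
    Subsingleton (LocalizedModule q.primeCompl (F ⊗[A] E)) := by
  rw [LocalizedModule.subsingleton_iff]
  intro z
  induction z using TensorProduct.induction_on with
  | zero => exact ⟨1, one_mem _, smul_zero _⟩
  | tmul f e =>
    rcases h with h | h
    · obtain ⟨r, hr, hre⟩ := LocalizedModule.subsingleton_iff.1 h e
      refine ⟨algebraMap A B r, hr, ?_⟩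
      rw [TensorProduct.smul_tmul', algebraMap_smul, TensorProduct.smul_tmul, hre, TensorProduct.tmul_zero]
    · obtain ⟨r, hr, hrf⟩ := LocalizedModule.subsingleton_iff.1 h f
      exact ⟨r, hr, by rw [TensorProduct.smul_tmul', hrf, TensorProduct.zero_tmul]⟩
  | add a b ha hb =>
    obtain ⟨r, hr, hra⟩ := ha
    obtain ⟨s, hs, hsb⟩ := hb
    exact ⟨r * s, mul_mem hr hs, by rw [smul_add, mul_comm, mul_smul, hra, mul_comm, mul_smul, hsb,
      smul_zero, smul_zero, add_zero]⟩

theorem stalk_ineq [Module A F] [IsScalarTower A B F] [Module.Flat A F] (k : ℕ)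
    (hE : min (k : WithBot ℕ∞) (Module.supportDim (Localization.AtPrime (q.comap (algebraMap A B)))
        (LocalizedModule (q.comap (algebraMap A B)).primeCompl E)) ≤
      ((LocCoh.depth (Localization.AtPrime (q.comap (algebraMap A B)))
        (LocalizedModule (q.comap (algebraMap A B)).primeCompl E) : ℕ∞) : WithBot ℕ∞))
    (hF : min (k : WithBot ℕ∞) (Module.supportDim (Localization.AtPrime q) (stalkFib A q F)) ≤
      ((LocCoh.depth (Localization.AtPrime q) (stalkFib A q F) : ℕ∞) : WithBot ℕ∞)) :
    min (k : WithBot ℕ∞)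
        (Module.supportDim (Localization.AtPrime q) (LocalizedModule q.primeCompl (F ⊗[A] E))) ≤
      ((LocCoh.depth (Localization.AtPrime q) (LocalizedModule q.primeCompl (F ⊗[A] E)) : ℕ∞) :
        WithBot ℕ∞) := by
  rcases subsingleton_or_nontrivial (LocalizedModule (q.comap (algebraMap A B)).primeCompl E) with hnE | hnE
  · haveI := subsingleton_stalk A q E F (Or.inl hnE)
    rw [Module.supportDim_eq_bot_of_subsingleton]
    simp
  rcases subsingleton_or_nontrivial (LocalizedModule q.primeCompl F) with hnF | hnF
  · haveI := subsingleton_stalk A q E F (Or.inr hnF)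
    rw [Module.supportDim_eq_bot_of_subsingleton]
    simp
  obtain ⟨hd, hs⟩ := depth_supportDim_stalk A q E F
  rw [hd, hs hnE hnF, WithBot.coe_add]
  refine le_trans ?_ (add_le_add hE hF)
  generalize Module.supportDim (Localization.AtPrime (q.comap (algebraMap A B)))
    (LocalizedModule (q.comap (algebraMap A B)).primeCompl E) = a
  generalize Module.supportDim (Localization.AtPrime q) (stalkFib A q F) = b
  cases a with
  | bot => simp
  | coe a =>
    cases b with
    | bot => simp
    | coe b =>
      rw [show ((k : WithBot ℕ∞)) = (((k : ℕ∞)) : WithBot ℕ∞) from rfl, ← WithBot.coe_add,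
        ← WithBot.coe_min, ← WithBot.coe_min, ← WithBot.coe_min, ← WithBot.coe_add, WithBot.coe_le_coe]
      rcases le_total (k : ℕ∞) a with h | h
      · exact (min_le_left _ _).trans (le_add_right (le_min le_rfl h))
      rcases le_total (k : ℕ∞) b with h' | h'
      · exact (min_le_left _ _).trans (le_add_left (le_min le_rfl h'))
      exact (min_le_right _ _).trans (add_le_add (le_min h le_rfl) (le_min h' le_rfl))

omit [IsNoetherianRing A] in
/-- At a point minimal in its fibre of the support, the fibre module has dimension and depth `0`. -/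
theorem stalkFib_eq_zero [Nontrivial (LocalizedModule q.primeCompl F)]
    (hmin : ∀ q' : PrimeSpectrum B, q'.asIdeal ≤ q → q' ∈ Module.support B F →
      q'.asIdeal.comap (algebraMap A B) = q.comap (algebraMap A B) → q'.asIdeal = q) :
    Module.supportDim (Localization.AtPrime q) (stalkFib A q F) = 0 ∧
      LocCoh.depth (Localization.AtPrime q) (stalkFib A q F) = 0 := by
  let p := q.comap (algebraMap A B)
  let Bq := Localization.AtPrime q
  set X := LocalizedModule q.primeCompl F
  set J := p.map (algebraMap A Bq) with hJ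
  have hJle : J ≤ maximalIdeal Bq := by
    rw [hJ, IsScalarTower.algebraMap_eq A B Bq, ← Ideal.map_map, ← Localization.AtPrime.map_eq_maximalIdeal]
    exact Ideal.map_mono Ideal.map_comap_le
  haveI : Nontrivial (stalkFib A q F) :=
    Submodule.Quotient.nontrivial_iff.2 (Depth.smul_top_ne_top_of_le_maximalIdeal hJle)
  have hsub : Subsingleton (Module.support Bq (stalkFib A q F)) := by
    suffices ∀ Q ∈ Module.support Bq (stalkFib A q F), Q.asIdeal = maximalIdeal Bq from
      ⟨fun a b => Subtype.ext (PrimeSpectrum.ext ((this _ a.2).trans (this _ b.2).symm))⟩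
    intro Q hQ
    haveI := Q.isPrime
    have hQX : Q ∈ Module.support Bq X :=
      Module.support_subset_of_surjective (Submodule.mkQ _) (Submodule.mkQ_surjective _) hQ
    have hJQ : J ≤ Q.asIdeal := by
      rw [Module.support_eq_zeroLocus] at hQ
      refine le_trans (fun x hx => Module.mem_annihilator.2 fun a => ?_) hQ
      obtain ⟨a, rfl⟩ := Submodule.Quotient.mk_surjective _ a
      rw [← Submodule.Quotient.mk_smul, Submodule.Quotient.mk_eq_zero]
      exact Submodule.smul_mem_smul hx trivial
    have hsupp := hQX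
    rw [Dim.support_localizedModule] at hsupp
    have hle : Q.asIdeal.comap (algebraMap B Bq) ≤ q :=
      le_of_le_of_eq (Ideal.comap_mono (IsLocalRing.le_maximalIdeal Q.isPrime.ne_top))
        (Localization.AtPrime.under_maximalIdeal (I := q))
    have heq := hmin ⟨Q.asIdeal.comap (algebraMap B Bq), Ideal.comap_isPrime _ _⟩ hle hsupp
      (le_antisymm (Ideal.comap_mono hle) fun a ha => hJQ (Ideal.mem_map_of_mem _ ha))
    rw [← IsLocalization.map_under q.primeCompl Bq Q.asIdeal, ← Localization.AtPrime.map_eq_maximalIdeal]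
    exact congrArg (Ideal.map (algebraMap B Bq)) heq
  have h0 : Module.supportDim Bq (stalkFib A q F) = 0 := by
    refine le_antisymm Order.krullDim_nonpos_of_subsingleton ?_
    haveI : Nonempty (Module.support Bq (stalkFib A q F)) :=
      Set.Nonempty.to_subtype (Module.nonempty_support_iff.2 inferInstance)
    exact Order.krullDim_nonneg
  refine ⟨h0, ?_⟩
  have := Depth.depth_le_supportDim (R := Bq) (M := stalkFib A q F)
  rw [h0] at this
  exact le_antisymm (WithBot.coe_le_coe.1 this) bot_le

end Groth.Agent.EGA4Lib
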