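import Groth.Agent.EGA4Lib.FibreBC
import Groth.Agent.RegLoc.Completion

/-!
# Completions of finite algebras at the Jacobson radical (EGA IV 7.6)
-/

set_option autoImplicit false
set_option linter.style.haveILetI false

universe u

open TensorProduct IsLocalRing

namespace Groth.Agent.EGA4Lib

section completion

variable {A : Type u} [CommRing A] [IsNoetherianRing A] (J : Ideal A) (B : Type u) [CommRing B]
  [Algebra A B] [Module.Finite A B] (J' : Ideal B)
  (hJ : J' = J.map (algebraMap A B))
include hJ

/-- The completion of a finite algebra is the base change of the completion. -/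
theorem nonempty_adicCompletion_finite :
    Nonempty (AdicCompletion J' B ≃ₐ[B] B ⊗[A] AdicCompletion J A) := by
  have hpow : ∀ n, (J ^ n • (⊤ : Submodule A B)) = (J' ^ n).restrictScalars A := fun n => by
    rw [Ideal.smul_top_eq_map, Ideal.map_pow, hJ]
  let G : ∀ n, (B ⧸ (J ^ n • (⊤ : Submodule A B))) →ₗ[A] B ⧸ J' ^ n := fun n =>
    Submodule.liftQ _ (Ideal.Quotient.mkₐ A (J' ^ n)).toLinearMap fun x hx =>
      Ideal.Quotient.eq_zero_iff_mem.2 (by rw [hpow n] at hx; exact hx)
  have hG : ∀ n, Function.Bijective (G n) := fun n => by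
    refine ⟨(injective_iff_map_eq_zero _).2 fun x hx => ?_, fun y => ?_⟩
    · obtain ⟨x, rfl⟩ := Submodule.Quotient.mk_surjective _ x
      rw [Submodule.Quotient.mk_eq_zero, hpow]
      exact Ideal.Quotient.eq_zero_iff_mem.1 hx
    · obtain ⟨y, rfl⟩ := Ideal.Quotient.mk_surjective y
      exact ⟨Submodule.Quotient.mk y, rfl⟩
  let q : ∀ n, A ⧸ J ^ n →ₐ[A] B ⧸ J' ^ n := fun n =>
    Ideal.quotientMapₐ (J' ^ n) (Algebra.ofId A B) (Ideal.map_le_iff_le_comap.1 (by
      show Ideal.map (algebraMap A B) (J ^ n) ≤ _
      rw [Ideal.map_pow, hJ]))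
  let φ : AdicCompletion J A →ₐ[A] AdicCompletion J' B :=
    AdicCompletion.liftAlgHom J' (fun n => (q n).comp (AdicCompletion.evalₐ J n)) (by
      intro m n hle
      ext x
      induction x using AdicCompletion.induction_on with
      | _ a =>
        simp only [AlgHom.comp_apply, AdicCompletion.evalₐ_mk]
        show Ideal.Quotient.mk (J' ^ m) (algebraMap A B (a n)) = Ideal.Quotient.mk (J' ^ m) (algebraMap A B (a m))
        refine Ideal.Quotient.eq.2 ?_
        rw [← map_sub, hJ, ← Ideal.map_pow]
        refine Ideal.mem_map_of_mem _ ?_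
        have := SModEq.sub_mem.1 (a.2 hle).symm
        simpa using this)
  let ψ : B ⊗[A] AdicCompletion J A →ₐ[B] AdicCompletion J' B :=
    Algebra.TensorProduct.lift (Algebra.ofId B _) φ fun _ _ => mul_comm _ _
  let T : B ⊗[A] AdicCompletion J A ≃ₗ[A] AdicCompletion J B :=
    (TensorProduct.comm A _ _).trans
      ((AdicCompletion.ofTensorProductEquivOfFiniteNoetherian J B).restrictScalars A)
  have key : ∀ t n, AdicCompletion.evalₐ J' n (ψ t) = G n (AdicCompletion.eval J B n (T t)) := by
    intro t n
    induction t using TensorProduct.induction_on with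
    | zero => simp
    | add x y hx hy => simp [hx, hy]
    | tmul b x =>
      induction x using AdicCompletion.induction_on with
      | _ a =>
        have h1 : AdicCompletion.evalₐ J' n (ψ (b ⊗ₜ AdicCompletion.mk J A a)) =
            Ideal.Quotient.mk (J' ^ n) b * Ideal.Quotient.mk (J' ^ n) (algebraMap A B (a n)) := by
          simp only [ψ, Algebra.TensorProduct.lift_tmul, map_mul, φ, AdicCompletion.evalₐ_liftAlgHom,
            AlgHom.comp_apply, AdicCompletion.evalₐ_mk]
          rfl
        have h2 : AdicCompletion.eval J B n (T (b ⊗ₜ AdicCompletion.mk J A a)) =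
            Submodule.Quotient.mk (a n • b) := by
          simp only [T, LinearEquiv.trans_apply, TensorProduct.comm_tmul, LinearEquiv.restrictScalars_apply,
            AdicCompletion.ofTensorProductEquivOfFiniteNoetherian_apply, AdicCompletion.ofTensorProduct_tmul,
            AdicCompletion.smul_eval, AdicCompletion.eval_of]
          simp
          rfl
        rw [h1, h2, ← map_mul, mul_comm, ← Algebra.smul_def]
        rfl
  refine ⟨(AlgEquiv.ofBijective ψ ⟨(injective_iff_map_eq_zero _).2 fun t ht => ?_, fun y => ?_⟩).symm⟩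
  · refine T.injective (AdicCompletion.ext fun n => (hG n).1 ?_)
    show G n (AdicCompletion.eval J B n (T t)) = G n (AdicCompletion.eval J B n (T 0))
    rw [← key, ← key, ht, map_zero, map_zero, map_zero]
  · choose z hz using fun n => (hG n).2 (AdicCompletion.evalₐ J' n y)
    have hc : ∀ {m n : ℕ} (hle : m ≤ n), AdicCompletion.transitionMap J B hle (z n) = z m := by
      intro m n hle
      apply (hG m).1
      rw [hz]
      have hzn := hz n
      obtain ⟨b, hb⟩ := Submodule.Quotient.mk_surjective _ (z n)
      rw [← hb] at hzn ⊢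
      have : Ideal.Quotient.factorPow J' hle (AdicCompletion.evalₐ J' n y) = AdicCompletion.evalₐ J' m y := by
        induction y using AdicCompletion.induction_on with
        | _ c =>
          simp only [AdicCompletion.evalₐ_mk]
          exact AdicCompletion.Ideal.mk_eq_mk J' hle c
      rw [← this, ← hzn]
      rfl
    obtain ⟨t, ht⟩ := T.surjective ⟨z, fun hle => hc hle⟩
    refine ⟨t, AdicCompletion.ext_evalₐ (I := J') fun n => ?_⟩
    rw [key, ht, ← hz n]
    rfl

end completion

theorem exists_injective_completion_of_pow_le {C : Type u} [CommRing C] (I J : Ideal C) (e : ℕ)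
    (h1 : J ^ (e + 1) ≤ I) (h2 : I ≤ J) :
    (∃ f : AdicCompletion J C →+* AdicCompletion I C, Function.Injective f) ∧
      ∃ g : AdicCompletion I C →+* AdicCompletion J C, Function.Injective g := by
  have hJI : ∀ k, J ^ ((e + 1) * k) ≤ I ^ k := fun k => by
    rw [pow_mul]; exact Ideal.pow_right_mono h1 k
  have hIJ : ∀ k, I ^ k ≤ J ^ k := fun k => Ideal.pow_right_mono h2 k
  let F : ∀ k, AdicCompletion J C →ₐ[C] C ⧸ I ^ k := fun k =>
    (Ideal.Quotient.factorₐ C (hJI k)).comp (AdicCompletion.evalₐ J ((e + 1) * k))
  let G : ∀ k, AdicCompletion I C →ₐ[C] C ⧸ J ^ k := fun k =>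
    (Ideal.Quotient.factorₐ C (hIJ k)).comp (AdicCompletion.evalₐ I k)
  let φ : AdicCompletion J C →ₐ[C] AdicCompletion I C := AdicCompletion.liftAlgHom I F (by
    intro a b hle
    ext x
    induction x using AdicCompletion.induction_on with
    | _ c =>
      simp only [F, AlgHom.comp_apply, AdicCompletion.evalₐ_mk]
      show Ideal.Quotient.mk (I ^ a) (c ((e + 1) * b)) = Ideal.Quotient.mk (I ^ a) (c ((e + 1) * a))
      refine Ideal.Quotient.eq.2 (hJI a ?_)
      have := SModEq.sub_mem.1 (c.2 (Nat.mul_le_mul_left (e + 1) hle)).symm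
      simpa using this)
  let ψ : AdicCompletion I C →ₐ[C] AdicCompletion J C := AdicCompletion.liftAlgHom J G (by
    intro a b hle
    ext x
    induction x using AdicCompletion.induction_on with
    | _ c =>
      simp only [G, AlgHom.comp_apply, AdicCompletion.evalₐ_mk]
      show Ideal.Quotient.mk (J ^ a) (c b) = Ideal.Quotient.mk (J ^ a) (c a)
      refine Ideal.Quotient.eq.2 (hIJ a ?_)
      have := SModEq.sub_mem.1 (c.2 hle).symm
      simpa using this)
  refine ⟨⟨φ.toRingHom, (injective_iff_map_eq_zero _).2 fun x hx => AdicCompletion.ext_evalₐ fun k => ?_⟩,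
    ψ.toRingHom, (injective_iff_map_eq_zero _).2 fun x hx => AdicCompletion.ext_evalₐ fun k => ?_⟩
  · induction x using AdicCompletion.induction_on with
    | _ c =>
      have h3 := congrArg (AdicCompletion.evalₐ I k) hx
      simp only [AlgHom.toRingHom_eq_coe, RingHom.coe_coe, φ, AdicCompletion.evalₐ_liftAlgHom, F,
        AlgHom.comp_apply, AdicCompletion.evalₐ_mk, map_zero] at h3 ⊢
      have h4 : c ((e + 1) * k) ∈ I ^ k := Ideal.Quotient.eq_zero_iff_mem.1 h3
      refine Ideal.Quotient.eq_zero_iff_mem.2 ?_
      have h5 : c ((e + 1) * k) - c k ∈ J ^ k := by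
        have := SModEq.sub_mem.1 (c.2 (Nat.le_mul_of_pos_left k (Nat.succ_pos e))).symm
        simpa using this
      have := (J ^ k).sub_mem (hIJ k h4) h5
      simpa using this
  · induction x using AdicCompletion.induction_on with
    | _ c =>
      have h3 := congrArg (AdicCompletion.evalₐ J ((e + 1) * k)) hx
      simp only [AlgHom.toRingHom_eq_coe, RingHom.coe_coe, ψ, AdicCompletion.evalₐ_liftAlgHom, G,
        AlgHom.comp_apply, AdicCompletion.evalₐ_mk, map_zero] at h3 ⊢
      have h4 : c ((e + 1) * k) ∈ J ^ ((e + 1) * k) := Ideal.Quotient.eq_zero_iff_mem.1 h3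
      refine Ideal.Quotient.eq_zero_iff_mem.2 ?_
      have h5 : c ((e + 1) * k) - c k ∈ I ^ k := by
        have := SModEq.sub_mem.1 (c.2 (Nat.le_mul_of_pos_left k (Nat.succ_pos e))).symm
        simpa using this
      have := (I ^ k).sub_mem (hJI k h4) h5
      simpa using this

/-- The completion of a finite algebra over a local ring at its Jacobson radical is reduced iff the
base change of the completion is. -/
theorem isReduced_completion_jacobson_iff {A : Type u} [CommRing A] [IsLocalRing A] [IsNoetherianRing A]
    (C : Type u) [CommRing C] [Algebra A C] [Module.Finite A C] :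
    IsReduced (AdicCompletion ((⊥ : Ideal C).jacobson) C) ↔
      IsReduced (C ⊗[A] AdicCompletion (maximalIdeal A) A) := by
  let I := (maximalIdeal A).map (algebraMap A C)
  let R := (⊥ : Ideal C).jacobson
  haveI : Algebra.IsIntegral A C := Algebra.IsIntegral.of_finite A C
  haveI : IsNoetherianRing C := IsNoetherianRing.of_finite A C
  have hle : I ≤ R := by
    refine le_sInf fun M hM => ?_
    haveI := hM.2
    show (maximalIdeal A).map (algebraMap A C) ≤ M
    rw [Ideal.map_le_iff_le_comap, eq_maximalIdeal (Ideal.isMaximal_comap_of_isIntegral_of_isMaximal M)]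
  have hrad : R ≤ I.radical := by
    rw [Ideal.radical_eq_sInf]
    refine le_sInf fun P hP => ?_
    haveI := hP.2
    have hPmax : P.IsMaximal := by
      refine Ideal.isMaximal_of_isIntegral_of_isMaximal_comap (R := A) P ?_
      have : maximalIdeal A ≤ P.comap (algebraMap A C) := Ideal.map_le_iff_le_comap.1 hP.1
      rw [← (maximalIdeal.isMaximal A).eq_of_le (Ideal.comap_ne_top _ hP.2.ne_top) this]
      infer_instance
    exact sInf_le ⟨bot_le, hPmax⟩
  obtain ⟨e, he⟩ := Ideal.exists_pow_le_of_le_radical_of_fg hrad (IsNoetherian.noetherian R)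
  obtain ⟨⟨f, hf⟩, g, hg⟩ := exists_injective_completion_of_pow_le I R e
    ((Ideal.pow_le_pow_right (Nat.le_succ e)).trans he) hle
  obtain ⟨E⟩ := nonempty_adicCompletion_finite (maximalIdeal A) C I rfl
  constructor
  · intro h
    haveI : IsReduced (AdicCompletion I C) := isReduced_of_injective g hg
    exact isReduced_of_injective E.symm E.symm.injective
  · intro h
    haveI : IsReduced (AdicCompletion I C) := isReduced_of_injective E E.injective
    exact isReduced_of_injective f hf

end Groth.Agent.EGA4Lib
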