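import Groth.Agent.EGA4Lib.Hyperplane
import Groth.Agent.Dim.LocalHom
import Groth.Agent.CycLib.FlatDecomp
import Groth.Agent.Hensel.FormallyCatenary
import Groth.Agent.PtTop.Catenary
import Groth.Agent.RegLoc.Basic
import Mathlib.RingTheory.Ideal.GoingDown

/-!
# Equidimensional catenary local rings and flat local homomorphisms (EGA 0 16.1.4, IV 7.1.3)
-/

set_option autoImplicit false
set_option linter.style.haveILetI false

open IsLocalRing

namespace Groth.Agent.EGA4Lib

universe u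

variable {A : Type u} [CommRing A] [IsLocalRing A]

theorem exists_saturated_from (hcat : CAlg.IsCatenary A) (p : PrimeSpectrum A) :
    ∃ c : LTSeries (PrimeSpectrum A), c.head = p ∧ c.last = closedPoint A ∧ PtTop.Catenary.Saturated c := by
  obtain ⟨n, hn⟩ := hcat.1 p (closedPoint A) (le_maximalIdeal p.isPrime.ne_top)
  let T : Set ℕ := {m | ∃ r : LTSeries (PrimeSpectrum A), r.head = p ∧ r.last = closedPoint A ∧
    r.length = m}
  have hT : T.Nonempty := by
    rcases eq_or_lt_of_le (show p ≤ closedPoint A from le_maximalIdeal p.isPrime.ne_top) with h' | h'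
    · exact ⟨_, RelSeries.singleton _ p, rfl, h', rfl⟩
    · exact ⟨_, (RelSeries.singleton _ p).snoc (closedPoint A) h', rfl, RelSeries.last_snoc _ _ _, rfl⟩
  have hbdd : BddAbove T := ⟨n, fun m ⟨r, h1, h2, h3⟩ => h3 ▸ hn r h1 h2⟩
  obtain ⟨c, hc1, hc2, hc3⟩ := Nat.sSup_mem hT hbdd
  exact ⟨c, hc1, hc2, PtTop.Catenary.saturated_of_longest c fun u h1 h2 =>
    hc3 ▸ le_csSup hbdd ⟨u, h1.trans hc1, h2.trans hc2, rfl⟩⟩

/-- In a catenary local ring a saturated chain up to the maximal ideal computes `dim A/p`. -/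
theorem ringKrullDim_quotient_eq_length (hcat : CAlg.IsCatenary A)
    (s : LTSeries (PrimeSpectrum A)) (hs : PtTop.Catenary.Saturated s) (hl : s.last = closedPoint A) :
    (s.length : WithBot ℕ∞) = ringKrullDim (A ⧸ s.head.asIdeal) := by
  rw [ringKrullDim_quotient]
  refine le_antisymm ?_ ?_
  · let t : LTSeries (PrimeSpectrum.zeroLocus (s.head.asIdeal : Set A)) :=
      LTSeries.mk s.length (fun i => ⟨s i, s.monotone (Fin.zero_le i)⟩) fun i j hij => s.strictMono hij
    exact Order.LTSeries.length_le_krullDim t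
  · refine iSup_le fun t => ?_
    obtain ⟨n, hn⟩ := hcat.1 s.head (closedPoint A) (le_maximalIdeal s.head.isPrime.ne_top)
    let T : Set ℕ := {m | ∃ r : LTSeries (PrimeSpectrum A), r.head = s.head ∧ r.last = closedPoint A ∧
      r.length = m}
    have hT : T.Nonempty := ⟨_, s, rfl, hl, rfl⟩
    have hbdd : BddAbove T := ⟨n, fun m ⟨r, h1, h2, h3⟩ => h3 ▸ hn r h1 h2⟩
    obtain ⟨r, hr1, hr2, hr3⟩ := Nat.sSup_mem hT hbdd
    have hrs : PtTop.Catenary.Saturated r := PtTop.Catenary.saturated_of_longest r fun u h1 h2 =>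
      hr3 ▸ le_csSup hbdd ⟨u, h1.trans hr1, h2.trans hr2, rfl⟩
    have hlen : r.length = s.length := hcat.2 r s hr1 (hr2.trans hl.symm) hrs hs
    let t' : LTSeries (PrimeSpectrum A) := t.map Subtype.val fun _ _ h => h
    suffices h : t'.length ≤ r.length by rw [← hlen]; exact_mod_cast h
    rw [hr3]
    have hge : s.head ≤ t'.head := t.head.2
    have hle : t'.last ≤ closedPoint A := le_maximalIdeal t'.last.isPrime.ne_top
    rcases eq_or_lt_of_le hge with h1 | h1 <;> rcases eq_or_lt_of_le hle with h2 | h2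
    · exact le_csSup hbdd ⟨t', h1.symm, h2, rfl⟩
    · refine le_trans (Nat.le_succ _) (le_csSup hbdd ⟨t'.snoc (closedPoint A) h2, ?_, ?_, rfl⟩)
      · simpa using h1.symm
      · simp
    · refine le_trans (Nat.le_succ _) (le_csSup hbdd ⟨t'.cons s.head h1, ?_, ?_, by simp⟩)
      · simp
      · simpa using h2
    · refine le_trans (Nat.le_add_right _ 2) (le_csSup hbdd
        ⟨(t'.cons s.head h1).snoc (closedPoint A) (show (t'.cons s.head h1).last < closedPoint A by rw [RelSeries.last_cons]; exact h2), ?_, ?_, by simp⟩)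
      · simp
      · simp

variable [IsNoetherianRing A]

/-- `ht p + dim A/p = dim A` in a catenary equidimensional local ring. -/
theorem height_add_ringKrullDim_quotient (hcat : CAlg.IsCatenary A) (heq : EGA4.IsEquidim A)
    (p : Ideal A) [p.IsPrime] :
    ((p.height : ℕ∞) : WithBot ℕ∞) + ringKrullDim (A ⧸ p) = ringKrullDim A := by
  obtain ⟨a, ha1, ha2, ha3, ha4⟩ := exists_saturated_to (A := A) ⟨p, inferInstance⟩
  obtain ⟨c, hc1, hc2, hc3⟩ := exists_saturated_from hcat (⟨p, inferInstance⟩ : PrimeSpectrum A)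
  have e1 := length_eq_ringKrullDim hcat heq (a.smash c (ha2.trans hc1.symm))
    (saturated_smash a c _ ha4 hc3) (by simpa using ha1) (by simpa using hc2)
  have e2 : (c.length : WithBot ℕ∞) = ringKrullDim (A ⧸ p) := by
    rw [ringKrullDim_quotient_eq_length hcat c hc3 hc2, hc1]
  rw [← e1, ← e2, ← ha3]
  simp [RelSeries.smash]

theorem exists_nat_height (p : Ideal A) [p.IsPrime] : ∃ n : ℕ, p.height = n :=
  ⟨p.height.toNat, (ENat.natCast_toNat (Ideal.height_ne_top
    (Ideal.IsPrime.ne_top ‹_›))).symm⟩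

theorem exists_nat_ringKrullDim_quotient (I : Ideal A) (hI : I ≠ ⊤) :
    ∃ n : ℕ, ringKrullDim (A ⧸ I) = n := by
  haveI : Nontrivial (A ⧸ I) := Ideal.Quotient.nontrivial_iff.2 hI
  haveI : IsLocalRing (A ⧸ I) := IsLocalRing.of_surjective' _ Ideal.Quotient.mk_surjective
  obtain ⟨n, hn, -⟩ := RegLoc.exists_natCast_eq_ringKrullDim (A ⧸ I)
  exact ⟨n, hn⟩

omit [IsLocalRing A] [IsNoetherianRing A] in
theorem ringKrullDim_quotient_eq_of_forall_minimalPrimes (I : Ideal A) (hI : I ≠ ⊤) {c : WithBot ℕ∞}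
    (h : ∀ Q ∈ I.minimalPrimes, ringKrullDim (A ⧸ Q) = c) : ringKrullDim (A ⧸ I) = c := by
  obtain ⟨Q, hQ⟩ := Ideal.nonempty_minimalPrimes hI
  refine le_antisymm ?_ ((h Q hQ).symm.trans_le
    (ringKrullDim_le_of_surjective (Ideal.Quotient.factor hQ.1.2) (Ideal.Quotient.factor_surjective hQ.1.2)))
  rw [ringKrullDim_quotient]
  refine iSup_le fun t => ?_
  haveI := t.head.1.isPrime
  obtain ⟨R, hR, hRle⟩ := Ideal.exists_minimalPrimes_le (t.head.2 : I ≤ t.head.1.asIdeal)
  rw [← h R hR, ringKrullDim_quotient]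
  let t' : LTSeries (PrimeSpectrum.zeroLocus (R : Set A)) :=
    LTSeries.mk t.length (fun i => ⟨(t i).1, hRle.trans (show t.head.1 ≤ (t i).1 from t.monotone (Fin.zero_le i))⟩)
      fun i j hij => t.strictMono hij
  exact Order.LTSeries.length_le_krullDim t'

section flat

variable {B : Type u} [CommRing B] [Algebra A B] [Module.Flat A B]

omit [IsLocalRing A] [IsNoetherianRing A] in
theorem comap_eq_of_mem_minimalPrimes_map (p : Ideal A) [p.IsPrime] {Q : Ideal B}
    (hQ : Q ∈ (p.map (algebraMap A B)).minimalPrimes) : Q.comap (algebraMap A B) = p := by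
  haveI hQp : Q.IsPrime := hQ.1.1
  have hPQ : p ≤ Q.under A := Ideal.map_le_iff_le_comap.1 hQ.1.2
  refine le_antisymm ?_ hPQ
  haveI : Q.LiesOver (Q.under A) := ⟨rfl⟩
  obtain ⟨Q', hQ'Q, hQ', hlo⟩ := Ideal.exists_ideal_le_liesOver_of_le (p := p) (q := Q.under A) Q hPQ
  have : Q ≤ Q' := hQ.2 ⟨hQ', Ideal.map_le_iff_le_comap.2 hlo.over.le⟩ hQ'Q
  exact (Ideal.comap_mono this).trans hlo.over.ge

omit [IsLocalRing A] in
theorem height_eq_of_mem_minimalPrimes_map [IsNoetherianRing B] (p : Ideal A) [p.IsPrime] {Q : Ideal B}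
    (hQ : Q ∈ (p.map (algebraMap A B)).minimalPrimes) : Q.height = p.height := by
  haveI hQp : Q.IsPrime := hQ.1.1
  haveI : Q.LiesOver p := ⟨(comap_eq_of_mem_minimalPrimes_map p hQ).symm⟩
  rw [Ideal.height_eq_height_add_of_liesOver_of_hasGoingDown p Q]
  have h0 : (Q.map (Ideal.Quotient.mk (p.map (algebraMap A B)))).height = 0 := by
    haveI : (Q.map (Ideal.Quotient.mk (p.map (algebraMap A B)))).IsPrime :=
      Ideal.map_isPrime_of_surjective Ideal.Quotient.mk_surjective (by rw [Ideal.mk_ker]; exact hQ.1.2)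
    rw [Ideal.height_eq_zero_iff]
    refine ⟨⟨inferInstance, bot_le⟩, fun R hR hRQ => ?_⟩
    haveI := hR.1
    have hle : Q ≤ R.comap (Ideal.Quotient.mk (p.map (algebraMap A B))) := by
      refine hQ.2 ⟨inferInstance, fun x hx => ?_⟩ ?_
      · show Ideal.Quotient.mk _ x ∈ R
        rw [Ideal.Quotient.eq_zero_iff_mem.2 hx]; exact zero_mem _
      · refine (Ideal.comap_mono hRQ).trans ?_
        rw [Ideal.comap_map_of_surjective _ Ideal.Quotient.mk_surjective, ← RingHom.ker_eq_comap_bot,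
          Ideal.mk_ker, sup_eq_left.2 hQ.1.2]
    rw [Ideal.map_le_iff_le_comap]
    exact hle
  rw [h0, add_zero]

variable [IsLocalRing B] [IsNoetherianRing B] [IsLocalHom (algebraMap A B)]

omit [IsNoetherianRing A] [IsNoetherianRing B] [Module.Flat A B] in
theorem map_ne_top_of_ne_top (I : Ideal A) (hI : I ≠ ⊤) : I.map (algebraMap A B) ≠ ⊤ :=
  ne_top_of_le_ne_top (maximalIdeal.isMaximal B).ne_top
    ((Ideal.map_mono (le_maximalIdeal hI)).trans (map_maximalIdeal_le (algebraMap A B)))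

/-- `dim B/IB = dim A/I + dim B/mB`. -/
theorem ringKrullDim_quotient_map (I : Ideal A) (hI : I ≠ ⊤) :
    ringKrullDim (B ⧸ I.map (algebraMap A B)) =
      ringKrullDim (A ⧸ I) + ringKrullDim (B ⧸ (maximalIdeal A).map (algebraMap A B)) := by
  let J := I.map (algebraMap A B)
  haveI : Nontrivial (B ⧸ J) := Ideal.Quotient.nontrivial_iff.2 (map_ne_top_of_ne_top I hI)
  haveI : Nontrivial (A ⧸ I) := Ideal.Quotient.nontrivial_iff.2 hI
  haveI : IsLocalRing (B ⧸ J) := IsLocalRing.of_surjective' _ Ideal.Quotient.mk_surjective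
  haveI : IsLocalRing (A ⧸ I) := IsLocalRing.of_surjective' _ Ideal.Quotient.mk_surjective
  letI := CycLib.quotAlgebra (C := B) I
  haveI := CycLib.flat_quotAlgebra (C := B) I
  haveI : IsLocalHom (algebraMap (A ⧸ I) (B ⧸ J)) := by
    refine ⟨fun z hz => ?_⟩
    obtain ⟨a, rfl⟩ := Ideal.Quotient.mk_surjective z
    have h1 : IsUnit (Ideal.Quotient.mk J (algebraMap A B a)) := hz
    haveI : IsLocalHom (Ideal.Quotient.mk J) := IsLocalHom.of_surjective _ Ideal.Quotient.mk_surjective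
    exact (isUnit_of_map_unit _ _ (isUnit_of_map_unit _ _ h1)).map _
  rw [Dim.ringKrullDim_eq_add_fibre (A ⧸ I) (B ⧸ J)]
  congr 1
  have hm : (maximalIdeal A).map (Ideal.Quotient.mk I) = maximalIdeal (A ⧸ I) :=
    IsLocalRing.eq_maximalIdeal (Ideal.IsMaximal.map_of_surjective_of_ker_le Ideal.Quotient.mk_surjective
      (by rw [Ideal.mk_ker]; exact le_maximalIdeal hI))
  have hJ : J ≤ (maximalIdeal A).map (algebraMap A B) := Ideal.map_mono (le_maximalIdeal hI)
  have heq : (maximalIdeal (A ⧸ I)).map (algebraMap (A ⧸ I) (B ⧸ J)) =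
      ((maximalIdeal A).map (algebraMap A B)).map (Ideal.Quotient.mk J) := by
    rw [← hm, Ideal.map_map, Ideal.map_map]
    rfl
  exact ringKrullDim_eq_of_ringEquiv ((Ideal.quotEquivOfEq heq).trans (DoubleQuot.quotQuotEquivQuotOfLE hJ))

/-- EGA IV 7.1.3: each component of a fibre over `p` has dimension `dim A/p + f`. -/
theorem ringKrullDim_quotient_minimalPrimes_map (hcat : CAlg.IsCatenary B) (heq : EGA4.IsEquidim B)
    (p : Ideal A) [p.IsPrime] {Q : Ideal B} (hQ : Q ∈ (p.map (algebraMap A B)).minimalPrimes) :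
    ringKrullDim (B ⧸ Q) = ringKrullDim (B ⧸ p.map (algebraMap A B)) := by
  refine (ringKrullDim_quotient_eq_of_forall_minimalPrimes _
    (map_ne_top_of_ne_top p Ideal.IsPrime.ne_top') fun R hR => ?_).symm
  haveI := hR.1.1
  haveI := hQ.1.1
  have h1 := height_add_ringKrullDim_quotient hcat heq R
  have h2 := height_add_ringKrullDim_quotient hcat heq Q
  rw [height_eq_of_mem_minimalPrimes_map p hR, ← h2, height_eq_of_mem_minimalPrimes_map p hQ] at h1
  obtain ⟨n, hn⟩ := exists_nat_height p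
  obtain ⟨r, hr⟩ := exists_nat_ringKrullDim_quotient R hR.1.1.ne_top
  obtain ⟨q, hq⟩ := exists_nat_ringKrullDim_quotient Q hQ.1.1.ne_top
  rw [hr, hq, hn] at h1
  rw [hr, hq]
  have h3 : n + r = n + q := by exact_mod_cast h1
  exact_mod_cast (by omega : r = q)

/-- `ht p + dim A/p = dim A` descends along flat local homomorphisms. -/
theorem height_add_ringKrullDim_quotient_of_flat (hcat : CAlg.IsCatenary B) (heq : EGA4.IsEquidim B)
    (p : Ideal A) [p.IsPrime] :
    ((p.height : ℕ∞) : WithBot ℕ∞) + ringKrullDim (A ⧸ p) = ringKrullDim A := by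
  obtain ⟨Q, hQ⟩ := Ideal.nonempty_minimalPrimes
    (map_ne_top_of_ne_top (B := B) p Ideal.IsPrime.ne_top')
  haveI := hQ.1.1
  have h1 := height_add_ringKrullDim_quotient hcat heq Q
  rw [height_eq_of_mem_minimalPrimes_map p hQ, ringKrullDim_quotient_minimalPrimes_map hcat heq p hQ,
    ringKrullDim_quotient_map p Ideal.IsPrime.ne_top', Dim.ringKrullDim_eq_add_fibre A B] at h1
  obtain ⟨n, hn⟩ := exists_nat_height p
  obtain ⟨r, hr⟩ := exists_nat_ringKrullDim_quotient p Ideal.IsPrime.ne_top'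
  obtain ⟨f, hf⟩ := exists_nat_ringKrullDim_quotient ((maximalIdeal A).map (algebraMap A B))
    (map_ne_top_of_ne_top _ (maximalIdeal.isMaximal A).ne_top)
  obtain ⟨a, ha, -⟩ := RegLoc.exists_natCast_eq_ringKrullDim A
  rw [hn, hr, hf, ha] at h1
  rw [hn, hr, ha]
  have h3 : n + (r + f) = a + f := by exact_mod_cast h1
  exact_mod_cast (by omega : n + r = a)

/-- EGA IV 7.1.3: equidimensional catenary descends along flat local homomorphisms. -/
theorem isEquidim_and_isCatenary_of_flat (hcat : CAlg.IsCatenary B) (heq : EGA4.IsEquidim B) :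
    EGA4.IsEquidim A ∧ CAlg.IsCatenary A := by
  refine ⟨fun p hp => ?_, ?_⟩
  · haveI := hp.1.1
    have h1 := height_add_ringKrullDim_quotient_of_flat hcat heq p
    rwa [Ideal.height_eq_zero_iff.2 hp, WithBot.coe_zero, zero_add] at h1
  rw [PtTop.Catenary.cat_iff_isCatenary]
  refine PtTop.Catenary.cat_of_rank (fun P : PrimeSpectrum A => ((P.asIdeal.height).toNat : ℤ))
    (fun P Q h => ?_) fun P Q h => ?_
  · obtain ⟨n, hn⟩ := exists_nat_height P.asIdeal
    obtain ⟨m, hm⟩ := exists_nat_height Q.asIdeal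
    have h1 := Ideal.height_strict_mono_of_isPrime (show P.asIdeal < Q.asIdeal from h)
    show ((P.asIdeal.height).toNat : ℤ) < ((Q.asIdeal.height).toNat : ℤ)
    rw [hn, hm] at h1 ⊢
    simpa using h1
  · obtain ⟨q', hq'⟩ := Ideal.nonempty_minimalPrimes
      (map_ne_top_of_ne_top (B := B) Q.asIdeal Ideal.IsPrime.ne_top')
    haveI := hq'.1.1
    have hq'c := comap_eq_of_mem_minimalPrimes_map Q.asIdeal hq'
    have hle : P.asIdeal.map (algebraMap A B) ≤ q' := (Ideal.map_mono h.le).trans hq'.1.2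
    obtain ⟨p', hp', hp'q⟩ := Ideal.exists_minimalPrimes_le hle
    haveI := hp'.1.1
    have hp'c := comap_eq_of_mem_minimalPrimes_map P.asIdeal hp'
    obtain ⟨x, hxQ, hxP⟩ := SetLike.exists_of_lt (show P.asIdeal < Q.asIdeal from h.lt)
    have hlt : p' < q' := lt_of_le_of_ne hp'q fun heq' => h.ne (PrimeSpectrum.ext (by
      rw [← hp'c, ← hq'c, heq']))
    have hcov : (⟨p', inferInstance⟩ : PrimeSpectrum B) ⋖ ⟨q', inferInstance⟩ := by
      refine ⟨hlt, fun r h1 h2 => ?_⟩
      refine h2.ne (PrimeSpectrum.ext (covBy_of_minimal (t := algebraMap A B x) hlt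
        (fun hx => hxP (hp'c ▸ hx)) (show x ∈ q'.comap (algebraMap A B) from hq'c.symm ▸ hxQ)
        (fun R hR hpR hRq hxR => ?_) r.asIdeal r.isPrime h1 h2.le))
      haveI := hR
      refine le_antisymm hRq (hq'.2 ⟨hR, Ideal.map_le_iff_le_comap.2 ?_⟩ hRq)
      have hPR : P.asIdeal ≤ R.comap (algebraMap A B) := hp'c ▸ Ideal.comap_mono hpR
      have hRQ : R.comap (algebraMap A B) ≤ Q.asIdeal := hq'c ▸ Ideal.comap_mono hRq
      rcases eq_or_lt_of_le hRQ with heq' | hlt'
      · exact heq'.ge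
      · exfalso
        have hlt'' : P.asIdeal < R.comap (algebraMap A B) :=
          lt_of_le_of_ne hPR fun heq' => hxP (heq' ▸ hxR)
        exact h.2 (c := ⟨R.comap (algebraMap A B), hR.comap _⟩) hlt'' hlt'
    have e := height_succ_of_covBy hcat heq _ _ hcov
    rw [height_eq_of_mem_minimalPrimes_map P.asIdeal hp',
      height_eq_of_mem_minimalPrimes_map Q.asIdeal hq'] at e
    obtain ⟨n, hn⟩ := exists_nat_height P.asIdeal
    obtain ⟨m, hm⟩ := exists_nat_height Q.asIdeal
    rw [hn, hm] at e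
    show ((Q.asIdeal.height).toNat : ℤ) = ((P.asIdeal.height).toNat : ℤ) + 1
    rw [hn, hm]
    have hmn : m = n + 1 := by exact_mod_cast e
    subst hmn
    simp only [ENat.toNat_natCast]
    push_cast
    ring

/-- Fibres of an equidimensional catenary ring over primes are equidimensional. -/
theorem isEquidim_quotient_map (hcat : CAlg.IsCatenary B) (heq : EGA4.IsEquidim B) (p : Ideal A)
    [p.IsPrime] : EGA4.IsEquidim (B ⧸ p.map (algebraMap A B)) := by
  rw [Hensel.isEquidim_iff_of_surjective (Ideal.Quotient.mk _) Ideal.Quotient.mk_surjective, Ideal.mk_ker]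
  exact fun Q hQ => ringKrullDim_quotient_minimalPrimes_map hcat heq p hQ

/-- EGA IV 7.1.3 (ii): with zero dimensional closed fibre, `A/a` is equidimensional iff `B/aB` is. -/
theorem isEquidim_quotient_iff (hcat : CAlg.IsCatenary B) (heq : EGA4.IsEquidim B)
    (h0 : ringKrullDim (B ⧸ (maximalIdeal A).map (algebraMap A B)) = 0) (a : Ideal A) :
    EGA4.IsEquidim (B ⧸ a.map (algebraMap A B)) ↔ EGA4.IsEquidim (A ⧸ a) := by
  rw [Hensel.isEquidim_iff_of_surjective (Ideal.Quotient.mk _) Ideal.Quotient.mk_surjective,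
    Hensel.isEquidim_iff_of_surjective (Ideal.Quotient.mk a) Ideal.Quotient.mk_surjective,
    Ideal.mk_ker, Ideal.mk_ker]
  by_cases ha : a = ⊤
  · subst ha
    rw [Ideal.map_top]
    constructor <;> intro _ Q hQ <;> exact absurd (top_le_iff.1 hQ.1.2) hQ.1.1.ne_top
  rw [ringKrullDim_quotient_map a ha, h0, add_zero]
  have key : ∀ (p : Ideal A) [p.IsPrime] (Q : Ideal B), Q ∈ (p.map (algebraMap A B)).minimalPrimes →
      ringKrullDim (B ⧸ Q) = ringKrullDim (A ⧸ p) := fun p _ Q hQ => by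
    rw [ringKrullDim_quotient_minimalPrimes_map hcat heq p hQ,
      ringKrullDim_quotient_map p Ideal.IsPrime.ne_top', h0, add_zero]
  constructor
  · intro h p hp
    haveI := hp.1.1
    obtain ⟨Q, hQ⟩ := Ideal.nonempty_minimalPrimes
      (map_ne_top_of_ne_top (B := B) p Ideal.IsPrime.ne_top')
    rw [← key p Q hQ]
    refine h Q ⟨⟨hQ.1.1, (Ideal.map_mono hp.1.2).trans hQ.1.2⟩, fun R hR hRQ => ?_⟩
    haveI := hR.1
    refine hQ.2 ⟨hR.1, Ideal.map_le_iff_le_comap.2 (hp.2 ⟨inferInstance,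
      Ideal.map_le_iff_le_comap.1 hR.2⟩ ?_)⟩ hRQ
    rw [← comap_eq_of_mem_minimalPrimes_map p hQ]
    exact Ideal.comap_mono hRQ
  · intro h Q hQ
    haveI := hQ.1.1
    let p := Q.comap (algebraMap A B)
    have hp : p ∈ a.minimalPrimes := by
      refine ⟨⟨inferInstance, Ideal.map_le_iff_le_comap.1 hQ.1.2⟩, fun r hr hrp => ?_⟩
      haveI := hr.1
      haveI : Q.LiesOver p := ⟨rfl⟩
      obtain ⟨R, hRQ, hR, hlo⟩ := Ideal.exists_ideal_le_liesOver_of_le (p := r) (q := p) Q hrp
      have : Q ≤ R := hQ.2 ⟨hR, Ideal.map_le_iff_le_comap.2 (hr.2.trans hlo.over.le)⟩ hRQ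
      exact (Ideal.comap_mono this).trans hlo.over.ge
    rw [key p Q ⟨⟨hQ.1.1, Ideal.map_le_iff_le_comap.2 le_rfl⟩,
      fun R hR hRQ => hQ.2 ⟨hR.1, (Ideal.map_mono hp.1.2).trans hR.2⟩ hRQ⟩]
    exact h p hp

end flat

end Groth.Agent.EGA4Lib
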