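import Groth.Agent.Hens.PairStage
import Mathlib.RingTheory.Filtration
import Mathlib.RingTheory.Smooth.Flat
import Mathlib.RingTheory.Smooth.NoetherianDescent
import Mathlib.RingTheory.LocalRing.ResidueField.Basic

/-!
Injective étale stages of the henselization of a Noetherian pair, and descent of finite étale
algebras from the henselization to such a stage.
-/

universe u

set_option autoImplicit false
set_option linter.style.haveILetI false

open TensorProduct

namespace Groth.Agent.EGA4Lib.EtaleStage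

open Groth.Agent.Hens

variable {A : Type u} [CommRing A] {I : Ideal A}

/-- Over a Noetherian ring the henselization of a pair is a union of étale algebras with the same
quotient modulo the ideal. -/
theorem exists_injective_stage [IsNoetherianRing A] (z : Finset (PairHenselization A I)) :
    ∃ (S : Type u) (_ : CommRing S) (_ : Algebra A S), Algebra.Etale A S ∧
      ∃ θ : S →ₐ[A] PairHenselization A I, Function.Injective θ ∧ (∀ x ∈ z, x ∈ θ.range) ∧
        RingHom.ker ((pairPoint A I).comp θ).toRingHom = I.map (algebraMap A S) := by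
  classical
  obtain ⟨S₀, _, _, _, θ₀, hz⟩ := exists_pairStage_finset z
  obtain ⟨t, ht, hbij⟩ := exists_away_bijective ((pairPoint A I).comp θ₀)
  have hu : IsUnit (θ₀ t) := isUnit_of_isUnit_pairPoint A I (by
    rw [show pairPoint A I (θ₀ t) = 1 from ht]; exact isUnit_one)
  let S₁ := Localization.Away t
  let θ₁ : S₁ →ₐ[A] PairHenselization A I := awayExt θ₀ t hu
  set J : Ideal S₁ := I.map (algebraMap A S₁) with hJ
  obtain ⟨σ', hσ'⟩ := exists_section_of_bijective hbij
  have hσ₁ : (pairPoint A I).comp θ₁ = σ' := section_unique_self hbij.2 _ _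
  haveI : IsNoetherianRing S₁ := Algebra.FiniteType.isNoetherianRing A S₁
  -- the kernel of the stage lies in all powers of `J`
  have hK : ∀ x, θ₁ x = 0 → ∀ n, x ∈ J ^ n := by
    intro x hx n
    haveI : HenselianRing (S₁ ⧸ J ^ n) (J.map (Ideal.Quotient.mk (J ^ n))) :=
      Groth.Agent.Hensel.henselianRing_of_isNilpotent fun y hy => ⟨n, by
        have := Ideal.pow_mem_pow hy n
        rw [← Ideal.map_pow (Ideal.Quotient.mk (J ^ n)), Ideal.map_quotient_self] at this
        exact Ideal.mem_bot.1 this⟩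
    obtain ⟨g, hg, -⟩ := (isPairHenselization_pairHenselization (A := A) (I := I)).2 (S₁ ⧸ J ^ n)
      (J.map (Ideal.Quotient.mk (J ^ n))) (algebraMap A (S₁ ⧸ J ^ n)) inferInstance (by
        rw [hJ, Ideal.map_map]
        exact le_of_eq rfl)
    let g' : PairHenselization A I →ₐ[A] S₁ ⧸ J ^ n :=
      { g with commutes' := fun a => RingHom.congr_fun hg a }
    have hnil : IsNilpotent (J.map (Ideal.Quotient.mk (J ^ n))) := ⟨n, by
      rw [← Ideal.map_pow (Ideal.Quotient.mk (J ^ n)), Ideal.map_quotient_self, Ideal.zero_eq_bot]⟩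
    have key : g'.comp θ₁ = Ideal.Quotient.mkₐ A (J ^ n) := by
      refine Algebra.FormallyUnramified.ext (J.map (Ideal.Quotient.mk (J ^ n))) hnil ?_
      intro y
      have := section_unique (S := S₁) (C := (S₁ ⧸ J ^ n) ⧸ J.map (Ideal.Quotient.mk (J ^ n))) hbij.2
        ((Ideal.Quotient.mkₐ A (J.map (Ideal.Quotient.mk (J ^ n)))).comp (g'.comp θ₁))
        ((Ideal.Quotient.mkₐ A (J.map (Ideal.Quotient.mk (J ^ n)))).comp
          (Ideal.Quotient.mkₐ A (J ^ n))) (fun a ha => ?_)
      · exact AlgHom.congr_fun this y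
      · rw [IsScalarTower.algebraMap_apply A (S₁ ⧸ J ^ n)]
        exact Ideal.Quotient.eq_zero_iff_mem.2
          (Ideal.mem_map_of_mem _ (Ideal.mem_map_of_mem (algebraMap A S₁) ha))
    have := AlgHom.congr_fun key x
    rw [AlgHom.comp_apply, hx, map_zero] at this
    exact Ideal.Quotient.eq_zero_iff_mem.1 this.symm
  -- an element congruent to one killing the kernel
  obtain ⟨F, hF⟩ := (IsNoetherian.noetherian (RingHom.ker θ₁.toRingHom) : Submodule.FG _)
  have hr : ∀ x ∈ F, ∃ r : S₁, r ∈ J ∧ (1 - r) * x = 0 := by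
    intro x hx
    have hx0 : θ₁ x = 0 := (hF ▸ Submodule.subset_span hx : x ∈ RingHom.ker θ₁.toRingHom)
    have : x ∈ (⨅ i : ℕ, J ^ i • ⊤ : Submodule S₁ S₁) :=
      Submodule.mem_iInf _ |>.2 fun i => by
        rw [smul_eq_mul, Ideal.mul_top]; exact hK x hx0 i
    obtain ⟨r, hr⟩ := (J.mem_iInf_smul_pow_eq_bot_iff x).1 this
    exact ⟨r, r.2, by rw [sub_mul, one_mul, ← smul_eq_mul, hr, sub_self]⟩
  choose! r hrJ hrx using hr
  let g : S₁ := ∏ x ∈ F, (1 - r x)
  have hgJ : g - 1 ∈ J := by
    rw [← Ideal.Quotient.eq, map_prod, map_one]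
    refine Finset.prod_eq_one fun x hx => ?_
    rw [map_sub, map_one, Ideal.Quotient.eq_zero_iff_mem.2 (hrJ x hx), sub_zero]
  have hgK : ∀ x, θ₁ x = 0 → g * x = 0 := by
    intro x hx
    have : x ∈ Submodule.span S₁ (↑F : Set S₁) := by rw [hF]; exact hx
    refine Submodule.span_induction ?_ (mul_zero g) ?_ ?_ this
    · intro y hy
      show (∏ x ∈ F, (1 - r x)) * y = 0
      rw [← Finset.prod_erase_mul F _ hy, mul_assoc, hrx y hy, mul_zero]
    · intro a b _ _ ha hb; rw [mul_add, ha, hb, add_zero]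
    · intro c a _ ha; rw [smul_eq_mul, mul_left_comm, ha, mul_zero]
  have hgone : pairPoint A I (θ₁ g) = 1 := by
    have : σ' (g - 1) = 0 := (hσ'.ge hgJ : (g - 1) ∈ RingHom.ker σ'.toRingHom)
    rw [map_sub, map_one, sub_eq_zero] at this
    exact (AlgHom.congr_fun hσ₁ g).trans this
  have hug : IsUnit (θ₁ g) := isUnit_of_isUnit_pairPoint A I (by rw [hgone]; exact isUnit_one)
  let θ₂ : Localization.Away g →ₐ[A] PairHenselization A I := awayExt θ₁ g hug
  refine ⟨Localization.Away g, inferInstance, inferInstance,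
    Algebra.Etale.comp A S₁ (Localization.Away g), θ₂, ?_, ?_, ?_⟩
  · refine (injective_iff_map_eq_zero _).2 fun y hy => ?_
    obtain ⟨s, d, rfl⟩ := IsLocalization.exists_mk'_eq (Submonoid.powers g) y
    have hs : θ₁ s = 0 := by
      rw [← awayExt_algebraMap θ₁ g hug, ← IsLocalization.mk'_spec (Localization.Away g) s d,
        map_mul]
      show θ₂ _ * _ = 0
      rw [hy, zero_mul]
    exact (IsLocalization.mk'_eq_zero_iff s d).2 ⟨⟨g, Submonoid.mem_powers g⟩, hgK s hs⟩
  · intro x hx
    obtain ⟨s, rfl⟩ := (hz x hx)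
    refine ⟨algebraMap S₁ _ (algebraMap S₀ S₁ s), ?_⟩
    show θ₂ _ = θ₀ s
    rw [show θ₂ (algebraMap S₁ _ (algebraMap S₀ S₁ s)) = θ₁ (algebraMap S₀ S₁ s) from
      awayExt_algebraMap θ₁ g hug _]
    exact awayExt_algebraMap θ₀ t hu s
  · refine le_antisymm (fun y hy => ?_) ?_
    · obtain ⟨s, d, rfl⟩ := IsLocalization.exists_mk'_eq (Submonoid.powers g) y
      have hs : σ' s = 0 := by
        rw [← hσ₁, AlgHom.comp_apply, ← awayExt_algebraMap θ₁ g hug,
          ← IsLocalization.mk'_spec (Localization.Away g) s d, map_mul, map_mul]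
        show (pairPoint A I).comp θ₂ _ * _ = 0
        rw [show (pairPoint A I).comp θ₂ _ = 0 from hy, zero_mul]
      have hsJ : s ∈ J := hσ'.le hs
      rw [IsScalarTower.algebraMap_eq A S₁ (Localization.Away g), ← Ideal.map_map, ← hJ,
        IsLocalization.mem_map_algebraMap_iff (Submonoid.powers g)]
      exact ⟨⟨⟨s, hsJ⟩, d⟩, IsLocalization.mk'_spec _ s d⟩
    · rw [Ideal.map_le_iff_le_comap]
      intro a ha
      show (pairPoint A I).comp θ₂ (algebraMap A _ a) = 0
      rw [AlgHom.commutes]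
      exact Ideal.Quotient.eq_zero_iff_mem.2 ha

/-- A finite étale algebra over the henselization of a Noetherian pair comes from a stage, together
with its reduction. -/
theorem exists_finiteEtale_stage [IsNoetherianRing A] (BH : Type u) [CommRing BH]
    [Algebra (PairHenselization A I) BH] [Module.Finite (PairHenselization A I) BH]
    [Algebra.Etale (PairHenselization A I) BH]
    (B₀ : Type u) [CommRing B₀] (q : BH →+* B₀) (hq : Function.Surjective q)
    (hqk : RingHom.ker q =
      I.map ((algebraMap (PairHenselization A I) BH).comp (algebraMap A (PairHenselization A I)))) :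
    ∃ (S : Type u) (_ : CommRing S) (_ : Algebra A S) (_ : Algebra.Etale A S)
      (θ : S →ₐ[A] PairHenselization A I)
      (_ : RingHom.ker ((pairPoint A I).comp θ).toRingHom = I.map (algebraMap A S))
      (B : Type u) (_ : CommRing B) (_ : Algebra S B) (_ : Algebra.Etale S B) (qB : B →+* B₀),
      Module.Finite S B ∧ Function.Surjective qB ∧
      RingHom.ker qB = (I.map (algebraMap A S)).map (algebraMap S B) ∧
      ∀ s, qB (algebraMap S B s) = q (algebraMap _ BH (θ s)) := by
  classical
  let H := PairHenselization A I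
  obtain ⟨H₀, B₁, _, _, hfg, _, ⟨Φ⟩⟩ := Algebra.Etale.exists_subalgebra_fg A H BH
  obtain ⟨G, hG⟩ := (inferInstance : Algebra.FiniteType H₀ B₁).out
  have hint : ∀ b : B₁, ∃ p : Polynomial H, p.Monic ∧
      Polynomial.eval₂ (algebraMap H (H ⊗[H₀] B₁)) (1 ⊗ₜ b) p = 0 := by
    intro b
    haveI : Module.Finite H (H ⊗[H₀] B₁) := Module.Finite.equiv Φ.toLinearEquiv
    exact Algebra.IsIntegral.isIntegral _
  choose p hpm hp using hint
  obtain ⟨G₀, hG₀⟩ := hfg
  obtain ⟨S, _, _, _, θ, hθi, hθr, hθk⟩ :=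
    exists_injective_stage (G₀ ∪ G.biUnion fun b => (p b).coeffs)
  have hle : H₀ ≤ θ.range := by
    rw [← hG₀]
    exact Algebra.adjoin_le fun x hx => hθr x (Finset.mem_union_left _ hx)
  let ψ : H₀ →ₐ[A] S :=
    (AlgEquiv.ofInjective θ hθi).symm.toAlgHom.comp (Subalgebra.inclusion hle)
  have hψ : ∀ h : H₀, θ (ψ h) = h := fun h =>
    congrArg Subtype.val ((AlgEquiv.ofInjective θ hθi).apply_symm_apply (Subalgebra.inclusion hle h))
  letI : Algebra H₀ S := ψ.toRingHom.toAlgebra
  let θ' : S →ₐ[H₀] H := { θ.toRingHom with commutes' := hψ }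
  let Θ : S ⊗[H₀] B₁ →ₐ[H₀] H ⊗[H₀] B₁ := Algebra.TensorProduct.map θ' (AlgHom.id H₀ B₁)
  have hΘ : Function.Injective Θ :=
    Module.Flat.rTensor_preserves_injective_linearMap (M := B₁) θ'.toLinearMap hθi
  -- finiteness
  have hgen : ∀ b ∈ G, IsIntegral S ((1 : S) ⊗ₜ[H₀] b) := by
    intro b hb
    have hc : p b ∈ Polynomial.lifts θ.toRingHom := by
      rw [Polynomial.lifts_iff_coeff_lifts]
      intro n
      by_cases h0 : (p b).coeff n = 0
      · exact ⟨0, by rw [map_zero, h0]⟩
      · exact hθr _ (Finset.mem_union_right _ (Finset.mem_biUnion.2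
          ⟨b, hb, Polynomial.coeff_mem_coeffs h0⟩))
    obtain ⟨p', hp', -, hp'm⟩ := Polynomial.lifts_and_natDegree_eq_and_monic hc (hpm b)
    refine ⟨p', hp'm, hΘ ?_⟩
    rw [map_zero, ← hp b, ← hp', Polynomial.eval₂_map]
    show Θ.toRingHom _ = _
    rw [Polynomial.hom_eval₂]
    congr 1
    show θ' 1 ⊗ₜ[H₀] b = _
    rw [map_one]
  have hall : ∀ b : B₁, IsIntegral S ((1 : S) ⊗ₜ[H₀] b) := by
    intro b
    have : b ∈ Algebra.adjoin H₀ (↑G : Set B₁) := by rw [hG]; trivial
    have hle' : Algebra.adjoin H₀ (↑G : Set B₁) ≤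
        ((integralClosure S (S ⊗[H₀] B₁)).restrictScalars H₀).comap
          (Algebra.TensorProduct.includeRight) := Algebra.adjoin_le fun x hx => hgen x hx
    exact hle' this
  haveI : Algebra.IsIntegral S (S ⊗[H₀] B₁) := ⟨fun x => by
    induction x using TensorProduct.induction_on with
    | zero => exact isIntegral_zero
    | tmul s b =>
      rw [show s ⊗ₜ[H₀] b = s • ((1 : S) ⊗ₜ[H₀] b) by rw [smul_tmul', smul_eq_mul, mul_one]]
      exact (hall b).smul s
    | add x y hx hy => exact hx.add hy⟩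
  have hfin : Module.Finite S (S ⊗[H₀] B₁) := Algebra.IsIntegral.finite
  -- the reduction
  let qH : H ⊗[H₀] B₁ →+* B₀ := q.comp Φ.symm.toRingHom
  let qB : S ⊗[H₀] B₁ →+* B₀ := qH.comp Θ.toRingHom
  have hker : RingHom.ker qH =
      I.map ((algebraMap H (H ⊗[H₀] B₁)).comp (algebraMap A H)) := by
    have e : (algebraMap H (H ⊗[H₀] B₁)).comp (algebraMap A H) =
        (Φ.toRingEquiv.toRingHom).comp ((algebraMap H BH).comp (algebraMap A H)) :=
      RingHom.ext fun a => (Φ.commutes _).symm
    rw [e, ← Ideal.map_map, ← hqk]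
    ext y
    refine ⟨fun hy => ?_, fun hy => ?_⟩
    · have : Φ.symm y ∈ RingHom.ker q := hy
      have := Ideal.mem_map_of_mem Φ.toRingEquiv.toRingHom this
      simpa using this
    · obtain ⟨x, hx, rfl⟩ :=
        (Ideal.mem_map_iff_of_surjective _ Φ.toRingEquiv.surjective).1 hy
      show q (Φ.symm (Φ x)) = 0
      rw [Φ.symm_apply_apply]; exact hx
  -- left inverse modulo `I`
  set IB : Ideal (S ⊗[H₀] B₁) := (I.map (algebraMap A S)).map (algebraMap S _) with hIB
  have hσ : ∀ s s', pairPoint A I (θ s) = pairPoint A I (θ s') →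
      (Ideal.Quotient.mk IB (algebraMap S _ s) : (S ⊗[H₀] B₁) ⧸ IB) =
        Ideal.Quotient.mk IB (algebraMap S _ s') := by
    intro s s' h
    rw [Ideal.Quotient.eq, ← map_sub]
    refine Ideal.mem_map_of_mem _ ?_
    rw [← hθk, RingHom.mem_ker]
    show pairPoint A I (θ (s - s')) = 0
    rw [map_sub, map_sub, h, sub_self]
  have hσs : Function.Surjective ((pairPoint A I).comp θ) := fun y => by
    obtain ⟨a, rfl⟩ := Ideal.Quotient.mk_surjective y
    exact ⟨algebraMap A S a, by rw [AlgHom.commutes]; rfl⟩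
  let r₀ : A ⧸ I →+* (S ⊗[H₀] B₁) ⧸ IB :=
    RingHom.liftOfSurjective ((pairPoint A I).comp θ).toRingHom hσs
      ⟨(Ideal.Quotient.mk IB).comp (algebraMap S _), fun s hs => by
        show (Ideal.Quotient.mk IB (algebraMap S _ s) : _) = 0
        rw [hσ s 0 (by rw [show pairPoint A I (θ s) = 0 from hs, map_zero, map_zero]), map_zero,
          map_zero]⟩
  have hr₀ : ∀ s, r₀ (pairPoint A I (θ s)) = Ideal.Quotient.mk IB (algebraMap S _ s) := fun s =>
    RingHom.liftOfSurjective_comp_apply _ _ _ s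
  let r : H →ₐ[H₀] (S ⊗[H₀] B₁) ⧸ IB :=
    { r₀.comp (pairPoint A I).toRingHom with
      commutes' := fun h => by
        show r₀ (pairPoint A I (h : H)) = _
        rw [← hψ h, hr₀]
        rfl }
  let L : H ⊗[H₀] B₁ →ₐ[H₀] (S ⊗[H₀] B₁) ⧸ IB :=
    Algebra.TensorProduct.lift r
      ((Ideal.Quotient.mkₐ H₀ IB).comp Algebra.TensorProduct.includeRight)
      (fun _ _ => Commute.all _ _)
  have hLtmul : ∀ (h : H) (b : B₁), L (h ⊗ₜ[H₀] b) =
      r h * Ideal.Quotient.mk IB ((1 : S) ⊗ₜ[H₀] b) := fun h b =>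
    Algebra.TensorProduct.lift_tmul r _ _ h b
  have hLΘ : ∀ x, L (Θ x) = Ideal.Quotient.mk IB x := by
    intro x
    induction x using TensorProduct.induction_on with
    | zero => rw [map_zero, map_zero, map_zero]
    | tmul s b =>
      refine (hLtmul (θ s) b).trans ?_
      rw [show r (θ s) = Ideal.Quotient.mk IB (algebraMap S _ s) from hr₀ s]
      show Ideal.Quotient.mk IB (s ⊗ₜ[H₀] (1 : B₁)) * _ = _
      rw [← map_mul, Algebra.TensorProduct.tmul_mul_tmul, mul_one, one_mul]
    | add x y hx hy => rw [map_add, map_add, hx, hy, map_add]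
  refine ⟨S, inferInstance, inferInstance, inferInstance, θ, hθk, S ⊗[H₀] B₁, inferInstance,
    inferInstance, inferInstance, qB, hfin, ?_, ?_, ?_⟩
  · intro y
    obtain ⟨x, rfl⟩ : ∃ x, qH x = y := by
      obtain ⟨b, rfl⟩ := hq y
      exact ⟨Φ b, congrArg q (Φ.symm_apply_apply b)⟩
    induction x using TensorProduct.induction_on with
    | zero => exact ⟨0, by rw [map_zero, map_zero]⟩
    | tmul h b =>
      obtain ⟨s, hs⟩ := hσs (pairPoint A I h)
      refine ⟨s ⊗ₜ b, ?_⟩
      show qH (θ s ⊗ₜ b) = qH (h ⊗ₜ b)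
      rw [← sub_eq_zero, ← map_sub, ← sub_tmul, ← RingHom.mem_ker, hker, ← Ideal.map_map]
      have hd : θ s - h ∈ I.map (algebraMap A H) := by
        rw [← ker_pairPoint, RingHom.mem_ker]
        show pairPoint A I (θ s - h) = 0
        rw [map_sub, sub_eq_zero]
        exact hs
      rw [show (θ s - h) ⊗ₜ[H₀] b =
        (algebraMap H (H ⊗[H₀] B₁) (θ s - h)) * ((1 : H) ⊗ₜ[H₀] b) by
          rw [Algebra.TensorProduct.algebraMap_apply, Algebra.TensorProduct.tmul_mul_tmul,
            mul_one, one_mul]; rfl]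
      exact Ideal.mul_mem_right _ _ (Ideal.mem_map_of_mem _ hd)
    | add x y hx hy =>
      obtain ⟨a, ha⟩ := hx
      obtain ⟨b, hb⟩ := hy
      exact ⟨a + b, by rw [map_add, map_add, ha, hb]⟩
  · refine le_antisymm (fun x hx => ?_) ?_
    · rw [← Ideal.Quotient.eq_zero_iff_mem, ← hLΘ]
      have hx' : Θ x ∈ RingHom.ker qH := hx
      rw [hker] at hx'
      have : I.map ((algebraMap H (H ⊗[H₀] B₁)).comp (algebraMap A H)) ≤
          RingHom.ker L.toRingHom := by
        rw [Ideal.map_le_iff_le_comap]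
        intro a ha
        show L (algebraMap A H a ⊗ₜ[H₀] (1 : B₁)) = 0
        refine (hLtmul _ _).trans ?_
        rw [show ((1 : S) ⊗ₜ[H₀] (1 : B₁)) = 1 from rfl, map_one, mul_one]
        show r₀ (pairPoint A I (algebraMap A H a)) = 0
        rw [AlgHom.commutes, Ideal.Quotient.algebraMap_eq, Ideal.Quotient.eq_zero_iff_mem.2 ha,
          map_zero]
      exact this hx'
    · rw [Ideal.map_map, Ideal.map_le_iff_le_comap]
      intro a ha
      show qH (Θ (algebraMap A S a ⊗ₜ[H₀] (1 : B₁))) = 0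
      rw [← RingHom.mem_ker, hker]
      show θ (algebraMap A S a) ⊗ₜ[H₀] (1 : B₁) ∈ _
      rw [θ.commutes]
      exact Ideal.mem_map_of_mem _ ha
  · intro s
    show q (Φ.symm (θ s ⊗ₜ[H₀] (1 : B₁))) = _
    rw [show θ s ⊗ₜ[H₀] (1 : B₁) = algebraMap H (H ⊗[H₀] B₁) (θ s) from rfl, Φ.symm.commutes]

/-- `k ⊗_V S ≅ T` when `S → T` is surjective with kernel `𝔪 S`. -/
noncomputable def residueEquiv (V : Type u) [CommRing V] [IsLocalRing V] {S T : Type u}
    [CommRing S] [Algebra V S] [CommRing T] [Algebra (IsLocalRing.ResidueField V) T]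
    [Algebra V T] [IsScalarTower V (IsLocalRing.ResidueField V) T]
    (q : S →ₐ[V] T) (hq : Function.Surjective q)
    (hk : RingHom.ker q.toRingHom = (IsLocalRing.maximalIdeal V).map (algebraMap V S)) :
    (IsLocalRing.ResidueField V) ⊗[V] S ≃ₐ[IsLocalRing.ResidueField V] T :=
  AlgEquiv.ofBijective
    (Algebra.TensorProduct.lift (Algebra.ofId (IsLocalRing.ResidueField V) T) q
      (fun _ _ => Commute.all _ _)) (by
    constructor
    · rw [injective_iff_map_eq_zero]
      intro x hx
      obtain ⟨s, rfl⟩ := Algebra.TensorProduct.includeRight_surjective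
        (R := V) (S := IsLocalRing.ResidueField V) S Ideal.Quotient.mk_surjective x
      have hs : s ∈ RingHom.ker q.toRingHom := by
        rw [Algebra.TensorProduct.includeRight_apply, Algebra.TensorProduct.lift_tmul, map_one,
          one_mul] at hx
        exact hx
      rw [hk] at hs
      have : (IsLocalRing.maximalIdeal V).map (algebraMap V S) ≤ RingHom.ker
          (Algebra.TensorProduct.includeRight :
            S →ₐ[V] IsLocalRing.ResidueField V ⊗[V] S).toRingHom := by
        rw [Ideal.map_le_iff_le_comap]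
        intro v hv
        show Algebra.TensorProduct.includeRight (algebraMap V S v) = 0
        rw [AlgHom.commutes, IsScalarTower.algebraMap_apply V (IsLocalRing.ResidueField V),
          show algebraMap V (IsLocalRing.ResidueField V) v = 0 from
            Ideal.Quotient.eq_zero_iff_mem.2 hv, map_zero]
      exact this hs
    · intro t
      obtain ⟨s, rfl⟩ := hq t
      exact ⟨1 ⊗ₜ s, by rw [Algebra.TensorProduct.lift_tmul, map_one, one_mul]⟩)

theorem residueEquiv_tmul (V : Type u) [CommRing V] [IsLocalRing V] {S T : Type u}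
    [CommRing S] [Algebra V S] [CommRing T] [Algebra (IsLocalRing.ResidueField V) T]
    [Algebra V T] [IsScalarTower V (IsLocalRing.ResidueField V) T]
    (q : S →ₐ[V] T) (hq : Function.Surjective q)
    (hk : RingHom.ker q.toRingHom = (IsLocalRing.maximalIdeal V).map (algebraMap V S))
    (c : IsLocalRing.ResidueField V) (s : S) :
    residueEquiv V q hq hk (c ⊗ₜ s) = algebraMap _ T c * q s :=
  Algebra.TensorProduct.lift_tmul _ q (fun _ _ => Commute.all _ _) c s

end Groth.Agent.EGA4Lib.EtaleStage
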