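import Groth.Agent.Adic.Basic
import Groth.Agent.Goldman.Basic
import Groth.Agent.Nagata.CompleteLocal
import Groth.Agent.Props.N2Local
import Mathlib.RingTheory.LocalRing.Length
import Mathlib.RingTheory.HopkinsLevitzki
import Mathlib.RingTheory.AdicCompletion.Noetherian
import Mathlib.RingTheory.RegularLocalRing.Defs

/-!
# One-dimensional quotients of local algebras over complete local rings
-/

set_option autoImplicit false
set_option linter.style.haveILetI false

open IsLocalRing

namespace Groth.Agent.EGA4Lib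

universe u

variable (A B : Type u) [CommRing A] [CommRing B] [IsLocalRing A] [IsLocalRing B] [IsNoetherianRing B]
  [Algebra A B] [IsLocalHom (algebraMap A B)]

theorem finite_quotient_of_krullDimLE_zero [Module.Finite (ResidueField A) (ResidueField B)]
    (J : Ideal B) [Ring.KrullDimLE 0 (B ⧸ J)] : Module.Finite A (B ⧸ J) := by
  haveI : IsArtinianRing (B ⧸ J) :=
    isArtinianRing_iff_isNoetherianRing_krullDimLE_zero.2 ⟨inferInstance, inferInstance⟩
  haveI : IsArtinian B (B ⧸ J) :=
    isArtinian_of_surjective_algebraMap (R := B ⧸ J) (S := B) Ideal.Quotient.mk_surjective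
  have h1 : IsFiniteLength B (B ⧸ J) :=
    isFiniteLength_iff_isNoetherian_isArtinian.2 ⟨inferInstance, inferInstance⟩
  have h2 : IsFiniteLength (ResidueField A) (ResidueField B) :=
    isFiniteLength_iff_isNoetherian_isArtinian.2 ⟨inferInstance, inferInstance⟩
  have h3 : Module.length A (B ⧸ J) ≠ ⊤ := by
    rw [IsLocalRing.length_restrictScalars A B (B ⧸ J)]
    exact WithTop.mul_ne_top (Module.length_ne_top_iff.2 h1) (Module.length_ne_top_iff.2 h2)
  haveI := (isFiniteLength_iff_isNoetherian_isArtinian.1 (Module.length_ne_top_iff.1 h3)).1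
  infer_instance

/-- `B/Q` is finite over a complete `A` if every prime strictly above `Q` contains a fixed element of
`m B` outside `Q`. -/
theorem finite_quotient_of_forall_mem [IsNoetherianRing A] [IsAdicComplete (maximalIdeal A) A]
    [Module.Finite (ResidueField A) (ResidueField B)] (Q : Ideal B) [Q.IsPrime] (g : B)
    (hg : g ∈ (maximalIdeal A).map (algebraMap A B)) (hgQ : g ∉ Q)
    (h : ∀ (P : Ideal B) [P.IsPrime], Q ≤ P → P ≠ Q → g ∈ P) :
    Module.Finite A (B ⧸ Q) ∧ Ring.KrullDimLE 1 (B ⧸ Q) := by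
  have hdim : Ring.KrullDimLE 1 (B ⧸ Q) := by
    refine (Goldman.finite_and_dimLE_one_of_forall_mem (f := Ideal.Quotient.mk Q g)
      (fun h0 => hgQ (Ideal.Quotient.eq_zero_iff_mem.1 h0)) fun P hP hPb => ?_).2
    haveI := hP
    show g ∈ P.comap (Ideal.Quotient.mk Q)
    refine h _ (fun x hx => ?_) fun heq => hPb ?_
    · show Ideal.Quotient.mk Q x ∈ P
      rw [Ideal.Quotient.eq_zero_iff_mem.2 hx]; exact zero_mem _
    · rw [← Ideal.map_comap_of_surjective (Ideal.Quotient.mk Q) Ideal.Quotient.mk_surjective P, heq,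
        Ideal.map_quotient_self]
  refine ⟨?_, hdim⟩
  let J : Ideal B := Q ⊔ (maximalIdeal A).map (algebraMap A B)
  haveI : Ring.KrullDimLE 0 (B ⧸ J) := by
    refine Ring.KrullDimLE.mk₀ fun I hI => ?_
    let P := I.comap (Ideal.Quotient.mk J)
    haveI : P.IsPrime := hI.comap _
    have hJP : J ≤ P := fun x hx => by
      show Ideal.Quotient.mk J x ∈ I
      rw [Ideal.Quotient.eq_zero_iff_mem.2 hx]; exact zero_mem _
    have hQP : Q ≤ P := le_sup_left.trans hJP
    have hgP : g ∈ P := hJP (le_sup_right (a := Q) hg)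
    have hne : P.map (Ideal.Quotient.mk Q) ≠ ⊥ := fun hb => hgQ (by
      have := Ideal.mem_map_of_mem (Ideal.Quotient.mk Q) hgP
      rw [hb, Ideal.mem_bot] at this
      exact Ideal.Quotient.eq_zero_iff_mem.1 this)
    haveI : (P.map (Ideal.Quotient.mk Q)).IsPrime :=
      Ideal.map_isPrime_of_surjective Ideal.Quotient.mk_surjective (by rw [Ideal.mk_ker]; exact hQP)
    have hmax : (P.map (Ideal.Quotient.mk Q)).IsMaximal :=
      Ring.krullDimLE_one_iff_of_noZeroDivisors.1 hdim _ hne inferInstance
    have hPmax : P.IsMaximal := by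
      haveI := hmax
      have := Ideal.comap_isMaximal_of_surjective (K := P.map (Ideal.Quotient.mk Q))
        (Ideal.Quotient.mk Q) Ideal.Quotient.mk_surjective
      rwa [Ideal.comap_map_of_surjective _ Ideal.Quotient.mk_surjective, ← RingHom.ker_eq_comap_bot,
        Ideal.mk_ker, sup_eq_left.2 hQP] at this
    haveI := hPmax
    have : (P.map (Ideal.Quotient.mk J)).IsMaximal := Ideal.IsMaximal.map_of_surjective_of_ker_le
      Ideal.Quotient.mk_surjective (by rw [Ideal.mk_ker]; exact hJP)
    rwa [Ideal.map_comap_of_surjective _ Ideal.Quotient.mk_surjective] at this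
  haveI := finite_quotient_of_krullDimLE_zero A B J
  haveI : IsHausdorff (maximalIdeal A) (B ⧸ Q) := by
    refine (IsHausdorff.map_algebraMap_iff (S := B ⧸ Q) (M := B ⧸ Q)).1 ?_
    haveI : IsLocalRing (B ⧸ Q) := IsLocalRing.of_surjective' _ Ideal.Quotient.mk_surjective
    refine IsHausdorff.of_isLocalRing _ _ fun htop => ?_
    have hle : (maximalIdeal A).map (algebraMap A (B ⧸ Q)) ≤ maximalIdeal (B ⧸ Q) := by
      rw [IsScalarTower.algebraMap_eq A B (B ⧸ Q), ← Ideal.map_map]
      refine (Ideal.map_mono (((IsLocalRing.local_hom_TFAE (algebraMap A B)).out 0 2).1 ‹IsLocalHom (algebraMap A B)›)).trans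
        (le_of_eq (IsLocalRing.eq_maximalIdeal (Ideal.IsMaximal.map_of_surjective_of_ker_le
          Ideal.Quotient.mk_surjective
          ((le_of_eq Ideal.mk_ker).trans (le_maximalIdeal Ideal.IsPrime.ne_top')))))
    rw [htop] at hle
    exact (maximalIdeal.isMaximal (B ⧸ Q)).ne_top (top_le_iff.1 hle)
  refine Adic.finite_of_finite_quot (I := maximalIdeal A) ?_
  let N : Submodule A (B ⧸ Q) := (maximalIdeal A) • ⊤
  let f : B →ₗ[A] (B ⧸ Q) ⧸ N := N.mkQ.comp (Ideal.Quotient.mkₐ A Q).toLinearMap
  have hker : J.restrictScalars A ≤ LinearMap.ker f := by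
    intro x hx
    show N.mkQ (Ideal.Quotient.mk Q x) = 0
    rw [Submodule.mkQ_apply, Submodule.Quotient.mk_eq_zero]
    obtain ⟨y, hy, z, hz, rfl⟩ := Submodule.mem_sup.1 hx
    rw [map_add, Ideal.Quotient.eq_zero_iff_mem.2 hy, zero_add]
    show Ideal.Quotient.mk Q z ∈ (maximalIdeal A) • (⊤ : Submodule A (B ⧸ Q))
    rw [Ideal.smul_top_eq_map]
    show Ideal.Quotient.mk Q z ∈ (maximalIdeal A).map (algebraMap A (B ⧸ Q))
    rw [IsScalarTower.algebraMap_eq A B (B ⧸ Q), ← Ideal.map_map]
    exact Ideal.mem_map_of_mem _ hz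
  haveI : Module.Finite A (B ⧸ J.restrictScalars A) :=
    Module.Finite.equiv (Submodule.Quotient.restrictScalarsEquiv A J).symm
  exact Module.Finite.of_surjective ((J.restrictScalars A).liftQ f hker) fun w => by
    obtain ⟨v, rfl⟩ := N.mkQ_surjective w
    obtain ⟨b, rfl⟩ := Ideal.Quotient.mk_surjective v
    exact ⟨Submodule.Quotient.mk b, rfl⟩

omit [IsLocalRing B] [IsNoetherianRing B] [IsLocalHom (algebraMap A B)] in
/-- The normalisation of a one-dimensional complete local domain is a regular local ring, finite over it. -/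
theorem exists_normalisation_of_dimOne [IsNoetherianRing A] [IsAdicComplete (maximalIdeal A) A]
    (p : Ideal A) [p.IsPrime] (h : ∀ (P : Ideal A) [P.IsPrime], p ≤ P → P ≠ p → P.IsMaximal) :
    ∃ (S : Subalgebra A p.ResidueField), Module.Finite A S ∧ IsRegularRing S ∧
      IsFractionRing S p.ResidueField := by
  let K := p.ResidueField
  let D := A ⧸ p
  haveI : Module.Finite D (integralClosure D K) :=
    Props.N2Local.finite_integralClosure ((Nagata.CompleteLocal.isNagata A).2 p) K K
  let S : Subalgebra A K := (integralClosure D K).restrictScalars A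
  haveI : IsScalarTower A D (integralClosure D K) := IsScalarTower.of_algebraMap_eq fun a => rfl
  haveI hfin0 : Module.Finite A (integralClosure D K) := Module.Finite.trans D (integralClosure D K)
  haveI hfin : Module.Finite A S := Module.Finite.of_surjective
    ({ toFun := fun x => ⟨x.1, x.2⟩
       map_add' := fun _ _ => rfl
       map_smul' := fun a x => rfl } : integralClosure D K →ₗ[A] S) fun x => ⟨⟨x.1, x.2⟩, rfl⟩
  haveI : IsFractionRing S K := IsFractionRing.of_field S K fun z => by
    obtain ⟨x, y, -, rfl⟩ := IsFractionRing.div_surjective (A := D) z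
    exact ⟨⟨algebraMap D K x, (integralClosure D K).algebraMap_mem x⟩,
      ⟨algebraMap D K y, (integralClosure D K).algebraMap_mem y⟩, rfl⟩
  haveI : IsNoetherianRing S := IsNoetherianRing.of_finite A S
  haveI : Algebra.IsIntegral A S := Algebra.IsIntegral.of_finite A S
  haveI : IsIntegrallyClosed S := (isIntegrallyClosed_iff K).2 fun {x} hx => by
    have h1 : IsIntegral A x := isIntegral_trans (R := A) (A := S) x hx
    exact ⟨⟨x, (h1.tower_top : IsIntegral D x)⟩, rfl⟩
  haveI : Ring.DimensionLEOne S := ⟨fun {P} hPb hP => by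
    haveI := hP
    refine Ideal.isMaximal_of_isIntegral_of_isMaximal_comap (R := A) P (h _ ?_ ?_)
    · intro a ha
      have : algebraMap A S a = 0 := Subtype.ext (Ideal.algebraMap_residueField_eq_zero.2 ha)
      show algebraMap A S a ∈ P
      rw [this]; exact zero_mem _
    · intro heq
      obtain ⟨x, hxP, hx0⟩ := Submodule.exists_mem_ne_zero_of_ne_bot hPb
      obtain ⟨μ, hμm, hμ⟩ := Algebra.IsIntegral.isIntegral (R := D) (⟨(x : K), x.2⟩ : integralClosure D K)
      obtain ⟨c, hc0, hc⟩ : ∃ c : D, c ≠ 0 ∧ algebraMap D (integralClosure D K) c ∈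
          Ideal.span {(⟨(x : K), x.2⟩ : integralClosure D K)} := by
        have hne : Ideal.span {(⟨(x : K), x.2⟩ : integralClosure D K)} ≠ ⊥ := fun hb => hx0 (by
          have := Ideal.mem_span_singleton_self (⟨(x : K), x.2⟩ : integralClosure D K)
          rw [hb, Ideal.mem_bot] at this
          exact Subtype.ext (congrArg Subtype.val this :))
        haveI : FaithfulSMul D (integralClosure D K) := (faithfulSMul_iff_algebraMap_injective _ _).2
          fun u v huv => IsFractionRing.injective D K (congrArg Subtype.val huv)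
        obtain ⟨c, hc, hc0⟩ := Submodule.exists_mem_ne_zero_of_ne_bot
          (Ideal.comap_ne_bot_of_algebraic_mem (R := D) (S := integralClosure D K)
            (I := Ideal.span {(⟨(x : K), x.2⟩ : integralClosure D K)}) (x := ⟨(x : K), x.2⟩)
            (fun h0 => hx0 (Subtype.ext (congrArg Subtype.val h0 :))) (Ideal.mem_span_singleton_self _)
            (Algebra.IsIntegral.isIntegral _).isAlgebraic)
        exact ⟨c, hc0, hc⟩
      obtain ⟨a, rfl⟩ := Ideal.Quotient.mk_surjective c
      obtain ⟨w, hw⟩ := Ideal.mem_span_singleton'.1 hc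
      have : algebraMap A S a ∈ P := by
        have h2 : algebraMap A S a = (⟨(w : K), w.2⟩ : S) * x :=
          Subtype.ext (congrArg Subtype.val hw).symm
        rw [h2]; exact P.mul_mem_left _ hxP
      have hap : a ∈ p := heq ▸ (show a ∈ P.comap (algebraMap A S) from this)
      exact hc0 (Ideal.Quotient.eq_zero_iff_mem.2 hap)⟩
  haveI : IsDedekindDomain S := {}
  exact ⟨S, hfin, inferInstance, inferInstance⟩

end Groth.Agent.EGA4Lib
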