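import Groth.Prelude.Def_EGA4b
import Groth.Prelude.Def_Found
import Groth.Agent.RegLoc.Basic
import Groth.Agent.PtTop.Catenary
import Groth.Agent.Nagata.Normalization
import Groth.Agent.CycLib.FlatDecomp
import Groth.Agent.EGA41Lib.NagataCrit

/-!
# Properties of local rings lifting along flat maps from regular rings (EGA IV 6.5, 7.5)
-/

set_option autoImplicit false
set_option linter.style.haveILetI false

open IsLocalRing TensorProduct

namespace Groth.Agent.EGA4Lib

universe u

/-- A local property of Noetherian rings which lifts from the quotient by a regular element. -/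
structure LiftingProperty (P : ∀ (R : Type u) [CommRing R], Prop) : Prop where
  iso : ∀ {R R' : Type u} [CommRing R] [CommRing R'], (R ≃+* R') → P R → P R'
  loc : ∀ {R : Type u} (R' : Type u) [CommRing R] [CommRing R'] [Algebra R R'] (M : Submonoid R)
    [IsLocalization M R'], P R → P R'
  of_loc : ∀ (R : Type u) [CommRing R] [IsNoetherianRing R],
    (∀ (Q : Ideal R) [Q.IsMaximal], P (Localization.AtPrime Q)) → P R
  step : ∀ (C : Type u) [CommRing C] [IsNoetherianRing C] [IsLocalRing C], CAlg.IsCatenary C →
    ∀ t ∈ maximalIdeal C, t ∈ nonZeroDivisors C → P (C ⧸ Ideal.span {t}) → P C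

theorem property_of_flat_regular_aux {P : ∀ (R : Type u) [CommRing R], Prop} (hP : LiftingProperty P)
    (n : ℕ) : ∀ (A C : Type u) [CommRing A] [CommRing C] [IsRegularLocalRing A] [IsNoetherianRing C]
      [IsLocalRing C] [Algebra A C] [IsLocalHom (algebraMap A C)] [Module.Flat A C],
      CAlg.IsCatenary C → ringKrullDim A = n →
        P (C ⧸ (maximalIdeal A).map (algebraMap A C)) → P C := by
  induction n using Nat.strong_induction_on with
  | _ n ih =>
    intro A C _ _ _ _ _ _ _ _ hcat hn h
    haveI := RegLoc.isDomain A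
    by_cases hF : IsField A
    · refine hP.iso ?_ h
      exact (Ideal.quotEquivOfEq (by rw [IsLocalRing.isField_iff_maximalIdeal_eq.mp hF, Ideal.map_bot])).trans
        (RingEquiv.quotientBot C)
    · obtain ⟨x, hx, hx2⟩ : ∃ x ∈ maximalIdeal A, x ∉ maximalIdeal A ^ 2 := by
        by_contra h
        push Not at h
        have hne : maximalIdeal A ≠ ⊥ := fun hb => hF (IsLocalRing.isField_iff_maximalIdeal_eq.mpr hb)
        refine hne (Submodule.eq_bot_of_le_smul_of_le_jacobson_bot (maximalIdeal A) _
          (IsNoetherian.noetherian _) ?_ (maximalIdeal_le_jacobson _))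
        rw [smul_eq_mul, ← pow_two]
        exact h
      obtain ⟨hreg, e, he, hen⟩ := RegLoc.isRegularLocalRing_quotient_span_singleton hx hx2 hn
      have hx0 : x ≠ 0 := fun h0 => hx2 (h0 ▸ zero_mem _)
      let t : C := algebraMap A C x
      have ht : t ∈ maximalIdeal C := map_nonunit (algebraMap A C) x hx
      have htreg : t ∈ nonZeroDivisors C := by
        have h1 : IsSMulRegular C x := Module.Flat.isSMulRegular_of_isRegular
          (isRegular_of_ne_zero hx0)
        rw [mem_nonZeroDivisors_iff_right]
        intro z hz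
        refine h1 ?_
        show x • z = x • (0 : C)
        rw [smul_zero, Algebra.smul_def, mul_comm]
        exact hz
      refine hP.step C hcat t ht htreg ?_
      have hspan : (Ideal.span {x}).map (algebraMap A C) = Ideal.span {t} := by
        rw [Ideal.map_span, Set.image_singleton]
      refine hP.iso (Ideal.quotEquivOfEq hspan) ?_
      let J : Ideal C := (Ideal.span {x}).map (algebraMap A C)
      haveI : Nontrivial (C ⧸ J) := by
        refine Ideal.Quotient.nontrivial_iff.mpr fun htop => (maximalIdeal.isMaximal C).ne_top ?_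
        refine top_le_iff.mp (htop ▸ ?_)
        show (Ideal.span {x}).map (algebraMap A C) ≤ _
        rw [hspan]
        exact (Ideal.span_singleton_le_iff_mem _).mpr ht
      haveI : IsLocalRing (C ⧸ J) :=
        IsLocalRing.of_surjective' (Ideal.Quotient.mk J) Ideal.Quotient.mk_surjective
      letI := CycLib.quotAlgebra (C := C) (Ideal.span ({x} : Set A))
      haveI := CycLib.flat_quotAlgebra (C := C) (Ideal.span ({x} : Set A))
      haveI : IsLocalHom (algebraMap (A ⧸ Ideal.span {x}) (C ⧸ J)) := by
        refine ⟨fun z hz => ?_⟩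
        obtain ⟨a, rfl⟩ := Ideal.Quotient.mk_surjective z
        have h1 : IsUnit (Ideal.Quotient.mk J (algebraMap A C a)) := hz
        haveI : IsLocalHom (Ideal.Quotient.mk J) := IsLocalHom.of_surjective _ Ideal.Quotient.mk_surjective
        exact (isUnit_of_map_unit _ _ (isUnit_of_map_unit _ _ h1)).map _
      have hcatJ : CAlg.IsCatenary (C ⧸ J) :=
        PtTop.Catenary.isCatenary_of_surjective (Ideal.Quotient.mk J) Ideal.Quotient.mk_surjective hcat
      refine ih e (by omega) (A ⧸ Ideal.span {x}) (C ⧸ J) hcatJ he ?_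
      have hm : (maximalIdeal A).map (Ideal.Quotient.mk (Ideal.span {x})) = maximalIdeal (A ⧸ Ideal.span {x}) :=
        IsLocalRing.eq_maximalIdeal (Ideal.IsMaximal.map_of_surjective_of_ker_le Ideal.Quotient.mk_surjective
          (by rw [Ideal.mk_ker]; exact (Ideal.span_singleton_le_iff_mem _).mpr hx))
      have hJ : J ≤ (maximalIdeal A).map (algebraMap A C) :=
        Ideal.map_mono ((Ideal.span_singleton_le_iff_mem _).mpr hx)
      have heq : (maximalIdeal (A ⧸ Ideal.span {x})).map (algebraMap (A ⧸ Ideal.span {x}) (C ⧸ J)) =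
          ((maximalIdeal A).map (algebraMap A C)).map (Ideal.Quotient.mk J) := by
        rw [← hm, Ideal.map_map, Ideal.map_map]
        rfl
      exact hP.iso ((Ideal.quotEquivOfEq heq).trans (DoubleQuot.quotQuotEquivQuotOfLE hJ)).symm h

theorem property_of_flat_regular {P : ∀ (R : Type u) [CommRing R], Prop} (hP : LiftingProperty P)
    (A C : Type u) [CommRing A] [CommRing C] [IsRegularLocalRing A] [IsNoetherianRing C]
    [IsLocalRing C] [Algebra A C] [IsLocalHom (algebraMap A C)] [Module.Flat A C]
    (hcat : CAlg.IsCatenary C) (h : P (C ⧸ (maximalIdeal A).map (algebraMap A C))) : P C := by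
  obtain ⟨d, hd, -⟩ := RegLoc.exists_natCast_eq_ringKrullDim A
  exact property_of_flat_regular_aux hP d A C hcat hd h

/-- The property at a point of a base change to a regular local ring, given the closed fibre. -/
theorem property_localization_baseChange {P : ∀ (R : Type u) [CommRing R], Prop} (hP : LiftingProperty P)
    (A B A' : Type u) [CommRing A] [CommRing B] [CommRing A'] [IsRegularLocalRing A'] [Algebra A B]
    [Algebra A A'] [Module.Flat A B] [IsNoetherianRing (A' ⊗[A] B)] (hcat : CAlg.IsCatenary (A' ⊗[A] B))
    (h : P (ResidueField A' ⊗[A] B)) (n : Ideal (A' ⊗[A] B)) [n.IsPrime]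
    (hn : n.comap (algebraMap A' (A' ⊗[A] B)) = maximalIdeal A') : P (Localization.AtPrime n) := by
  let T := A' ⊗[A] B
  let C := Localization.AtPrime n
  haveI : IsNoetherianRing C := IsLocalization.isNoetherianRing n.primeCompl C inferInstance
  haveI : Module.Flat T C := IsLocalization.flat C n.primeCompl
  haveI : Module.Flat A' C := Module.Flat.trans A' T C
  have hmap : (maximalIdeal A').map (algebraMap A' C) ≤ maximalIdeal C := by
    rw [Ideal.map_le_iff_le_comap, IsScalarTower.algebraMap_eq A' T C, ← Ideal.comap_comap,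
      show (maximalIdeal C).comap (algebraMap T C) = n from Localization.AtPrime.comap_maximalIdeal, hn]
  haveI : IsLocalHom (algebraMap A' C) := ((IsLocalRing.local_hom_TFAE _).out 2 0).1 hmap
  refine property_of_flat_regular hP A' C
    (PtTop.Catenary.isCatenary_of_isLocalization n.primeCompl C hcat) ?_
  let I : Ideal T := (maximalIdeal A').map (algebraMap A' T)
  have hT : P (T ⧸ I) := by
    let e₁ : (ResidueField A' ⊗[A'] T) ≃+* (ResidueField A' ⊗[A] B) :=
      (Algebra.TensorProduct.cancelBaseChange A A' A' (ResidueField A') B).toRingEquiv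
    let e₂ : T ⊗[A'] (A' ⧸ maximalIdeal A') ≃+* (ResidueField A' ⊗[A'] T) :=
      (Algebra.TensorProduct.comm A' T (A' ⧸ maximalIdeal A')).toRingEquiv
    let e₃ : (T ⧸ I) ≃+* T ⊗[A'] (A' ⧸ maximalIdeal A') :=
      (Algebra.TensorProduct.quotIdealMapEquivTensorQuot T (maximalIdeal A')).toRingEquiv
    exact hP.iso (e₃.trans (e₂.trans e₁)).symm h
  have hIn : I ≤ n := by
    show (maximalIdeal A').map (algebraMap A' T) ≤ n
    rw [Ideal.map_le_iff_le_comap, hn]
  haveI : (n.map (Ideal.Quotient.mk I)).IsPrime :=
    Ideal.map_isPrime_of_surjective Ideal.Quotient.mk_surjective (by rw [Ideal.mk_ker]; exact hIn)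
  obtain ⟨e⟩ := EGA41Lib.NagataCrit.nonempty_quotientEquiv (q := I) hIn
  have heq : I.map (algebraMap T C) = (maximalIdeal A').map (algebraMap A' C) := by
    rw [Ideal.map_map, ← IsScalarTower.algebraMap_eq]
  exact hP.iso (e.symm.trans (Ideal.quotEquivOfEq heq))
    (hP.loc (Localization.AtPrime (n.map (Ideal.Quotient.mk I))) (n.map (Ideal.Quotient.mk I)).primeCompl hT)

end Groth.Agent.EGA4Lib
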