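import Groth.Prelude.Def_EGA4b
import Groth.Agent.GeomFieldLib.Main
import Groth.Agent.EGA4Lib.FibreComp
import Groth.Agent.EGA4Lib.Fibers
import Groth.Agent.EGA4Lib.HomToLocal

/-!
# Formal fibres through finite domains (EGA IV 7.3.16)
-/

set_option autoImplicit false
set_option linter.style.haveILetI false

open IsLocalRing TensorProduct

namespace Groth.Agent.EGA4Lib

universe u

/-- A finite extension of a residue field is the fraction field of a finite domain. -/
theorem exists_finite_domain {A : Type u} [CommRing A] (p : Ideal A) [p.IsPrime] (K : Type u) [Field K]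
    [Algebra p.ResidueField K] [Algebra A K] [IsScalarTower A p.ResidueField K]
    [Module.Finite p.ResidueField K] :
    ∃ B : Subalgebra A K, Module.Finite A B ∧ IsFractionRing B K := by
  classical
  let κ := p.ResidueField
  let R := A ⧸ p
  letI : Algebra R K := ((algebraMap κ K).comp (algebraMap R κ)).toAlgebra
  haveI : IsScalarTower R κ K := IsScalarTower.of_algebraMap_eq fun _ => rfl
  haveI : IsScalarTower A R K := IsScalarTower.of_algebraMap_eq fun a => by
    rw [IsScalarTower.algebraMap_apply A κ K a, IsScalarTower.algebraMap_apply A R κ a]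
    rfl
  haveI : Algebra.IsAlgebraic R K := IsFractionRing.comap_isAlgebraic_iff.mpr (inferInstance : Algebra.IsAlgebraic κ K)
  let b := Module.Basis.ofVectorSpace κ K
  obtain ⟨y, hy0, hy⟩ := Algebra.IsAlgebraic.exists_integral_multiples R (Finset.univ.image b)
  let s : Finset K := Finset.univ.image fun i => y • b i
  let B := Algebra.adjoin A (s : Set K)
  have hsint : ∀ x ∈ (s : Set K), IsIntegral A x := by
    intro x hx
    simp only [s, Finset.coe_image, Set.mem_image] at hx
    obtain ⟨i, -, rfl⟩ := hx
    exact isIntegral_trans (R := A) (A := R) _ (hy _ (Finset.mem_image_of_mem _ (Finset.mem_univ i)))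
  haveI : Module.Finite A B := Algebra.finite_adjoin_of_finite_of_isIntegral s.finite_toSet hsint
  refine ⟨B, inferInstance, IsFractionRing.of_field B K fun z => ?_⟩
  have hyK : algebraMap R K y ≠ 0 := by
    rw [IsScalarTower.algebraMap_apply R κ K]
    exact (_root_.map_ne_zero _).2 ((map_ne_zero_iff _ (IsFractionRing.injective R κ)).2 hy0)
  have hfrac : ∀ z : K, ∃ (u : B) (v : B), (v : K) ≠ 0 ∧ z * (v : K) = (u : K) := by
    intro z
    have hz : z ∈ Submodule.span κ (Set.range b) := b.mem_span z
    induction hz using Submodule.span_induction with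
    | mem w hw =>
      obtain ⟨i, rfl⟩ := hw
      have hyB : algebraMap R K y ∈ B := by
        obtain ⟨a, ha⟩ := Ideal.Quotient.mk_surjective y
        rw [← ha, show algebraMap R K (Ideal.Quotient.mk p a) = algebraMap A K a from
          (IsScalarTower.algebraMap_apply A R K a).symm]
        exact B.algebraMap_mem a
      refine ⟨⟨y • b i, Algebra.subset_adjoin (Finset.mem_image_of_mem _ (Finset.mem_univ i))⟩,
        ⟨_, hyB⟩, hyK, ?_⟩
      show b i * algebraMap R K y = y • b i
      rw [Algebra.smul_def, mul_comm]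
    | zero => exact ⟨0, 1, by simp, by simp⟩
    | add u v _ _ hu hv =>
      obtain ⟨u₁, u₂, hu0, hu'⟩ := hu
      obtain ⟨v₁, v₂, hv0, hv'⟩ := hv
      exact ⟨u₁ * v₂ + v₁ * u₂, u₂ * v₂, by simpa using mul_ne_zero hu0 hv0, by
        push_cast; rw [← hu', ← hv']; ring⟩
    | smul c w _ hw =>
      obtain ⟨w₁, w₂, hw0, hw'⟩ := hw
      obtain ⟨x₁, x₂, hx, rfl⟩ := IsFractionRing.div_surjective (A := R) c
      obtain ⟨a₁, rfl⟩ := Ideal.Quotient.mk_surjective x₁
      obtain ⟨a₂, rfl⟩ := Ideal.Quotient.mk_surjective x₂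
      have h2 : algebraMap A K a₂ ≠ 0 := by
        rw [IsScalarTower.algebraMap_apply A R K, IsScalarTower.algebraMap_apply R κ K]
        exact (_root_.map_ne_zero _).2 ((map_ne_zero_iff _ (IsFractionRing.injective R κ)).2
          (nonZeroDivisors.ne_zero hx))
      refine ⟨algebraMap A B a₁ * w₁, algebraMap A B a₂ * w₂, by
        simpa using mul_ne_zero h2 hw0, ?_⟩
      push_cast
      rw [← hw', Algebra.smul_def, map_div₀, ← IsScalarTower.algebraMap_apply R κ K,
        ← IsScalarTower.algebraMap_apply R κ K]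
      rw [← Ideal.Quotient.algebraMap_eq, ← IsScalarTower.algebraMap_apply A R K,
        ← IsScalarTower.algebraMap_apply A R K]
      field_simp
  obtain ⟨u, v, hv, huv⟩ := hfrac z
  refine ⟨u, v, ?_⟩
  show z = (u : K) / (v : K)
  rw [eq_div_iff hv, huv]

/-- The primes of the generic fibre of a finite domain. -/
theorem forall_prime_generic {A B K C : Type u} [CommRing A] [CommRing B] [IsDomain B] [Algebra A B]
    [Field K] [Algebra B K] [IsFractionRing B K] [Algebra A K] [IsScalarTower A B K] [CommRing C] [Algebra A C] :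
    (∀ (Q : Ideal (K ⊗[A] C)) [Q.IsPrime], ∃ (q : Ideal (B ⊗[A] C)) (_ : q.IsPrime),
        q.comap (algebraMap B (B ⊗[A] C)) = ⊥ ∧
          Nonempty (Localization.AtPrime q ≃+* Localization.AtPrime Q)) ∧
      ∀ (q : Ideal (B ⊗[A] C)) [q.IsPrime], q.comap (algebraMap B (B ⊗[A] C)) = ⊥ →
        ∃ (Q : Ideal (K ⊗[A] C)) (_ : Q.IsPrime), Nonempty (Localization.AtPrime q ≃+* Localization.AtPrime Q) := by
  let φ : B ⊗[A] C →ₐ[B] K ⊗[A] C :=
    Algebra.TensorProduct.map (Algebra.ofId B K) (AlgHom.id A C)
  letI : Algebra (B ⊗[A] C) (K ⊗[A] C) := φ.toRingHom.toAlgebra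
  haveI : IsScalarTower B (B ⊗[A] C) (K ⊗[A] C) := IsScalarTower.of_algebraMap_eq fun b =>
    (φ.commutes b).symm
  haveI : IsLocalization (Algebra.algebraMapSubmonoid (B ⊗[A] C) (nonZeroDivisors B)) (K ⊗[A] C) :=
    IsLocalization.tensorProduct_tensorProduct A C (nonZeroDivisors B) K (RingHom.ext fun c => by
      show φ ((1 : B) ⊗ₜ[A] c) = (1 : K) ⊗ₜ[A] c
      simp [φ])
  refine ⟨fun Q _ => ?_, fun q _ hq => ?_⟩
  · haveI : IsLocalization.AtPrime (Localization.AtPrime Q) (Q.comap (algebraMap (B ⊗[A] C) (K ⊗[A] C))) :=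
      IsLocalization.isLocalization_isLocalization_atPrime_isLocalization
        (Algebra.algebraMapSubmonoid (B ⊗[A] C) (nonZeroDivisors B)) (Localization.AtPrime Q) Q
    refine ⟨Q.comap (algebraMap (B ⊗[A] C) (K ⊗[A] C)), inferInstance, ?_,
      ⟨(IsLocalization.algEquiv (Q.comap (algebraMap (B ⊗[A] C) (K ⊗[A] C))).primeCompl
        (Localization.AtPrime (Q.comap (algebraMap (B ⊗[A] C) (K ⊗[A] C)))) (Localization.AtPrime Q)).toRingEquiv⟩⟩
    rw [Ideal.comap_comap, ← IsScalarTower.algebraMap_eq, IsScalarTower.algebraMap_eq B K (K ⊗[A] C),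
      ← Ideal.comap_comap]
    have hQK : Q.comap (algebraMap K (K ⊗[A] C)) = ⊥ :=
      (Ideal.eq_bot_or_top _).resolve_right (Ideal.comap_ne_top _ Ideal.IsPrime.ne_top')
    rw [hQK, ← RingHom.ker_eq_comap_bot]
    exact (RingHom.injective_iff_ker_eq_bot _).1 (IsFractionRing.injective B K)
  · have hdisj : Disjoint ((Algebra.algebraMapSubmonoid (B ⊗[A] C) (nonZeroDivisors B) :
        Submonoid (B ⊗[A] C)) : Set (B ⊗[A] C)) (q : Set (B ⊗[A] C)) := by
      rw [Set.disjoint_left]
      rintro _ ⟨b, hb, rfl⟩ h
      have : b ∈ q.comap (algebraMap B (B ⊗[A] C)) := h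
      rw [hq] at this
      exact nonZeroDivisors.ne_zero hb this
    let Q := q.map (algebraMap (B ⊗[A] C) (K ⊗[A] C))
    haveI : Q.IsPrime := IsLocalization.isPrime_of_isPrime_disjoint _ _ q inferInstance hdisj
    have hQq : Q.comap (algebraMap (B ⊗[A] C) (K ⊗[A] C)) = q :=
      IsLocalization.under_map_of_isPrime_disjoint _ _ inferInstance hdisj
    refine ⟨Q, inferInstance, ?_⟩
    haveI : IsLocalization.AtPrime (Localization.AtPrime Q) q := by
      have := IsLocalization.isLocalization_isLocalization_atPrime_isLocalization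
        (Algebra.algebraMapSubmonoid (B ⊗[A] C) (nonZeroDivisors B)) (Localization.AtPrime Q) Q
      convert this
      exact hQq.symm
    exact ⟨(IsLocalization.algEquiv q.primeCompl (Localization.AtPrime q) (Localization.AtPrime Q)).toRingEquiv⟩

/-- The fraction field of a finite domain is finite over the residue field below. -/
theorem exists_residue_algebra {A B : Type u} [CommRing A] [CommRing B] [IsDomain B] [Algebra A B]
    [Module.Finite A B] :
    ∃ (p : Ideal A) (_ : p.IsPrime) (_ : Algebra p.ResidueField (FractionRing B)),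
      IsScalarTower A p.ResidueField (FractionRing B) ∧ Module.Finite p.ResidueField (FractionRing B) := by
  let p : Ideal A := RingHom.ker (algebraMap A B)
  haveI : p.IsPrime := RingHom.ker_isPrime _
  let R := A ⧸ p
  letI : Algebra R B := (RingHom.kerLift (algebraMap A B)).toAlgebra
  haveI : IsScalarTower A R B := IsScalarTower.of_algebraMap_eq fun _ => rfl
  haveI : Module.Finite R B := Module.Finite.of_restrictScalars_finite A R B
  haveI : FaithfulSMul R (FractionRing B) := (faithfulSMul_iff_algebraMap_injective _ _).2 (by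
    rw [IsScalarTower.algebraMap_eq R B (FractionRing B)]
    exact (IsFractionRing.injective B _).comp (RingHom.kerLift_injective _))
  haveI : FaithfulSMul R B := (faithfulSMul_iff_algebraMap_injective R B).2 (RingHom.kerLift_injective _)
  letI : Algebra p.ResidueField (FractionRing B) :=
    (IsFractionRing.lift (A := R) (K := p.ResidueField)
      (FaithfulSMul.algebraMap_injective R (FractionRing B))).toAlgebra
  haveI : IsScalarTower R p.ResidueField (FractionRing B) := IsScalarTower.of_algebraMap_eq fun r =>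
    (IsFractionRing.lift_algebraMap _ r).symm
  haveI : Module.Finite p.ResidueField (FractionRing B) :=
    Module.Finite.of_isLocalization R B (nonZeroDivisors R)
  refine ⟨p, inferInstance, inferInstance, IsScalarTower.of_algebraMap_eq fun a => ?_, inferInstance⟩
  rw [IsScalarTower.algebraMap_apply A R (FractionRing B), IsScalarTower.algebraMap_apply R p.ResidueField,
    ← IsScalarTower.algebraMap_apply A R p.ResidueField]

end Groth.Agent.EGA4Lib
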