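import Groth.Agent.EGA4Lib.FibresLift
import Groth.Agent.EGA4Lib.FibresFiniteQuot
import Groth.Agent.EGA4Lib.FiniteDomains
import Groth.Agent.EGA4Lib.CompleteExcellent
import Groth.Agent.Hensel.GaloisStage
import Groth.Agent.Hens.GRingFinite

/-!
# Fibres of flat homomorphisms of complete local rings (EGA IV 7.5.1)
-/

set_option autoImplicit false
set_option linter.style.haveILetI false

open IsLocalRing TensorProduct

namespace Groth.Agent.EGA4Lib

universe u

attribute [local instance] Algebra.TensorProduct.rightAlgebra

theorem algebraMap_tensor_comm {A A' B : Type u} [CommRing A] [CommRing A'] [CommRing B] [Algebra A A']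
    [Algebra A B] :
    (algebraMap A' (A' ⊗[A] B)).comp (algebraMap A A') = (algebraMap B (A' ⊗[A] B)).comp (algebraMap A B) := by
  ext a
  show algebraMap A A' a ⊗ₜ[A] (1 : B) = (1 : A') ⊗ₜ[A] algebraMap A B a
  rw [Algebra.algebraMap_eq_smul_one, Algebra.algebraMap_eq_smul_one, TensorProduct.smul_tmul]

theorem finite_tensor_right {A A' B : Type u} [CommRing A] [CommRing A'] [CommRing B] [Algebra A A']
    [Algebra A B] [Module.Finite A A'] : Module.Finite B (A' ⊗[A] B) := by
  refine Module.Finite.of_surjective
    ({ toFun := Algebra.TensorProduct.comm A B A'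
       map_add' := map_add _
       map_smul' := fun c x => by
        induction x with
        | zero => simp
        | add x y hx hy => rw [smul_add, map_add, map_add, hx, hy, smul_add]
        | tmul a b =>
          rw [TensorProduct.smul_tmul', RingHom.id_apply, Algebra.smul_def]
          show b ⊗ₜ[A] (c * a) = ((1 : A') ⊗ₜ[A] c) * (b ⊗ₜ[A] a)
          rw [Algebra.TensorProduct.tmul_mul_tmul, one_mul] } : B ⊗[A] A' →ₗ[B] A' ⊗[A] B) (AlgEquiv.surjective _)

/-- Tensoring with a fraction field localises. -/
theorem exists_algebra_tensor_fractionRing (A S K B : Type u) [CommRing A] [CommRing S] [CommRing K]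
    [CommRing B] [Algebra A S] [Algebra A B] [Algebra A K] [Algebra S K] [IsScalarTower A S K]
    [IsFractionRing S K] :
    ∃ _ : Algebra (S ⊗[A] B) (K ⊗[A] B),
      IsLocalization (Algebra.algebraMapSubmonoid (S ⊗[A] B) (nonZeroDivisors S)) (K ⊗[A] B) := by
  let φ : S ⊗[A] B →ₐ[S] K ⊗[A] B := Algebra.TensorProduct.map (Algebra.ofId S K) (AlgHom.id A B)
  letI : Algebra (S ⊗[A] B) (K ⊗[A] B) := φ.toRingHom.toAlgebra
  haveI : IsScalarTower S (S ⊗[A] B) (K ⊗[A] B) := IsScalarTower.of_algebraMap_eq fun b =>
    (φ.commutes b).symm
  exact ⟨_, IsLocalization.tensorProduct_tensorProduct A B (nonZeroDivisors S) K (RingHom.ext fun c => by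
    show φ ((1 : S) ⊗ₜ[A] c) = (1 : K) ⊗ₜ[A] c
    simp [φ])⟩

/-- Tensoring with a localisation localises. -/
theorem exists_algebra_tensor_localization (S F T C : Type u) [CommRing S] [CommRing F] [CommRing T]
    [CommRing C] [Algebra S F] [Algebra S T] [Algebra S C] [Algebra T C] [IsScalarTower S T C]
    (M : Submonoid T) [IsLocalization M C] :
    ∃ _ : Algebra (F ⊗[S] T) (F ⊗[S] C),
      IsLocalization (M.map (Algebra.TensorProduct.includeRight (R := S) (A := F) (B := T))) (F ⊗[S] C) := by
  let ψ : F ⊗[S] T →ₐ[F] F ⊗[S] C :=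
    Algebra.TensorProduct.map (AlgHom.id F F) (IsScalarTower.toAlgHom S T C)
  letI : Algebra (F ⊗[S] T) (F ⊗[S] C) := ψ.toRingHom.toAlgebra
  haveI : IsScalarTower F (F ⊗[S] T) (F ⊗[S] C) := IsScalarTower.of_algebraMap_eq fun b =>
    (ψ.commutes b).symm
  exact ⟨_, IsLocalization.tensorProduct_tensorProduct_right S F M C (RingHom.ext fun c => by
    show ψ ((1 : F) ⊗ₜ[S] c) = (1 : F) ⊗ₜ[S] algebraMap T C c
    simp [ψ])⟩

variable {P : ∀ (R : Type u) [CommRing R], Prop}

theorem property_tensor_localization (hP : LiftingProperty P) (S F T C : Type u) [CommRing S] [CommRing F]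
    [CommRing T] [CommRing C] [Algebra S F] [Algebra S T] [Algebra S C] [Algebra T C] [IsScalarTower S T C]
    (M : Submonoid T) [IsLocalization M C] (h : P (F ⊗[S] T)) : P (F ⊗[S] C) := by
  obtain ⟨_, hloc⟩ := exists_algebra_tensor_localization S F T C M
  exact hP.loc (F ⊗[S] C) (M.map (Algebra.TensorProduct.includeRight (R := S) (A := F) (B := T))) h

/-- EGA IV 7.5.1 over a complete local domain, at the points of the generic fibre. -/
theorem property_localization_of_comap_eq_bot (hP : LiftingProperty P) (A B : Type u) [CommRing A]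
    [CommRing B] [IsDomain A] [IsNoetherianRing A] [IsNoetherianRing B] [IsLocalRing A] [IsLocalRing B]
    [IsAdicComplete (maximalIdeal A) A] [IsAdicComplete (maximalIdeal B) B] [Algebra A B]
    [IsLocalHom (algebraMap A B)] [Module.Flat A B] [Module.Finite (ResidueField A) (ResidueField B)]
    (hclosed : ∀ (K : Type u) [Field K] [Algebra A K], Module.Finite A K → P (K ⊗[A] B))
    (Q : Ideal B) [Q.IsPrime] (hQ : Q.comap (algebraMap A B) = ⊥) : P (Localization.AtPrime Q) := by
  classical
  have hAB : (maximalIdeal B).comap (algebraMap A B) = maximalIdeal A :=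
    ((IsLocalRing.local_hom_TFAE (algebraMap A B)).out 0 4).1 ‹IsLocalHom (algebraMap A B)›
  obtain ⟨U, hU⟩ := (isJ2_iff A).1 (isJ2_of_isAdicComplete A) A inferInstance
  obtain ⟨f, hf0, hf⟩ := (exists_open_regLocus_iff A).1 ⟨U, hU⟩
  have hUB : CAlg.IsUniversallyCatenary B := (isExcellent_of_isAdicComplete B).2.1
  have hfQ : algebraMap A B f ∉ Q := fun h => hf0 (by
    have : f ∈ Q.comap (algebraMap A B) := h
    rwa [hQ] at this)
  -- a maximal prime above `Q` avoiding `f`
  let s : Set (Ideal B) := {q | q.IsPrime ∧ Q ≤ q ∧ algebraMap A B f ∉ q}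
  obtain ⟨Q', hQ's, hQ'max⟩ : ∃ Q' : Ideal B, Q' ∈ s ∧ ∀ q ∈ s, ¬ Q' < q :=
    set_has_maximal_iff_noetherian.2 ‹IsNoetherianRing B› s ⟨Q, ‹_›, le_rfl, hfQ⟩
  obtain ⟨hQ', hQQ', hfQ'⟩ := hQ's
  haveI := hQ'
  let p := Q'.comap (algebraMap A B)
  haveI : IsRegularLocalRing (Localization.AtPrime p) := hf ⟨p, inferInstance⟩ hfQ'
  -- the fibre at `p`
  have hfib : P (p.ResidueField ⊗[A] B) := by
    by_cases hfu : f ∈ maximalIdeal A
    swap
    · have hu : IsUnit f := notMem_maximalIdeal.1 hfu
      have hQ'm : Q' = maximalIdeal B := by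
        by_contra hne
        refine hQ'max (maximalIdeal B) ⟨inferInstance, hQQ'.trans (le_maximalIdeal hQ'.ne_top),
          fun h => (maximalIdeal.isMaximal B).ne_top (Ideal.eq_top_of_isUnit_mem _ h (hu.map _))⟩ ?_
        exact lt_of_le_of_ne (le_maximalIdeal hQ'.ne_top) hne
      have hpm : p = maximalIdeal A := by
        show Q'.comap (algebraMap A B) = _
        rw [hQ'm]
        exact hAB
      haveI : p.IsMaximal := hpm ▸ inferInstance
      exact hclosed p.ResidueField inferInstance
    obtain ⟨hfin, hdim⟩ := finite_quotient_of_forall_mem A B Q' (algebraMap A B f)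
      (Ideal.mem_map_of_mem _ hfu) hfQ' fun q _ hle hne => by
        by_contra hq
        exact hQ'max q ⟨inferInstance, hQQ'.trans hle, hq⟩ (lt_of_le_of_ne hle (Ne.symm hne))
    haveI := hfin
    haveI : Algebra.IsIntegral A (B ⧸ Q') := Algebra.IsIntegral.of_finite A _
    obtain ⟨S, hSfin, hSreg, hSfrac⟩ := exists_normalisation_of_dimOne A p fun q _ hle hne => by
      have hker : RingHom.ker (algebraMap A (B ⧸ Q')) = p := by
        rw [IsScalarTower.algebraMap_eq A B (B ⧸ Q'), ← RingHom.comap_ker]
        congr 1
        exact Ideal.mk_ker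
      obtain ⟨q', -, hq', hq'q⟩ := Ideal.exists_ideal_over_prime_of_isIntegral q (⊥ : Ideal (B ⧸ Q')) (by
        show (⊥ : Ideal (B ⧸ Q')).comap (algebraMap A (B ⧸ Q')) ≤ q
        rw [← RingHom.ker_eq_comap_bot, hker]; exact hle)
      have hne' : q' ≠ ⊥ := fun hb => hne (by
        rw [← hq'q, hb]
        show (⊥ : Ideal (B ⧸ Q')).comap (algebraMap A (B ⧸ Q')) = p
        rw [← RingHom.ker_eq_comap_bot, hker])
      haveI : q'.IsMaximal := Ring.krullDimLE_one_iff_of_noZeroDivisors.1 hdim q' hne' hq'
      rw [← hq'q]
      exact Ideal.isMaximal_comap_of_isIntegral_of_isMaximal q'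
    haveI := hSfin
    haveI := hSfrac
    haveI : IsNoetherianRing S := IsNoetherianRing.of_finite A S
    haveI : HenselianLocalRing A := Hensel.henselianLocalRing_of_henselianRing inferInstance
    haveI : IsLocalRing S := Hensel.isLocalRing_of_finite_domain (R := A) S
    haveI : IsRegularLocalRing S := by
      haveI hself : IsLocalization.AtPrime S (maximalIdeal S) :=
        IsLocalization.self fun x hx => notMem_maximalIdeal.1 hx
      haveI := hSreg
      haveI := IsRegularRing.isRegularLocalRing_localization (maximalIdeal S)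
      exact IsRegularLocalRing.of_ringEquiv (R := Localization.AtPrime (maximalIdeal S))
        (IsLocalization.algEquiv (maximalIdeal S).primeCompl (Localization.AtPrime (maximalIdeal S)) S).toRingEquiv
    let T := (S : Type u) ⊗[A] B
    haveI : Module.Finite B T := finite_tensor_right
    haveI : IsNoetherianRing T := IsNoetherianRing.of_finite B T
    have hcat : CAlg.IsCatenary T := hUB.2 T inferInstance
    haveI : Module.Finite A (ResidueField S) :=
      Module.Finite.of_surjective (Ideal.Quotient.mkₐ A (maximalIdeal S)).toLinearMap Ideal.Quotient.mk_surjective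
    have hT : P T := by
      refine hP.of_loc T fun n _ => property_localization_baseChange hP A B S hcat
        (hclosed (ResidueField S) inferInstance) n ?_
      have hnB : n.comap (algebraMap B T) = maximalIdeal B :=
        eq_maximalIdeal (Ideal.isMaximal_comap_of_isIntegral_of_isMaximal n)
      haveI : Algebra.IsIntegral A S := Algebra.IsIntegral.of_finite A S
      haveI : ((n.comap (algebraMap S T)).comap (algebraMap A S)).IsMaximal := by
        rw [Ideal.comap_comap, algebraMap_tensor_comm, ← Ideal.comap_comap, hnB,
          hAB]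
        infer_instance
      exact eq_maximalIdeal (Ideal.isMaximal_of_isIntegral_of_isMaximal_comap _ this)
    obtain ⟨_, hloc⟩ := exists_algebra_tensor_fractionRing A S p.ResidueField B
    exact hP.loc (p.ResidueField ⊗[A] B) (Algebra.algebraMapSubmonoid T (nonZeroDivisors S)) hT
  -- climb to `B_{Q'}`, then descend to `B_Q`
  let L := Localization.AtPrime p
  let T := L ⊗[A] B
  haveI : IsLocalization (Algebra.algebraMapSubmonoid B p.primeCompl) T :=
    (Algebra.isLocalization_iff_isPushout p.primeCompl L).mpr (Algebra.IsPushout.symm inferInstance)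
  haveI : IsNoetherianRing T := IsLocalization.isNoetherianRing (Algebra.algebraMapSubmonoid B p.primeCompl) T inferInstance
  have hcat : CAlg.IsCatenary T := PtTop.Catenary.isCatenary_of_isLocalization
    (Algebra.algebraMapSubmonoid B p.primeCompl) T (hUB.2 B inferInstance)
  have hdisj : Disjoint (Algebra.algebraMapSubmonoid B p.primeCompl : Set B) (Q' : Set B) := by
    rw [Set.disjoint_left]
    rintro _ ⟨a, ha, rfl⟩ h
    exact ha h
  let n := Q'.map (algebraMap B T)
  haveI : n.IsPrime := IsLocalization.isPrime_of_isPrime_disjoint _ _ Q' inferInstance hdisj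
  have hnQ : n.comap (algebraMap B T) = Q' :=
    IsLocalization.under_map_of_isPrime_disjoint _ _ inferInstance hdisj
  have hn : n.comap (algebraMap L T) = maximalIdeal L := by
    rw [← IsLocalization.map_comap p.primeCompl L (n.comap (algebraMap L T)), Ideal.under, Ideal.comap_comap,
      algebraMap_tensor_comm, ← Ideal.comap_comap, hnQ]
    exact Localization.AtPrime.map_eq_maximalIdeal
  have hQ'P : P (Localization.AtPrime n) := property_localization_baseChange hP A B L hcat hfib n hn
  haveI : IsLocalization.AtPrime (Localization.AtPrime n) Q' := by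
    have := IsLocalization.isLocalization_isLocalization_atPrime_isLocalization
      (Algebra.algebraMapSubmonoid B p.primeCompl) (Localization.AtPrime n) n
    convert this
    exact hnQ.symm
  have hQ'B : P (Localization.AtPrime Q') := hP.iso
    (IsLocalization.algEquiv Q'.primeCompl (Localization.AtPrime n) (Localization.AtPrime Q')).toRingEquiv hQ'P
  have hle : Q'.primeCompl ≤ Q.primeCompl := fun x hx h => hx (hQQ' h)
  letI := IsLocalization.localizationAlgebraOfSubmonoidLe (Localization.AtPrime Q') (Localization.AtPrime Q)
    Q'.primeCompl Q.primeCompl hle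
  haveI := IsLocalization.localization_isScalarTower_of_submonoid_le (Localization.AtPrime Q')
    (Localization.AtPrime Q) Q'.primeCompl Q.primeCompl hle
  haveI := IsLocalization.isLocalization_of_submonoid_le (Localization.AtPrime Q') (Localization.AtPrime Q)
    Q'.primeCompl Q.primeCompl hle
  exact hP.loc (Localization.AtPrime Q) (Q.primeCompl.map (algebraMap B (Localization.AtPrime Q'))) hQ'B

/-- **EGA IV 7.5.1** for a lifting property: all finite extensions of all fibres have the property. -/
theorem property_fibres_of_isAdicComplete (hP : LiftingProperty P) (A B : Type u) [CommRing A]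
    [CommRing B] [IsNoetherianRing A] [IsNoetherianRing B] [IsLocalRing A] [IsLocalRing B]
    [IsAdicComplete (maximalIdeal A) A] [IsAdicComplete (maximalIdeal B) B] [Algebra A B]
    [IsLocalHom (algebraMap A B)] [Module.Flat A B] [Module.Finite (ResidueField A) (ResidueField B)]
    (hclosed : ∀ (K : Type u) [Field K] [Algebra A K], Module.Finite A K → P (K ⊗[A] B))
    (p : Ideal A) [p.IsPrime] (K : Type u) [Field K] [Algebra p.ResidueField K] [Algebra A K]
    [IsScalarTower A p.ResidueField K] [Module.Finite p.ResidueField K] : P (K ⊗[A] B) := by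
  classical
  have hAB : (maximalIdeal B).comap (algebraMap A B) = maximalIdeal A :=
    ((IsLocalRing.local_hom_TFAE (algebraMap A B)).out 0 4).1 ‹IsLocalHom (algebraMap A B)›
  obtain ⟨S, hSfin, hSfrac⟩ := exists_finite_domain p K
  haveI := hSfin
  haveI := hSfrac
  haveI : HenselianLocalRing A := Hensel.henselianLocalRing_of_henselianRing inferInstance
  haveI : IsLocalRing S := Hensel.isLocalRing_of_finite_domain (R := A) S
  haveI : IsNoetherianRing S := IsNoetherianRing.of_finite A S
  haveI : Algebra.IsIntegral A S := Algebra.IsIntegral.of_finite A S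
  haveI : IsAdicComplete (maximalIdeal S) S := by
    obtain ⟨-, h⟩ := Hens.finite_and_isAdicComplete_localization (R₀ := A) (T := S) (maximalIdeal S)
    haveI hself : IsLocalization.AtPrime S (maximalIdeal S) :=
      IsLocalization.self fun x hx => notMem_maximalIdeal.1 hx
    let e := (IsLocalization.algEquiv (maximalIdeal S).primeCompl S
      (Localization.AtPrime (maximalIdeal S))).toRingEquiv
    have hm : (maximalIdeal (Localization.AtPrime (maximalIdeal S))).map e.symm = maximalIdeal S := by
      refine IsLocalRing.eq_maximalIdeal (Ideal.IsMaximal.map_of_surjective_of_ker_le e.symm.surjective ?_)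
      rw [(RingHom.injective_iff_ker_eq_bot _).1 e.symm.injective]
      exact bot_le
    rw [← hm]
    exact (IsAdicComplete.congr_ringEquiv _ e.symm).2 h
  let T := (S : Type u) ⊗[A] B
  haveI : Module.Finite B T := finite_tensor_right
  haveI : IsNoetherianRing T := IsNoetherianRing.of_finite B T
  haveI : IsNoetherianRing (K ⊗[A] B) := by
    obtain ⟨_, hloc⟩ := exists_algebra_tensor_fractionRing A S K B
    exact IsLocalization.isNoetherianRing (Algebra.algebraMapSubmonoid T (nonZeroDivisors S)) _ inferInstance
  refine hP.of_loc (K ⊗[A] B) fun Q _ => ?_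
  obtain ⟨q, hq, hqS, ⟨eQ⟩⟩ := (forall_prime_generic (A := A) (B := S) (K := K) (C := B)).1 Q
  haveI := hq
  refine hP.iso eQ ?_
  obtain ⟨n, hn, hqn⟩ := Ideal.exists_le_maximal q hq.ne_top
  haveI := hn
  obtain ⟨-, hcpl⟩ := Hens.finite_and_isAdicComplete_localization (R₀ := B) (T := T) n
  let C := Localization.AtPrime n
  haveI : IsNoetherianRing C := IsLocalization.isNoetherianRing n.primeCompl C inferInstance
  have hnB : n.comap (algebraMap B T) = maximalIdeal B :=
    eq_maximalIdeal (Ideal.isMaximal_comap_of_isIntegral_of_isMaximal n)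
  have hnS : n.comap (algebraMap S T) = maximalIdeal S := by
    haveI : ((n.comap (algebraMap S T)).comap (algebraMap A S)).IsMaximal := by
      rw [Ideal.comap_comap, algebraMap_tensor_comm, ← Ideal.comap_comap, hnB,
        hAB]
      infer_instance
    exact eq_maximalIdeal (Ideal.isMaximal_of_isIntegral_of_isMaximal_comap _ this)
  haveI : Module.Flat T C := IsLocalization.flat C n.primeCompl
  haveI : Module.Flat S C := Module.Flat.trans S T C
  have hmapS : (maximalIdeal S).map (algebraMap S C) ≤ maximalIdeal C := by
    rw [Ideal.map_le_iff_le_comap, IsScalarTower.algebraMap_eq S T C, ← Ideal.comap_comap,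
      show (maximalIdeal C).comap (algebraMap T C) = n from Localization.AtPrime.comap_maximalIdeal, hnS]
  haveI : IsLocalHom (algebraMap S C) := ((IsLocalRing.local_hom_TFAE _).out 2 0).1 hmapS
  haveI : Module.Finite (ResidueField S) (ResidueField C) := by
    obtain ⟨hBC, -⟩ := Hens.finite_and_isAdicComplete_localization (R₀ := B) (T := T) n
    haveI := hBC
    haveI : IsScalarTower A B C := IsScalarTower.of_algebraMap_eq fun a => by
      rw [IsScalarTower.algebraMap_apply A S C, IsScalarTower.algebraMap_apply S T C,
        IsScalarTower.algebraMap_apply B T C]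
      exact congrArg _ (RingHom.congr_fun (algebraMap_tensor_comm (A' := (S : Type u))) a)
    haveI : Module.Finite A (ResidueField B) := Module.Finite.trans (ResidueField A) _
    haveI : Module.Finite B (ResidueField C) :=
      Module.Finite.of_surjective (Ideal.Quotient.mkₐ B (maximalIdeal C)).toLinearMap Ideal.Quotient.mk_surjective
    haveI : IsLocalHom (algebraMap B C) := by
      refine ((IsLocalRing.local_hom_TFAE _).out 2 0).1 ?_
      rw [Ideal.map_le_iff_le_comap, IsScalarTower.algebraMap_eq B T C, ← Ideal.comap_comap,
        show (maximalIdeal C).comap (algebraMap T C) = n from Localization.AtPrime.comap_maximalIdeal, hnB]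
    haveI : Module.Finite (ResidueField B) (ResidueField C) :=
      Module.Finite.of_restrictScalars_finite B (ResidueField B) _
    haveI : Module.Finite A (ResidueField C) := Module.Finite.trans (ResidueField B) _
    haveI : Module.Finite S (ResidueField C) := Module.Finite.of_restrictScalars_finite A S _
    exact Module.Finite.of_restrictScalars_finite S (ResidueField S) _
  have hdisj : Disjoint (n.primeCompl : Set T) (q : Set T) :=
    Set.disjoint_left.2 fun x hx hxq => hx (hqn hxq)
  let qC := q.map (algebraMap T C)
  haveI : qC.IsPrime := IsLocalization.isPrime_of_isPrime_disjoint _ _ q inferInstance hdisj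
  have hqC : qC.comap (algebraMap T C) = q :=
    IsLocalization.under_map_of_isPrime_disjoint _ _ inferInstance hdisj
  haveI : IsLocalization.AtPrime (Localization.AtPrime qC) q := by
    have := IsLocalization.isLocalization_isLocalization_atPrime_isLocalization
      n.primeCompl (Localization.AtPrime qC) qC
    convert this
    exact hqC.symm
  refine hP.iso (R := Localization.AtPrime qC) (R' := Localization.AtPrime q)
    (IsLocalization.algEquiv q.primeCompl (Localization.AtPrime qC) (Localization.AtPrime q)).toRingEquiv ?_
  refine property_localization_of_comap_eq_bot hP S C (fun F _ _ hF => ?_) qC ?_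
  · letI : Algebra A F := ((algebraMap S F).comp (algebraMap A S)).toAlgebra
    haveI : IsScalarTower A S F := IsScalarTower.of_algebraMap_eq fun _ => rfl
    haveI := hF
    have hFT : P (F ⊗[S] T) := hP.iso
      (Algebra.TensorProduct.cancelBaseChange A S F F B).symm.toRingEquiv (hclosed F (Module.Finite.trans S F))
    exact property_tensor_localization hP S F T C n.primeCompl hFT
  · rw [IsScalarTower.algebraMap_eq S T C, ← Ideal.comap_comap, hqC, hqS]

end Groth.Agent.EGA4Lib
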