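import Groth.Agent.EGA4Lib.EquidimFlat
import Groth.Agent.EGA4Lib.CompleteExcellent
import Groth.Agent.EGA4Lib.AdicFibres
import Groth.Agent.Hensel.Completion
import Groth.Agent.CMCat.Basic
import Groth.Agent.Dim.Support
import Groth.Agent.S2604

/-!
# Formally equidimensional local rings (EGA IV 7.1, 7.2)
-/

set_option autoImplicit false
set_option linter.style.haveILetI false

open IsLocalRing TensorProduct

namespace Groth.Agent.EGA4Lib

universe u

theorem isEquidim_of_ringEquiv {R R' : Type u} [CommRing R] [CommRing R'] (e : R ≃+* R')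
    (h : EGA4.IsEquidim R) : EGA4.IsEquidim R' := by
  rw [Hensel.isEquidim_iff_of_surjective e.toRingHom e.surjective, ← ringKrullDim_eq_of_ringEquiv e,
    (RingHom.injective_iff_ker_eq_bot e.toRingHom).1 e.injective]
  exact h

theorem isFormallyEquidim_of_ringEquiv {R S : Type u} [CommRing R] [CommRing S] [IsLocalRing R]
    [IsLocalRing S] (e : R ≃+* S) (h : EGA4.IsFormallyEquidim R) : EGA4.IsFormallyEquidim S := by
  letI : Algebra R S := e.toRingHom.toAlgebra
  have hmap : (maximalIdeal R).map (algebraMap R S) = maximalIdeal S :=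
    IsLocalRing.map_maximalIdeal_of_surjective e.toRingHom e.surjective
  obtain ⟨f⟩ := nonempty_adicCompletion_congr (maximalIdeal R) (maximalIdeal S)
    (fun k x => ⟨e.symm x, by
      rw [show algebraMap R S (e.symm x) = x from e.apply_symm_apply x, sub_self]
      exact zero_mem _⟩)
    (fun k a => by
      rw [← hmap, ← Ideal.map_pow]
      exact ⟨fun ha => by
        obtain ⟨b, hb, hba⟩ := (Ideal.mem_map_iff_of_surjective _ e.surjective).1 ha
        rwa [← e.injective hba], Ideal.mem_map_of_mem _⟩)
  exact isEquidim_of_ringEquiv f.toRingEquiv.symm h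

variable (A : Type u) [CommRing A] [IsLocalRing A] [IsNoetherianRing A]

theorem isCatenary_cpl : CAlg.IsCatenary (AdicCompletion (maximalIdeal A) A) := by
  haveI : IsNoetherianRing (AdicCompletion (maximalIdeal A) A) :=
    RegLoc.Completion.isNoetherianRing_adicCompletion' _
  exact (isExcellent_of_isAdicComplete (AdicCompletion (maximalIdeal A) A)).2.1.2 _ inferInstance

theorem fibre_cpl_eq :
    (maximalIdeal A).map (algebraMap A (AdicCompletion (maximalIdeal A) A)) =
      maximalIdeal (AdicCompletion (maximalIdeal A) A) :=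
  AdicCompletion.maximalIdeal_eq_map.symm

theorem fibre_cpl_dim :
    ringKrullDim (AdicCompletion (maximalIdeal A) A ⧸
      (maximalIdeal A).map (algebraMap A (AdicCompletion (maximalIdeal A) A))) = 0 := by
  haveI : ((maximalIdeal A).map (algebraMap A (AdicCompletion (maximalIdeal A) A))).IsMaximal := by
    rw [fibre_cpl_eq]; infer_instance
  exact ringKrullDim_eq_zero_of_isField ((Ideal.Quotient.maximal_ideal_iff_isField_quotient _).1 this)

variable {A}

theorem isEquidim_and_isCatenary_of_formallyEquidim (h : EGA4.IsFormallyEquidim A) :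
    EGA4.IsEquidim A ∧ CAlg.IsCatenary A := by
  haveI : IsNoetherianRing (AdicCompletion (maximalIdeal A) A) :=
    RegLoc.Completion.isNoetherianRing_adicCompletion' _
  exact isEquidim_and_isCatenary_of_flat (B := AdicCompletion (maximalIdeal A) A) (isCatenary_cpl A) h

theorem isEquidim_quotient_iff_formallyEquidim (h : EGA4.IsFormallyEquidim A) (a : Ideal A)
    [Nontrivial (A ⧸ a)] :
    EGA4.IsEquidim (A ⧸ a) ↔ EGA4.IsFormallyEquidim (A ⧸ a) := by
  haveI : IsNoetherianRing (AdicCompletion (maximalIdeal A) A) :=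
    RegLoc.Completion.isNoetherianRing_adicCompletion' _
  rw [← isEquidim_quotient_iff (B := AdicCompletion (maximalIdeal A) A) (isCatenary_cpl A) h
    (fibre_cpl_dim A) a]
  obtain ⟨e⟩ := Hensel.nonempty_quotient_completion_equiv A a
  exact ⟨fun h' => isEquidim_of_ringEquiv e.symm h', fun h' => isEquidim_of_ringEquiv e h'⟩

theorem isFormallyCatenary_of_formallyEquidim (h : EGA4.IsFormallyEquidim A) :
    EGA4.IsFormallyCatenary A := by
  intro p _
  refine (isEquidim_quotient_iff_formallyEquidim h p).1 fun q hq => ?_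
  rw [IsDomain.minimalPrimes_eq_singleton_bot, Set.mem_singleton_iff] at hq
  subst hq
  exact ringKrullDim_eq_of_ringEquiv (RingEquiv.quotientBot _)

/-- EGA IV 7.1.? : formally equidimensional is tested on the minimal primes. -/
theorem isFormallyEquidim_iff_minimalPrimes :
    EGA4.IsFormallyEquidim A ↔
      (EGA4.IsEquidim A ∧ ∀ (p : Ideal A) [p.IsPrime], p ∈ minimalPrimes A → EGA4.IsFormallyEquidim (A ⧸ p)) := by
  refine ⟨fun h => ⟨(isEquidim_and_isCatenary_of_formallyEquidim h).1,
    fun p _ _ => isFormallyCatenary_of_formallyEquidim h p⟩, fun ⟨heq, hp⟩ => ?_⟩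
  let T := AdicCompletion (maximalIdeal A) A
  haveI : IsNoetherianRing T := RegLoc.Completion.isNoetherianRing_adicCompletion' _
  intro P hP
  haveI := hP.1.1
  let p := P.comap (algebraMap A T)
  have hpmin : p ∈ minimalPrimes A := by
    refine ⟨⟨inferInstance, bot_le⟩, fun r hr hrp => ?_⟩
    haveI := hr.1
    haveI : P.LiesOver p := ⟨rfl⟩
    obtain ⟨R, hRP, hR, hlo⟩ := Ideal.exists_ideal_le_liesOver_of_le (p := r) (q := p) P hrp
    have : P ≤ R := hP.2 ⟨hR, bot_le⟩ hRP
    exact (Ideal.comap_mono this).trans hlo.over.ge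
  have hPp : P ∈ (p.map (algebraMap A T)).minimalPrimes :=
    ⟨⟨hP.1.1, Ideal.map_le_iff_le_comap.2 le_rfl⟩, fun R hR hRP => hP.2 ⟨hR.1, bot_le⟩ hRP⟩
  obtain ⟨e⟩ := Hensel.nonempty_quotient_completion_equiv A p
  have h1 := isEquidim_of_ringEquiv e (hp p hpmin)
  rw [Hensel.isEquidim_iff_of_surjective (Ideal.Quotient.mk _) Ideal.Quotient.mk_surjective, Ideal.mk_ker] at h1
  rw [h1 P hPp, ringKrullDim_quotient_map p Ideal.IsPrime.ne_top', fibre_cpl_dim, add_zero, heq p hpmin,
    Dim.ringKrullDim_eq_add_fibre A T, fibre_cpl_dim, add_zero]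

/-- A local ring with a Cohen–Macaulay module of full support is formally equidimensional. -/
theorem isFormallyEquidim_of_cm_module (M : Type u) [AddCommGroup M] [Module A M] [Module.Finite A M]
    (hCM : LocCoh.IsCohenMacaulayModule A M) (hsupp : Module.support A M = Set.univ) :
    EGA4.IsFormallyEquidim A := by
  let T := AdicCompletion (maximalIdeal A) A
  haveI : IsNoetherianRing T := RegLoc.Completion.isNoetherianRing_adicCompletion' _
  haveI : Nontrivial M := by
    by_contra hn
    rw [not_nontrivial_iff_subsingleton] at hn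
    haveI := hn
    rw [Module.support_eq_empty] at hsupp
    exact Set.empty_ne_univ hsupp
  haveI : Nontrivial (EGA4.FibMod A T T) := by
    refine Submodule.Quotient.nontrivial_iff.2 fun htop => ?_
    rw [smul_eq_mul, Ideal.mul_top, show EGA4.mB A T = maximalIdeal T from fibre_cpl_eq A] at htop
    exact (maximalIdeal.isMaximal T).ne_top htop
  have hfib : LocCoh.IsCohenMacaulayModule (EGA4.FibRing A T) (EGA4.FibMod A T T) := by
    refine le_antisymm ?_ Depth.depth_le_supportDim
    refine (Module.supportDim_le_ringKrullDim _ _).trans ?_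
    rw [show ringKrullDim (EGA4.FibRing A T) = 0 from fibre_cpl_dim A]
    exact WithBot.coe_le_coe.mpr zero_le
  have hN : LocCoh.IsCohenMacaulayModule T (T ⊗[A] M) :=
    (Groth.Agent.S2604.result A T M T).2 ⟨hCM, hfib⟩
  have hNs : Module.support T (T ⊗[A] M) = Set.univ := by
    rw [Dim.support_tensor, hsupp, Set.preimage_univ, Set.inter_univ]
    rw [Module.support_eq_zeroLocus, Module.annihilator_eq_bot.2 inferInstance]
    exact PrimeSpectrum.zeroLocus_bot
  intro P hP
  haveI := hP.1.1
  have h := CMCat.ringKrullDim_eq_quotient_add_height hN hNs P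
  rw [Ideal.height_eq_zero_iff.2 hP, WithBot.coe_zero, add_zero] at h
  exact h.symm

/-- Quotients of Cohen–Macaulay local rings are formally catenary. -/
theorem isFormallyCatenary_of_surjective {B : Type u} [CommRing B] [IsLocalRing B] (f : A →+* B)
    (hf : Function.Surjective f) (h : EGA4.IsFormallyCatenary A) : EGA4.IsFormallyCatenary B := by
  intro P _
  let e : A ⧸ P.comap f ≃+* B ⧸ P :=
    (Ideal.quotEquivOfEq (by rw [← RingHom.comap_ker, Ideal.mk_ker])).trans
      (RingHom.quotientKerEquivOfSurjective (f := (Ideal.Quotient.mk P).comp f)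
        (Ideal.Quotient.mk_surjective.comp hf))
  exact isFormallyEquidim_of_ringEquiv e (h (P.comap f))

theorem isFormallyEquidim_of_cm (A : Type u) [CommRing A] [h : LocCoh.IsCohenMacaulayLocalRing A] :
    EGA4.IsFormallyEquidim A :=
  isFormallyEquidim_of_cm_module A h.supportDim_eq_depth (by
    rw [Module.support_eq_zeroLocus, Module.annihilator_eq_bot.2 inferInstance]
    exact PrimeSpectrum.zeroLocus_bot)

end Groth.Agent.EGA4Lib
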