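import Groth.Agent.EGA4Lib.FormallyEquidim
import Groth.Agent.FlatFibres.Basic
import Groth.Agent.Adic.Rig.Hom
import Groth.Agent.S4689
import Groth.Agent.S6303
import Mathlib.RingTheory.Ideal.GoingDown

/-!
# Universally catenary local rings are formally catenary (Ratliff, EGA IV 7.1.11)

For a universally catenary Noetherian local domain `D` with completion `T` and a minimal prime `P` of `T`
we show `dim T/P = dim D`. If `dim T/P ≥ 2` this follows by induction through a height one prime of `T`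
above `P`; if `dim T/P ≤ 1` a quadratic extension of `D` inside its fraction field separates the branch `P`
and has a maximal ideal of height at most one.
-/

set_option autoImplicit false
set_option linter.style.haveILetI false

open IsLocalRing TensorProduct

namespace Groth.Agent.EGA4Lib

universe u

theorem map_inf_of_flat {A B : Type u} [CommRing A] [CommRing B] [Algebra A B] [Module.Flat A B]
    (I J : Ideal A) :
    (I ⊓ J).map (algebraMap A B) = I.map (algebraMap A B) ⊓ J.map (algebraMap A B) := by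
  refine le_antisymm (Ideal.map_inf_le _) fun x hx => ?_
  have h : ∀ K : Ideal A, x ∈ K.map (algebraMap A B) ↔ x ∈ (K • ⊤ : Submodule A B) := fun K => by
    rw [Ideal.smul_top_eq_map, Submodule.restrictScalars_mem]
  rw [h, ← Groth.Agent.S6303.result I J B]
  exact ⟨(h I).1 hx.1, (h J).1 hx.2⟩

namespace Ratliff

variable {D : Type u} [CommRing D] [IsDomain D] [IsLocalRing D] [IsNoetherianRing D]

local notation "T" => AdicCompletion (maximalIdeal D) D

omit [IsDomain D] in
theorem comap_maximalIdeal_cpl : (maximalIdeal T).comap (algebraMap D T) = maximalIdeal D := by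
  refine ((maximalIdeal.isMaximal D).eq_of_le
    (Ideal.comap_ne_top _ (maximalIdeal.isMaximal T).ne_top) ?_).symm
  rw [← Ideal.map_le_iff_le_comap, fibre_cpl_eq D]

theorem comap_minimal {P : Ideal T} (hP : P ∈ minimalPrimes T) : P.comap (algebraMap D T) = ⊥ :=
  comap_eq_of_mem_minimalPrimes_map (⊥ : Ideal D) (by rw [Ideal.map_bot]; exact hP)

theorem le_of_ker_le {P : Ideal T} [hPp : P.IsPrime] (hP : P ∈ minimalPrimes T) (R : Ideal T) [hR : R.IsPrime]
    (hJR : RingHom.ker (algebraMap T (Localization.AtPrime P)) ≤ R) : P ≤ R := by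
  intro x hx
  have hnil : algebraMap T (Localization.AtPrime P) x ∈ nilradical (Localization.AtPrime P) := by
    rw [nilradical_eq_sInf, Submodule.mem_sInf]
    intro q hq
    obtain ⟨q, rfl⟩ : ∃ q' : Ideal (Localization.AtPrime P), q' = q := ⟨q, rfl⟩
    haveI : q.IsPrime := hq
    have hle : q.comap (algebraMap T (Localization.AtPrime P)) ≤ P := by
      refine (Ideal.comap_mono (le_maximalIdeal (Ideal.IsPrime.ne_top ‹_›))).trans ?_
      exact (IsLocalization.AtPrime.under_maximalIdeal (Localization.AtPrime P) P).le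
    exact hP.2 ⟨inferInstance, bot_le⟩ hle hx
  obtain ⟨m, hm⟩ := hnil
  rw [← map_pow] at hm
  exact hR.mem_of_pow_mem m (hJR hm)

theorem two_le_dim_quotient {P R : Ideal T} [hPp : P.IsPrime] [hRp : R.IsPrime] (hPR : P < R)
    (hlt : R < maximalIdeal T) : ((2 : ℕ) : WithBot ℕ∞) ≤ ringKrullDim (T ⧸ P) := by
  let a0 : PrimeSpectrum.zeroLocus (P : Set T) := ⟨⟨P, hPp⟩, (PrimeSpectrum.mem_zeroLocus _ _).2 subset_rfl⟩
  let a1 : PrimeSpectrum.zeroLocus (P : Set T) := ⟨⟨R, hRp⟩, hPR.le⟩
  let a2 : PrimeSpectrum.zeroLocus (P : Set T) := ⟨closedPoint T, hPR.le.trans hlt.le⟩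
  have h01 : a0 < a1 := hPR
  have h12 : a1 < a2 := hlt
  let l : LTSeries (PrimeSpectrum.zeroLocus (P : Set T)) :=
    ((RelSeries.singleton _ a0).snoc a1 (by simpa using h01)).snoc a2 (by simpa using h12)
  rw [ringKrullDim_quotient]
  exact Order.LTSeries.length_le_krullDim l

theorem mem_of_map_eq_zero {P : Ideal T} [hPp : P.IsPrime] {x : T}
    (hx : algebraMap T (Localization.AtPrime P) x = 0) : x ∈ P := by
  obtain ⟨s, hs⟩ := (IsLocalization.map_eq_zero_iff P.primeCompl (Localization.AtPrime P) x).1 hx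
  exact (hPp.mem_or_mem (hs ▸ zero_mem P)).resolve_left s.2

theorem exists_component {P : Ideal T} [hPp : P.IsPrime] :
    ∃ s : T, s ∉ P ∧ ∀ x ∈ RingHom.ker (algebraMap T (Localization.AtPrime P)), s * x = 0 := by
  classical
  haveI : IsNoetherianRing T := RegLoc.Completion.isNoetherianRing_adicCompletion' _
  set J : Ideal T := RingHom.ker (algebraMap T (Localization.AtPrime P))
  obtain ⟨G, hG⟩ := IsNoetherian.noetherian J
  have hG' : ∀ x : G, ∃ s : T, s ∉ P ∧ s * (x : T) = 0 := fun x => by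
    have hx : (x : T) ∈ J := hG ▸ Submodule.subset_span x.2
    obtain ⟨s, hs⟩ := (IsLocalization.map_eq_zero_iff P.primeCompl (Localization.AtPrime P) (x : T)).1 hx
    exact ⟨s, s.2, hs⟩
  choose c hc hc0 using hG'
  refine ⟨∏ x : G, c x, fun h => ?_, fun x hx => ?_⟩
  · obtain ⟨y, -, hy⟩ := (Ideal.IsPrime.prod_mem_iff (p := P)).1 h
    exact hc y hy
  · rw [← hG] at hx
    induction hx using Submodule.span_induction with
    | mem y hy =>
      rw [← Finset.prod_erase_mul _ c (Finset.mem_univ ⟨y, hy⟩), mul_assoc, hc0 ⟨y, hy⟩, mul_zero]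
    | zero => rw [mul_zero]
    | add y z _ _ hy hz => rw [mul_add, hy, hz, add_zero]
    | smul t y _ hy => rw [smul_eq_mul, mul_left_comm, hy, mul_zero]

omit [IsDomain D] in
/-- An element of `(aT : mⁿT)` is congruent to an element of `D` modulo `aT`. -/
theorem exists_congr (n : ℕ) (a : D) (k : T)
    (hk : ∀ w ∈ maximalIdeal D ^ n, algebraMap D T w * k ∈ (Ideal.span {a}).map (algebraMap D T)) :
    ∃ (b : D) (t : T), k = algebraMap D T b + t * algebraMap D T a := by
  classical
  obtain ⟨S, hS⟩ := IsNoetherian.noetherian (maximalIdeal D ^ n)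
  have hcolon : ∀ w ∈ S, k ∈ ((Ideal.span {a}).colon {w}).map (algebraMap D T) := fun w hw => by
    refine FlatFibres.mem_map_colon _ w k ?_
    exact hk w (hS ▸ Submodule.subset_span hw)
  let C : Ideal D := S.inf fun w => (Ideal.span {a}).colon {w}
  have hkC : k ∈ C.map (algebraMap D T) := by
    have : ∀ S' : Finset D, (∀ w ∈ S', k ∈ ((Ideal.span {a}).colon {w}).map (algebraMap D T)) →
        k ∈ (S'.inf fun w => (Ideal.span {a}).colon {w}).map (algebraMap D T) := by
      intro S'
      induction S' using Finset.induction with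
      | empty => intro _; rw [Finset.inf_empty, Ideal.map_top]; trivial
      | insert w S'' _ ih =>
        intro h
        rw [Finset.inf_insert, map_inf_of_flat]
        exact ⟨h w (Finset.mem_insert_self _ _), ih fun v hv => h v (Finset.mem_insert_of_mem hv)⟩
    exact this S hcolon
  have hCmul : ∀ c ∈ C, maximalIdeal D ^ n ≤ (Ideal.span {a}).colon {c} := fun c hc => by
    rw [← hS]
    refine Submodule.span_le.2 fun w hw => ?_
    have h1 : c ∈ (Ideal.span {a}).colon {w} := (Finset.inf_le hw : C ≤ _) hc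
    rw [Submodule.mem_colon_singleton, smul_eq_mul, mul_comm] at h1
    exact Submodule.mem_colon_singleton.2 h1
  obtain ⟨b, -, hb⟩ : ∃ b ∈ C, k - algebraMap D T b ∈ (Ideal.span {a}).map (algebraMap D T) := by
    refine Submodule.span_induction (p := fun x _ => ∃ b ∈ C, x - algebraMap D T b ∈
      (Ideal.span {a}).map (algebraMap D T)) ?_ ⟨0, zero_mem _, by simp⟩ ?_ ?_ hkC
    · rintro _ ⟨c, hc, rfl⟩
      exact ⟨c, hc, by simp⟩
    · rintro x y - - ⟨c, hc, hcx⟩ ⟨e, he, hey⟩
      exact ⟨c + e, add_mem hc he, by rw [map_add, add_sub_add_comm]; exact add_mem hcx hey⟩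
    · rintro t x - ⟨c, hc, hcx⟩
      obtain ⟨t', ht'⟩ := Adic.Rig.exists_sub_mem_pow_map (IsNoetherian.noetherian (maximalIdeal D)) t n
      refine ⟨t' * c, Ideal.mul_mem_left _ _ hc, ?_⟩
      rw [show t • x - algebraMap D T (t' * c) =
        t * (x - algebraMap D T c) + (t - algebraMap D T t') * algebraMap D T c from by
          rw [smul_eq_mul, map_mul]; ring]
      refine add_mem (Ideal.mul_mem_left _ _ hcx) ?_
      have h1 : ((Ideal.span {a}).colon {c}).map (algebraMap D T) * Ideal.span {algebraMap D T c} ≤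
          (Ideal.span {a}).map (algebraMap D T) := by
        rw [← Set.image_singleton, ← Ideal.map_span, ← Ideal.map_mul]
        refine Ideal.map_mono (Ideal.mul_le.2 fun r hr v hv => ?_)
        obtain ⟨v', rfl⟩ := Ideal.mem_span_singleton'.1 hv
        rw [mul_left_comm]
        exact Ideal.mul_mem_left _ _ (Submodule.mem_colon_singleton.1 hr)
      exact h1 (Ideal.mul_mem_mul (Ideal.map_mono (hCmul c hc) ht') (Ideal.mem_span_singleton_self _))
  rw [Ideal.map_span, Set.image_singleton, Ideal.mem_span_singleton'] at hb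
  obtain ⟨t, ht⟩ := hb
  exact ⟨b, t, by rw [ht, add_sub_cancel]⟩

/-- Data separating a branch `P` of dimension at most one. -/
theorem exists_data {P : Ideal T} [hPp : P.IsPrime] (hP : P ∈ minimalPrimes T)
    (hdim : ringKrullDim (T ⧸ P) ≤ 1) (hd : ¬ ringKrullDim D ≤ 1) :
    ∃ (a b : D) (k t : T), a ≠ 0 ∧ k = algebraMap D T b + t * algebraMap D T a ∧
      k * k = algebraMap D T a * k ∧
      algebraMap T (Localization.AtPrime P) (algebraMap D T a) = algebraMap T _ k ∧
      ∀ w, algebraMap T (Localization.AtPrime P) w = 0 → w * k = 0 := by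
  haveI : IsNoetherianRing T := RegLoc.Completion.isNoetherianRing_adicCompletion' _
  obtain ⟨s, hs, hsJ⟩ := exists_component (P := P)
  set J : Ideal T := RingHom.ker (algebraMap T (Localization.AtPrime P))
  have hzero : ∀ x ∈ J, ∀ y ∈ Ideal.span {s}, x * y = 0 := fun x hx y hy => by
    obtain ⟨c, rfl⟩ := Ideal.mem_span_singleton'.1 hy
    rw [mul_left_comm, mul_comm x s, hsJ x hx, mul_zero]
  have hmax : maximalIdeal T ≤ (J ⊔ Ideal.span {s}).radical := by
    rw [Ideal.radical_eq_sInf]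
    refine le_sInf fun R hR => ?_
    obtain ⟨hJR, hRp⟩ := hR
    haveI := hRp
    have hPR : P < R := lt_of_le_of_ne (le_of_ker_le hP R (le_sup_left.trans hJR)) fun h => hs <| by
      rw [h]; exact hJR (Ideal.mem_sup_right (Ideal.mem_span_singleton_self s))
    by_contra hne
    have hlt : R < maximalIdeal T := lt_of_le_of_ne (le_maximalIdeal hRp.ne_top) fun h => hne h.ge
    have h21 : ((2 : ℕ) : WithBot ℕ∞) ≤ ((1 : ℕ) : WithBot ℕ∞) := (two_le_dim_quotient hPR hlt).trans hdim
    exact absurd h21 (by decide)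
  obtain ⟨n, hn⟩ := Ideal.exists_pow_le_of_le_radical_of_fg hmax (IsNoetherian.noetherian _)
  have hmn : (maximalIdeal D ^ n).map (algebraMap D T) = maximalIdeal T ^ n := by
    rw [Ideal.map_pow, fibre_cpl_eq D]
  have hm0 : maximalIdeal D ≠ ⊥ := fun h => hd <| by
    rw [ringKrullDim_eq_zero_of_isField ((IsLocalRing.isField_iff_maximalIdeal_eq).2 h)]
    exact zero_le_one
  obtain ⟨a, han, ha0⟩ := Submodule.exists_mem_ne_zero_of_ne_bot (pow_ne_zero n hm0)
  have hsplit : ∀ w ∈ maximalIdeal D ^ n, ∃ j ∈ J, ∃ k ∈ Ideal.span {s}, j + k = algebraMap D T w :=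
    fun w hw => Submodule.mem_sup.1 (hn (hmn ▸ Ideal.mem_map_of_mem _ hw))
  obtain ⟨j, hj, k, hk, hjk⟩ := hsplit a han
  have hkk : k * k = algebraMap D T a * k := by rw [← hjk, add_mul, hzero j hj k hk, zero_add]
  have hcol : ∀ w ∈ maximalIdeal D ^ n, algebraMap D T w * k ∈ (Ideal.span {a}).map (algebraMap D T) := by
    intro w hw
    obtain ⟨j', hj', k', hk', hw'⟩ := hsplit w hw
    have e : algebraMap D T w * k = algebraMap D T a * k' := by
      rw [← hw', ← hjk, add_mul, add_mul, hzero j hj k' hk', hzero j' hj' k hk, mul_comm k' k]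
    rw [e]
    exact Ideal.mul_mem_right _ _ (Ideal.mem_map_of_mem _ (Ideal.mem_span_singleton_self a))
  obtain ⟨b, t, hkb⟩ := exists_congr n a k hcol
  refine ⟨a, b, k, t, ha0, hkb, hkk, ?_, fun w hw => hzero w hw k hk⟩
  rw [← hjk, map_add, show algebraMap T (Localization.AtPrime P) j = 0 from hj, zero_add]

/-- The quadratic extension `D[b/a]`. -/
theorem exists_quadratic {a b : D} (ha0 : a ≠ 0) {α β : D} (hαβ : α * (a * b) + β * (a * a) = b * b) :
    ∃ (B : Subalgebra D (FractionRing D)) (zB : B), Module.Finite D B ∧ FaithfulSMul D B ∧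
      algebraMap D B a * zB = algebraMap D B b ∧
      ∀ x : B, ∃ p q : D, x = algebraMap D B p + algebraMap D B q * zB := by
  classical
  let K0 := FractionRing D
  have haK : algebraMap D K0 a ≠ 0 := fun h => ha0 ((IsFractionRing.injective D K0) (h.trans (map_zero _).symm))
  let z : K0 := algebraMap D K0 b / algebraMap D K0 a
  have haz : algebraMap D K0 a * z = algebraMap D K0 b := mul_div_cancel₀ _ haK
  have hzz : z * z = algebraMap D K0 α * z + algebraMap D K0 β := by
    refine mul_left_cancel₀ (mul_ne_zero haK haK) ?_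
    have e := congrArg (algebraMap D K0) hαβ
    simp only [map_add, map_mul] at e
    linear_combination (algebraMap D K0 a * z + algebraMap D K0 b) * haz - e
      - (algebraMap D K0 α * algebraMap D K0 a) * haz
  let B := Algebra.adjoin D ({z} : Set K0)
  have hBpq : ∀ x ∈ B, ∃ p q : D, x = algebraMap D K0 p + algebraMap D K0 q * z := fun x hx => by
    induction hx using Algebra.adjoin_induction with
    | mem y hy => exact ⟨0, 1, by simp [Set.mem_singleton_iff.1 hy]⟩
    | algebraMap r => exact ⟨r, 0, by simp⟩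
    | add y w _ _ hy hw =>
      obtain ⟨p, q, rfl⟩ := hy
      obtain ⟨p', q', rfl⟩ := hw
      exact ⟨p + p', q + q', by simp only [map_add]; ring⟩
    | mul y w _ _ hy hw =>
      obtain ⟨p, q, rfl⟩ := hy
      obtain ⟨p', q', rfl⟩ := hw
      refine ⟨p * p' + q * q' * β, p * q' + q * p' + q * q' * α, ?_⟩
      simp only [map_add, map_mul]
      linear_combination (algebraMap D K0 q * algebraMap D K0 q') * hzz
  let zB : B := ⟨z, Algebra.subset_adjoin (Set.mem_singleton z)⟩
  have hBpq' : ∀ x : B, ∃ p q : D, x = algebraMap D B p + algebraMap D B q * zB := fun x => by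
    obtain ⟨p, q, h⟩ := hBpq x x.2
    exact ⟨p, q, Subtype.ext h⟩
  have hfin : Module.Finite D B := ⟨⟨{1, zB}, by
    rw [eq_top_iff]
    rintro x -
    obtain ⟨p, q, rfl⟩ := hBpq' x
    rw [Finset.coe_pair, Submodule.mem_span_pair]
    exact ⟨p, q, by simp only [Algebra.smul_def, mul_one]⟩⟩⟩
  have hfs : FaithfulSMul D B := (faithfulSMul_iff_algebraMap_injective D B).2 fun x y h =>
    IsFractionRing.injective D K0 (congrArg Subtype.val h)
  have hazB : algebraMap D B a * zB = algebraMap D B b := Subtype.ext haz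
  exact ⟨B, zB, hfin, hfs, hazB, hBpq'⟩

/-- The idempotent separating the branch, in abstract form. -/
theorem exists_branch {R B S L : Type u} [CommRing R] [CommRing B] [CommRing S] [CommRing L] [Algebra R B]
    [Algebra R S] [Algebra R L] [Module.Flat R S] (ψ : B →ₐ[R] L) (g : S →ₐ[R] L) {a b : R} {k t : S} {z : B}
    (hBpq : ∀ x : B, ∃ p q : R, x = algebraMap R B p + algebraMap R B q * z)
    (hinj : Function.Injective fun x : B => algebraMap R B a * x)
    (haz : algebraMap R B a * z = algebraMap R B b)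
    (hkb : k = algebraMap R S b + t * algebraMap R S a)
    (hψz : ψ z = g (1 - t)) (hann : ∀ w, g w = 0 → w * k = 0) :
    ∃ (χ : B ⊗[R] S →ₐ[R] L) (f : B ⊗[R] S), (∀ u, ∃ w, χ u = g w) ∧
      (∀ w, χ ((1 : B) ⊗ₜ[R] w) = g w) ∧ χ f = 1 ∧ ∀ u, χ u = 0 → f * u = 0 := by
  let χ : B ⊗[R] S →ₐ[R] L := Algebra.TensorProduct.lift ψ g fun _ _ => Commute.all _ _
  have hmove : ∀ (d : R) (w : S),
      algebraMap R B d ⊗ₜ[R] w = (1 : B) ⊗ₜ[R] (algebraMap R S d * w) := fun d w => by
    rw [Algebra.algebraMap_eq_smul_one, TensorProduct.smul_tmul, Algebra.smul_def]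
  let A0 : B ⊗[R] S := algebraMap R B a ⊗ₜ[R] 1
  have hall : ∀ u : B ⊗[R] S, ∃ w : S, A0 * u = (1 : B) ⊗ₜ[R] w := fun u => by
    induction u using TensorProduct.induction_on with
    | zero => exact ⟨0, by rw [mul_zero, TensorProduct.tmul_zero]⟩
    | tmul x y =>
      obtain ⟨p, q, rfl⟩ := hBpq x
      refine ⟨algebraMap R S (a * p + q * b) * y, ?_⟩
      rw [Algebra.TensorProduct.tmul_mul_tmul, one_mul, mul_add, mul_left_comm, haz, ← map_mul, ← map_mul,
        ← map_add, hmove]
    | add u v hu hv =>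
      obtain ⟨w, hw⟩ := hu
      obtain ⟨w', hw'⟩ := hv
      exact ⟨w + w', by rw [mul_add, hw, hw', TensorProduct.tmul_add]⟩
  have hnzd : ∀ u : B ⊗[R] S, A0 * u = 0 → u = 0 := fun u hu => by
    have heq : LinearMap.mulLeft R A0 = (LinearMap.mulLeft R (algebraMap R B a)).rTensor S := by
      refine TensorProduct.ext' fun x y => ?_
      simp [A0, Algebra.TensorProduct.tmul_mul_tmul]
    apply Module.Flat.rTensor_preserves_injective_linearMap (M := S) (LinearMap.mulLeft R (algebraMap R B a)) hinj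
    rw [map_zero, ← heq]
    exact hu
  have hrange : ∀ u : B ⊗[R] S, ∃ w : S, χ u = g w := fun u => by
    induction u using TensorProduct.induction_on with
    | zero => exact ⟨0, by rw [map_zero, map_zero]⟩
    | tmul x y =>
      obtain ⟨p, q, rfl⟩ := hBpq x
      refine ⟨(algebraMap R S p + algebraMap R S q * (1 - t)) * y, ?_⟩
      rw [Algebra.TensorProduct.lift_tmul, map_mul g, map_add g, map_mul g, map_add, map_mul, hψz,
        AlgHom.commutes, AlgHom.commutes, AlgHom.commutes, AlgHom.commutes]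
    | add u v hu hv =>
      obtain ⟨w, hw⟩ := hu
      obtain ⟨w', hw'⟩ := hv
      exact ⟨w + w', by rw [map_add, map_add, hw, hw']⟩
  have hχr : ∀ w : S, χ ((1 : B) ⊗ₜ[R] w) = g w := fun w => by
    rw [Algebra.TensorProduct.lift_tmul, map_one, one_mul]
  let f : B ⊗[R] S := z ⊗ₜ[R] 1 + (1 : B) ⊗ₜ[R] t
  have hχf : χ f = 1 := by
    rw [map_add, hχr, Algebra.TensorProduct.lift_tmul, map_one, mul_one, hψz, map_sub, map_one,
      sub_add_cancel]
  have hAf : A0 * f = (1 : B) ⊗ₜ[R] k := by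
    rw [mul_add, Algebra.TensorProduct.tmul_mul_tmul, Algebra.TensorProduct.tmul_mul_tmul, mul_one,
      mul_one, one_mul, haz, hmove, hmove, mul_one, ← TensorProduct.tmul_add, hkb, mul_comm t]
  refine ⟨χ, f, hrange, hχr, hχf, fun u hu => ?_⟩
  obtain ⟨w, hw⟩ := hall u
  have hgw : g w = 0 := by rw [← hχr, ← hw, map_mul, hu, mul_zero]
  refine hnzd _ (hnzd _ ?_)
  rw [show A0 * (A0 * (f * u)) = (A0 * f) * (A0 * u) by ring, hAf, hw,
    Algebra.TensorProduct.tmul_mul_tmul, mul_comm k w, hann w hgw, TensorProduct.tmul_zero]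

/-- A maximal ideal of `B` of height at most `dim S/P`. -/
theorem exists_maximal_height_le {R B S L : Type u} [CommRing R] [CommRing B] [CommRing S] [CommRing L]
    [IsLocalRing R] [IsLocalRing S] [IsNoetherianRing B]
    [Algebra R B] [Module.Finite R B] [Algebra R S] [Algebra R L] [Module.Flat R S]
    (hS : (maximalIdeal S).comap (algebraMap R S) = maximalIdeal R)
    (g : S →ₐ[R] L) (χ : B ⊗[R] S →ₐ[R] L) (f : B ⊗[R] S) (hrange : ∀ u, ∃ w, χ u = g w)
    (hχr : ∀ w, χ ((1 : B) ⊗ₜ[R] w) = g w) (hχf : χ f = 1) (hfker : ∀ u, χ u = 0 → f * u = 0)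
    (P : Ideal S) (hP : P ≠ ⊤) (hgP : ∀ w, g w = 0 → w ∈ P)
    (hrad : ∀ Q : Ideal S, Q.IsPrime → (∀ w, g w = 0 → w ∈ Q) → P ≤ Q) :
    ∃ n : Ideal B, n.IsMaximal ∧ ((n.height : ℕ∞) : WithBot ℕ∞) ≤ ringKrullDim (S ⧸ P) := by
  let inc : S →+* B ⊗[R] S :=
    (Algebra.TensorProduct.includeRight : S →ₐ[R] B ⊗[R] S).toRingHom
  let π : S →+* (B ⊗[R] S) ⧸ RingHom.ker χ := (Ideal.Quotient.mk _).comp inc
  have hπsurj : Function.Surjective π := fun y => by
    obtain ⟨u, rfl⟩ := Ideal.Quotient.mk_surjective y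
    obtain ⟨w, hw⟩ := hrange u
    refine ⟨w, Ideal.Quotient.eq.2 ?_⟩
    rw [RingHom.mem_ker, map_sub, hw]
    exact sub_eq_zero.2 (hχr w)
  have hπker : RingHom.ker π ≤ maximalIdeal S := fun w hw => by
    refine le_maximalIdeal hP (hgP _ ?_)
    have h1 : χ (inc w) = 0 := Ideal.Quotient.eq_zero_iff_mem.1 hw
    exact (hχr w).symm.trans h1
  haveI hmaxQ : ((maximalIdeal S).map π).IsMaximal :=
    Ideal.IsMaximal.map_of_surjective_of_ker_le hπsurj hπker
  let M : Ideal (B ⊗[R] S) := ((maximalIdeal S).map π).comap (Ideal.Quotient.mk _)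
  haveI hM : M.IsMaximal := Ideal.comap_isMaximal_of_surjective _ Ideal.Quotient.mk_surjective
  have hfM : f ∉ M := fun hf => hmaxQ.ne_top ((Ideal.eq_top_iff_one _).2 (by
    have e : Ideal.Quotient.mk (RingHom.ker χ) f = 1 := by
      rw [← map_one (Ideal.Quotient.mk (RingHom.ker χ)), Ideal.Quotient.eq, RingHom.mem_ker, map_sub,
        hχf, map_one, sub_self]
    exact e ▸ hf))
  let nB : Ideal B := M.comap (algebraMap B (B ⊗[R] S))
  haveI : nB.IsPrime := Ideal.comap_isPrime _ _
  haveI : Algebra.IsIntegral R B := Algebra.IsIntegral.of_finite R B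
  haveI hnB : nB.IsMaximal := by
    refine Ideal.isMaximal_of_isIntegral_of_isMaximal_comap (R := R) nB ?_
    have e : nB.comap (algebraMap R B) = maximalIdeal R := by
      have e1 : ∀ d : R, algebraMap B (B ⊗[R] S) (algebraMap R B d) = inc (algebraMap R S d) := fun d => by
        show algebraMap R B d ⊗ₜ[R] (1 : S) = (1 : B) ⊗ₜ[R] algebraMap R S d
        rw [Algebra.algebraMap_eq_smul_one, TensorProduct.smul_tmul, ← Algebra.algebraMap_eq_smul_one]
      rw [← hS]
      ext d
      simp only [nB, M, Ideal.mem_comap, e1]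
      change π (algebraMap R S d) ∈ (maximalIdeal S).map π ↔ _
      rw [← Ideal.mem_comap, Ideal.comap_map_of_surjective π hπsurj, ← RingHom.ker_eq_comap_bot,
        sup_eq_left.2 hπker]
    rw [e]; infer_instance
  refine ⟨nB, hnB, ?_⟩
  obtain ⟨l, hl, hlen⟩ := nB.exists_ltSeries_length_eq_height
  haveI : M.LiesOver l.last.asIdeal := ⟨by rw [hl]⟩
  obtain ⟨Lc, hLlen, hLlast, -⟩ := Ideal.exists_ltSeries_of_hasGoingDown l M
  have hker : ∀ i, RingHom.ker χ ≤ (Lc i).asIdeal := fun i u hu => by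
    have hle : (Lc i).asIdeal ≤ M := by
      have h1 : Lc i ≤ Lc.last := Lc.monotone (Fin.le_last i)
      rw [hLlast] at h1
      exact h1
    exact ((Lc i).isPrime.mem_or_mem (show f * u ∈ (Lc i).asIdeal from hfker u hu ▸ zero_mem _)).resolve_left
      fun h => hfM (hle h)
  have hPle : ∀ i, P ≤ (Lc i).asIdeal.comap inc := fun i =>
    hrad _ ((Lc i).isPrime.comap inc) fun w hw => hker i ((hχr w).trans hw)
  have hmono : ∀ i i', i < i' → (Lc i).asIdeal.comap inc < (Lc i').asIdeal.comap inc := fun i i' h => by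
    have hlt : (Lc i).asIdeal < (Lc i').asIdeal := Lc.strictMono h
    refine lt_of_le_of_ne (Ideal.comap_mono hlt.le) fun heq => hlt.not_ge fun u hu => ?_
    obtain ⟨w, hw⟩ := hrange u
    have hd' : ∀ i0, u - inc w ∈ (Lc i0).asIdeal := fun i0 => hker i0 (by
      rw [RingHom.mem_ker, map_sub, hw]
      exact sub_eq_zero.2 (hχr w).symm)
    have hw2 : w ∈ (Lc i').asIdeal.comap inc := by
      rw [Ideal.mem_comap]
      simpa using sub_mem hu (hd' i')
    rw [← heq, Ideal.mem_comap] at hw2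
    simpa using add_mem (hd' i) hw2
  let L' : LTSeries (PrimeSpectrum.zeroLocus (P : Set S)) :=
    LTSeries.mk Lc.length (fun i => ⟨⟨_, (Lc i).isPrime.comap inc⟩, hPle i⟩) fun i i' h => hmono i i' h
  rw [← hlen, ← hLlen, ringKrullDim_quotient]
  exact Order.LTSeries.length_le_krullDim L'

/-- The map from `D[b/a]` to the branch. -/
theorem exists_branch_hom {R S L : Type u} [CommRing R] [IsDomain R] [CommRing S] [CommRing L] [Algebra R S]
    [Algebra R L] (B : Subalgebra R (FractionRing R)) (g : S →ₐ[R] L)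
    (hu : ∀ y : nonZeroDivisors R, IsUnit (algebraMap R L y)) {a b : R} (ha0 : a ≠ 0) {k t : S} {z : B}
    (haz : algebraMap R B a * z = algebraMap R B b) (hkb : k = algebraMap R S b + t * algebraMap R S a)
    (hga : algebraMap R L a = g k) : ∃ ψ : B →ₐ[R] L, ψ z = g (1 - t) := by
  let ψ : B →ₐ[R] L :=
    { (IsLocalization.lift (S := FractionRing R) (g := algebraMap R L) hu).comp B.val.toRingHom with
      commutes' := fun d => IsLocalization.lift_eq hu d }
  refine ⟨ψ, (hu ⟨a, mem_nonZeroDivisors_iff_ne_zero.2 ha0⟩).mul_left_cancel ?_⟩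
  have h1 : algebraMap R L a * ψ z = algebraMap R L b := by
    rw [← ψ.commutes a, ← map_mul, haz, ψ.commutes]
  rw [h1]
  rw [hkb, map_add, map_mul, AlgHom.commutes, AlgHom.commutes] at hga
  rw [map_sub, map_one]
  linear_combination -hga

/-- `b / a` is quadratic. -/
theorem exists_quadratic_relation {R S : Type u} [CommRing R] [CommRing S] [Algebra R S]
    [Module.FaithfullyFlat R S] {a b : R} {k t : S}
    (hkb : k = algebraMap R S b + t * algebraMap R S a) (hkk : k * k = algebraMap R S a * k) :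
    ∃ α β : R, α * (a * b) + β * (a * a) = b * b := by
  have hbb : b * b ∈ Ideal.span {a * b, a * a} := by
    rw [← Ideal.comap_map_eq_self_of_faithfullyFlat (B := S) (Ideal.span {a * b, a * a}), Ideal.mem_comap,
      Ideal.map_span, Set.image_pair, Ideal.mem_span_pair]
    refine ⟨1 - 2 * t, t - t * t, ?_⟩
    simp only [map_mul]
    rw [hkb] at hkk
    linear_combination -hkk
  exact Ideal.mem_span_pair.1 hbb

/-- A branch of dimension at most one forces `dim D ≤ 1`. -/
theorem dim_le_one (hA : CAlg.IsUniversallyCatenary D) {P : Ideal T} (hP : P ∈ minimalPrimes T)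
    (hdim : ringKrullDim (T ⧸ P) ≤ 1) : ringKrullDim D ≤ 1 := by
  by_contra hd
  haveI : IsNoetherianRing T := RegLoc.Completion.isNoetherianRing_adicCompletion' _
  haveI hPp : P.IsPrime := hP.1.1
  obtain ⟨a, b, k, t, ha0, hkb, hkk, hga, hann⟩ := exists_data hP hdim hd
  haveI : IsLocalHom (algebraMap D T) := ((IsLocalRing.local_hom_TFAE (algebraMap D T)).out 0 2).mpr
    (fibre_cpl_eq D).le
  haveI : Module.FaithfullyFlat D T := Module.FaithfullyFlat.of_flat_of_isLocalHom
  obtain ⟨α, β, hαβ⟩ := exists_quadratic_relation hkb hkk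
  obtain ⟨B, zB, hfin, hfs, hazB, hBpq⟩ := exists_quadratic ha0 hαβ
  haveI := hfin
  haveI := hfs
  let gA : T →ₐ[D] Localization.AtPrime P := IsScalarTower.toAlgHom D T (Localization.AtPrime P)
  have hu : ∀ y : nonZeroDivisors D, IsUnit (algebraMap D (Localization.AtPrime P) y) := fun y => by
    rw [IsScalarTower.algebraMap_apply D T (Localization.AtPrime P)]
    refine IsLocalization.map_units (Localization.AtPrime P) (⟨algebraMap D T y, fun h => ?_⟩ : P.primeCompl)
    have h' : (y : D) ∈ P.comap (algebraMap D T) := h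
    rw [comap_minimal hP] at h'
    exact nonZeroDivisors.coe_ne_zero y h'
  have hga' : algebraMap D (Localization.AtPrime P) a = gA k :=
    (IsScalarTower.algebraMap_apply D T (Localization.AtPrime P) a).trans hga
  obtain ⟨ψ, hψz⟩ := exists_branch_hom B gA hu ha0 hazB hkb hga'
  have hinj : Function.Injective fun x : B => algebraMap D B a * x :=
    mul_right_injective₀ ((map_ne_zero_iff _ (FaithfulSMul.algebraMap_injective D B)).2 ha0)
  obtain ⟨χ, f, hrange, hχr, hχf, hfker⟩ :=
    exists_branch ψ gA hBpq hinj hazB hkb hψz hann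
  haveI : IsNoetherianRing B := IsNoetherianRing.of_finite D B
  obtain ⟨nB, hnB, hle⟩ := exists_maximal_height_le comap_maximalIdeal_cpl gA χ f hrange hχr hχf hfker P
    hPp.ne_top (fun w hw => mem_of_map_eq_zero hw) (fun Q hQ h => le_of_ker_le hP Q h)
  haveI := hnB
  have hdimB := Groth.Agent.S4689.result D B hA nB
  rw [IsLocalization.AtPrime.ringKrullDim_eq_height nB] at hdimB
  exact hd (hdimB ▸ hle.trans hdim)

/-- The inductive step through a height one prime above `P`. -/
theorem dim_le_of_two_le (hA : CAlg.IsUniversallyCatenary D)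
    (IH : ∀ q : Ideal D, q.IsPrime → ∀ [Nontrivial (D ⧸ q)], q ≠ ⊥ → EGA4.IsFormallyEquidim (D ⧸ q))
    {P : Ideal T} (hP : P ∈ minimalPrimes T) (hdim : ¬ ringKrullDim (T ⧸ P) ≤ 1) :
    ringKrullDim D ≤ ringKrullDim (T ⧸ P) := by
  classical
  haveI : IsNoetherianRing T := RegLoc.Completion.isNoetherianRing_adicCompletion' _
  haveI hPp : P.IsPrime := hP.1.1
  haveI := hA.1
  have hcatT : CAlg.IsCatenary T := isCatenary_cpl D
  have hcatD : CAlg.IsCatenary D := hA.2 D inferInstance
  have heqD : EGA4.IsEquidim D := fun q hq => by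
    rw [IsDomain.minimalPrimes_eq_singleton_bot, Set.mem_singleton_iff] at hq
    subst hq
    exact ringKrullDim_eq_of_ringEquiv (RingEquiv.quotientBot _)
  let F : Set (Ideal T) := ⋃ P' ∈ (minimalPrimes T \ {P}), (P ⊔ P').minimalPrimes
  have hF : F.Finite :=
    Set.Finite.biUnion ((minimalPrimes.finite_of_isNoetherianRing T).sdiff)
      fun P' _ => Ideal.finite_minimalPrimes_of_isNoetherianRing T (P ⊔ P')
  let F' : Finset (Ideal T) := hF.toFinset.filter fun R => R ≠ maximalIdeal T
  let cF : Finset (Ideal D) := insert ⊥ (F'.image fun R => R.comap (algebraMap D T))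
  have hcF : ∀ r ∈ cF, r.IsPrime ∧ ¬ maximalIdeal D ≤ r := by
    intro r hr
    rcases Finset.mem_insert.1 hr with rfl | hr
    · refine ⟨Ideal.isPrime_bot, fun h => hdim ?_⟩
      have h1 : ringKrullDim (T ⧸ P) ≤ ringKrullDim T :=
        ringKrullDim_le_of_surjective _ Ideal.Quotient.mk_surjective
      rw [Dim.ringKrullDim_eq_add_fibre D T, fibre_cpl_dim, add_zero,
        ringKrullDim_eq_zero_of_isField ((IsLocalRing.isField_iff_maximalIdeal_eq).2 (le_bot_iff.1 h))] at h1
      exact h1.trans zero_le_one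
    · obtain ⟨R, hR, rfl⟩ := Finset.mem_image.1 hr
      obtain ⟨hRF, hRne⟩ := Finset.mem_filter.1 hR
      rw [Set.Finite.mem_toFinset] at hRF
      simp only [F, Set.mem_iUnion] at hRF
      obtain ⟨P', -, hR'⟩ := hRF
      haveI := hR'.1.1
      refine ⟨inferInstance, fun h => hRne ?_⟩
      refine le_antisymm (le_maximalIdeal hR'.1.1.ne_top) ?_
      rw [← fibre_cpl_eq D, Ideal.map_le_iff_le_comap]
      exact h
  obtain ⟨x, hxm, hxF⟩ : ∃ x ∈ maximalIdeal D, ∀ r ∈ cF, x ∉ r := by
    by_contra hcon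
    push Not at hcon
    have hsub : (maximalIdeal D : Set D) ⊆ ⋃ r ∈ (↑cF : Set (Ideal D)), (r : Set D) := fun y hy => by
      obtain ⟨r, hr, hyr⟩ := hcon y hy
      exact Set.mem_biUnion hr hyr
    obtain ⟨r, hr, hle⟩ := (Ideal.subset_union_prime (f := id) ⊥ ⊥ fun r hr _ _ => (hcF r hr).1).1 hsub
    exact (hcF r hr).2 hle
  have hx0 : x ≠ 0 := fun h => hxF ⊥ (Finset.mem_insert_self _ _) ((Submodule.mem_bot D).2 h)
  let x' := algebraMap D T x
  have hxP : x' ∉ P := fun h => hx0 (by
    have h' : x ∈ P.comap (algebraMap D T) := h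
    rwa [comap_minimal hP] at h')
  obtain ⟨Q, hQp, hxQ, hPQ, hQmin⟩ := exists_prime_succ (t := x')
    (fibre_cpl_eq D ▸ Ideal.mem_map_of_mem _ hxm) P hxP
  haveI := hQp
  have hcov := covBy_of_minimal hPQ hxP hxQ hQmin
  have hQm : Q ≠ maximalIdeal T := by
    rintro rfl
    refine hdim ?_
    rw [ringKrullDim_quotient]
    refine iSup_le fun l => ?_
    by_contra hl
    have hl2 : 2 ≤ l.length := by
      by_contra hlt
      exact hl (by exact_mod_cast (by omega : l.length ≤ 1))
    have h01 : l ⟨0, by omega⟩ < l ⟨1, by omega⟩ := l.strictMono (by simp [Fin.lt_def])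
    have h12 : l ⟨1, by omega⟩ < l ⟨2, by omega⟩ := l.strictMono (by simp [Fin.lt_def])
    have hlt : P < (l ⟨1, by omega⟩).1.asIdeal :=
      lt_of_le_of_lt (show P ≤ (l ⟨0, by omega⟩).1.asIdeal from (l ⟨0, by omega⟩).2) h01
    have := hcov _ (l ⟨1, by omega⟩).1.isPrime hlt (le_maximalIdeal (l ⟨1, by omega⟩).1.isPrime.ne_top)
    have h12' : (l ⟨1, by omega⟩).1.asIdeal < (l ⟨2, by omega⟩).1.asIdeal := h12
    rw [this] at h12'
    exact h12'.not_ge (le_maximalIdeal (l ⟨2, by omega⟩).1.isPrime.ne_top)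
  have hQF : Q ∉ F := fun h => by
    have hmem : Q.comap (algebraMap D T) ∈ cF :=
      Finset.mem_insert_of_mem (Finset.mem_image.2 ⟨Q, Finset.mem_filter.2
        ⟨hF.mem_toFinset.2 h, hQm⟩, rfl⟩)
    exact hxF _ hmem hxQ
  have honly : ∀ P' ∈ minimalPrimes T, P' ≤ Q → P' = P := fun P' hP' hle => by
    by_contra hne
    refine hQF ?_
    simp only [F, Set.mem_iUnion]
    refine ⟨P', ⟨hP', hne⟩, ⟨hQp, sup_le hPQ.le hle⟩, fun R hR hRQ => ?_⟩
    have hPR : P < R := lt_of_le_of_ne (le_sup_left.trans hR.2) fun h => hne (by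
      have h' : P' ≤ P := (le_sup_right.trans hR.2).trans h.ge
      exact le_antisymm h' (hP.2 hP'.1 h'))
    exact (hcov R hR.1 hPR hRQ).ge
  have hQ1 : Q.height = 1 := by
    obtain ⟨c, hc1, hc2, hc3, hc4⟩ := exists_saturated_to (A := T) ⟨Q, hQp⟩
    have hh : c.head = (⟨P, hPp⟩ : PrimeSpectrum T) := by
      refine PrimeSpectrum.ext (honly _ hc1 ?_)
      have h1 : c.head ≤ c.last := c.head_le_last
      rw [hc2] at h1
      exact h1
    let c1 : LTSeries (PrimeSpectrum T) :=
      (RelSeries.singleton _ (⟨P, hPp⟩ : PrimeSpectrum T)).snoc ⟨Q, hQp⟩ (show (⟨P, hPp⟩ : PrimeSpectrum T) < ⟨Q, hQp⟩ from hPQ)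
    have hcov' : (⟨P, hPp⟩ : PrimeSpectrum T) ⋖ ⟨Q, hQp⟩ :=
      ⟨hPQ, fun r h1 h2 => h2.ne (PrimeSpectrum.ext (hcov r.asIdeal r.isPrime h1 h2.le))⟩
    have hc1s : PtTop.Catenary.Saturated c1 := saturated_snoc _ _ _ (fun i => i.elim0) hcov'
    have hlen := hcatT.2 c c1 (hh.trans rfl) (hc2.trans (RelSeries.last_snoc _ _ _).symm) hc4 hc1s
    have h1 : c1.length = 1 := rfl
    rw [← hc3, hlen, h1, Nat.cast_one]
  let q := Q.comap (algebraMap D T)
  haveI hqp : q.IsPrime := Ideal.comap_isPrime _ _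
  have hq0 : q ≠ ⊥ := fun h => hx0 ((Submodule.mem_bot D).1 (h ▸ (hxQ : x ∈ q)))
  have hQqmin : Q ∈ (q.map (algebraMap D T)).minimalPrimes := by
    refine ⟨⟨hQp, Ideal.map_le_iff_le_comap.2 le_rfl⟩, fun R hR hRQ => ?_⟩
    by_contra hne
    haveI := hR.1
    have hlt : R < Q := lt_of_le_not_ge hRQ hne
    have hR0 : R.height = 0 := by
      have := (Ideal.height_strict_mono_of_isPrime hlt).trans_le hQ1.le
      exact Order.lt_one_iff.1 this
    have h1 : q ≤ R.comap (algebraMap D T) := Ideal.map_le_iff_le_comap.1 hR.2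
    rw [comap_minimal (Ideal.height_eq_zero_iff.1 hR0), le_bot_iff] at h1
    exact hq0 h1
  haveI : Nontrivial (D ⧸ q) := Ideal.Quotient.nontrivial_iff.2 hqp.ne_top
  obtain ⟨e⟩ := Hensel.nonempty_quotient_completion_equiv D q
  have hTq := isEquidim_of_ringEquiv e (IH q hqp hq0)
  rw [Hensel.isEquidim_iff_of_surjective (Ideal.Quotient.mk _) Ideal.Quotient.mk_surjective,
    Ideal.mk_ker] at hTq
  have h1 := hTq Q hQqmin
  rw [ringKrullDim_quotient_map q hqp.ne_top, fibre_cpl_dim, add_zero] at h1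
  have h2 := height_add_ringKrullDim_quotient hcatD heqD q
  rw [← height_eq_of_mem_minimalPrimes_map q hQqmin, hQ1, ← h1, WithBot.coe_one] at h2
  rw [← h2]
  -- `1 + dim T/Q ≤ dim T/P`
  have hnzd : Ideal.Quotient.mk P x' ∈ nonZeroDivisors (T ⧸ P) :=
    mem_nonZeroDivisors_iff_ne_zero.2 fun h => hxP (Ideal.Quotient.eq_zero_iff_mem.1 h)
  refine le_trans ?_ (ringKrullDim_quotient_succ_le_of_nonZeroDivisor hnzd)
  rw [add_comm (1 : WithBot ℕ∞)]
  refine add_le_add ?_ le_rfl
  refine ringKrullDim_le_of_surjective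
    (Ideal.Quotient.lift _ (Ideal.Quotient.factor hPQ.le) fun y hy => ?_)
    (Ideal.Quotient.lift_surjective_of_surjective _ _ (Ideal.Quotient.factor_surjective hPQ.le))
  obtain ⟨c, rfl⟩ := Ideal.mem_span_singleton'.1 hy
  rw [map_mul, Ideal.Quotient.factor_mk, Ideal.Quotient.eq_zero_iff_mem.2 hxQ, mul_zero]

end Ratliff

/-- EGA IV 7.1.11: universally catenary local domains are formally equidimensional. -/
theorem isFormallyEquidim_of_isUniversallyCatenary : ∀ (n : ℕ) (D : Type u) [CommRing D] [IsDomain D]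
    [IsLocalRing D] [IsNoetherianRing D], CAlg.IsUniversallyCatenary D → ringKrullDim D = n →
    EGA4.IsFormallyEquidim D := by
  intro n
  induction n using Nat.strong_induction_on with
  | _ n ih =>
  intro D _ _ _ _ hA hn P hP
  let T := AdicCompletion (maximalIdeal D) D
  haveI : IsNoetherianRing T := RegLoc.Completion.isNoetherianRing_adicCompletion' _
  haveI : P.IsPrime := hP.1.1
  have hTdim : ringKrullDim T = ringKrullDim D := by
    rw [Dim.ringKrullDim_eq_add_fibre D T, fibre_cpl_dim, add_zero]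
  refine le_antisymm (ringKrullDim_le_of_surjective _ Ideal.Quotient.mk_surjective) ?_
  rw [hTdim]
  by_cases hd : ringKrullDim (T ⧸ P) ≤ 1
  · have h1 := Ratliff.dim_le_one hA hP hd
    rw [hn] at h1 ⊢
    have hn1 : n ≤ 1 := by exact_mod_cast h1
    rcases Nat.le_one_iff_eq_zero_or_eq_one.1 hn1 with rfl | rfl
    · haveI : Nontrivial (T ⧸ P) := Ideal.Quotient.nontrivial_iff.2 hP.1.1.ne_top
      exact ringKrullDim_nonneg_of_nontrivial
    · have hne : P ≠ maximalIdeal T := fun h => by
        have h0 := hTdim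
        rw [← IsLocalRing.maximalIdeal_height_eq_ringKrullDim, ← h, Ideal.height_eq_zero_iff.2 hP, hn] at h0
        exact absurd h0 (by decide)
      have hlt : P < maximalIdeal T := lt_of_le_of_ne (le_maximalIdeal hP.1.1.ne_top) hne
      let a0 : PrimeSpectrum.zeroLocus (P : Set T) := ⟨⟨P, hP.1.1⟩, (PrimeSpectrum.mem_zeroLocus _ _).2 subset_rfl⟩
      let a1 : PrimeSpectrum.zeroLocus (P : Set T) := ⟨closedPoint T, hlt.le⟩
      let l : LTSeries (PrimeSpectrum.zeroLocus (P : Set T)) :=
        (RelSeries.singleton _ a0).snoc a1 (show a0 < a1 from hlt)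
      rw [ringKrullDim_quotient]
      exact Order.LTSeries.length_le_krullDim l
  · refine Ratliff.dim_le_of_two_le hA (fun q _ _ hq0 => ?_) hP hd
    obtain ⟨m, hm, hmn⟩ : ∃ m : ℕ, ringKrullDim (D ⧸ q) = m ∧ m < n := by
      obtain ⟨m, hm⟩ := exists_nat_ringKrullDim_quotient q (Ideal.IsPrime.ne_top ‹_›)
      refine ⟨m, hm, ?_⟩
      obtain ⟨y, hyq, hy⟩ := Submodule.exists_mem_ne_zero_of_ne_bot hq0
      have h1 := ringKrullDim_quotient_succ_le_of_nonZeroDivisor (mem_nonZeroDivisors_iff_ne_zero.2 hy)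
      have h2 : ringKrullDim (D ⧸ q) ≤ ringKrullDim (D ⧸ Ideal.span {y}) :=
        ringKrullDim_le_of_surjective (Ideal.Quotient.factor ((Ideal.span_singleton_le_iff_mem _).2 hyq))
          (Ideal.Quotient.factor_surjective _)
      have h3 : ((m : WithBot ℕ∞)) + 1 ≤ (n : WithBot ℕ∞) := by
        rw [← hm, ← hn]; exact (add_le_add h2 le_rfl).trans h1
      exact_mod_cast h3
    exact ih m hmn (D ⧸ q) (isUniversallyCatenary_of_surjective _ Ideal.Quotient.mk_surjective hA) hm

theorem isFormallyCatenary_of_isUniversallyCatenary (A : Type u) [CommRing A] [IsLocalRing A]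
    [IsNoetherianRing A] (hA : CAlg.IsUniversallyCatenary A) : EGA4.IsFormallyCatenary A := by
  intro p _
  obtain ⟨n, hn⟩ := exists_nat_ringKrullDim_quotient p (Ideal.IsPrime.ne_top ‹_›)
  exact isFormallyEquidim_of_isUniversallyCatenary n (A ⧸ p)
    (isUniversallyCatenary_of_surjective _ Ideal.Quotient.mk_surjective hA) hn

end Groth.Agent.EGA4Lib
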