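import Groth.Agent.ZClosLib.HullModule
import Groth.Agent.ZClosLib.HeightOneHull
import Groth.Agent.EGA4Lib.Ratliff
import Groth.Agent.S0568

/-!
# Finiteness of the height one hull and the completion (EGA IV 7.2.3)
-/

set_option autoImplicit false
set_option linter.style.haveILetI false

open IsLocalRing

namespace Groth.Agent.EGA4Lib

universe u

/-- The height one hull as a subalgebra. -/
def hullSubalgebra (D : Type u) [CommRing D] [IsDomain D] : Subalgebra D (FractionRing D) where
  carrier := EGA4.heightOneHull D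
  mul_mem' := fun {x y} hx hy h hh hh1 => by
    obtain ⟨s, hs, a, ha⟩ := hx h hh1
    obtain ⟨t, ht, b, hb⟩ := hy h hh1
    exact ⟨s * t, fun h' => (hh.mem_or_mem h').elim hs ht, a * b, by
      rw [map_mul, map_mul, ha, hb]; ring⟩
  add_mem' := fun {x y} hx hy h hh hh1 => by
    obtain ⟨s, hs, a, ha⟩ := hx h hh1
    obtain ⟨t, ht, b, hb⟩ := hy h hh1
    exact ⟨s * t, fun h' => (hh.mem_or_mem h').elim hs ht, a * t + b * s, by
      rw [map_add, map_mul, map_mul, map_mul, ha, hb]; ring⟩
  algebraMap_mem' := fun r h hh _ =>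
    ⟨1, fun h' => hh.ne_top ((Ideal.eq_top_iff_one _).2 h'), r, by rw [map_one, one_mul]⟩

theorem heightOneHullFinite_iff_finite (D : Type u) [CommRing D] [IsDomain D] :
    EGA4.HeightOneHullFinite D ↔ Module.Finite D (hullSubalgebra D) := by
  refine ⟨fun ⟨B, hB, hfin⟩ => ?_, fun h => ⟨_, rfl, h⟩⟩
  have e : B = hullSubalgebra D := SetLike.coe_injective hB
  exact e ▸ hfin

/-- A bounded denominator for the height one hull. -/
def HullBdd (D : Type u) [CommRing D] : Prop :=
  ∃ b : D, b ≠ 0 ∧ ∀ a c : D, a ≠ 0 →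
    (∀ h : Ideal D, h.IsPrime → h.height = 1 → ∃ s, s ∉ h ∧ s * c ∈ Ideal.span {a}) →
      b * c ∈ Ideal.span {a}

theorem hullBdd_of_heightOneHullFinite {D : Type u} [CommRing D] [IsDomain D]
    (hfin : EGA4.HeightOneHullFinite D) : HullBdd D := by
  classical
  obtain ⟨G, hG⟩ := ((heightOneHullFinite_iff_finite D).1 hfin).fg_top
  let K := FractionRing D
  obtain ⟨⟨b, hb⟩, hbi⟩ := IsLocalization.exist_integer_multiples_of_finset (nonZeroDivisors D)
    (G.image fun g : hullSubalgebra D => (g : K))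
  have hall : ∀ g : hullSubalgebra D, ∃ e, algebraMap D K e = algebraMap D K b * (g : K) := fun g => by
    have hg : g ∈ Submodule.span D (G : Set (hullSubalgebra D)) := hG ▸ Submodule.mem_top
    induction hg using Submodule.span_induction with
    | mem x hx =>
      obtain ⟨e, he⟩ := hbi (x : K) (Finset.mem_image_of_mem _ hx)
      exact ⟨e, by rw [he, Algebra.smul_def]⟩
    | zero => exact ⟨0, by simp⟩
    | add x y _ _ hx hy =>
      obtain ⟨e, he⟩ := hx
      obtain ⟨e', he'⟩ := hy
      exact ⟨e + e', by rw [map_add, he, he', Subalgebra.coe_add, mul_add]⟩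
    | smul r x _ hx =>
      obtain ⟨e, he⟩ := hx
      exact ⟨r * e, by rw [map_mul, he, SetLike.val_smul, Algebra.smul_def]; ring⟩
  refine ⟨b, nonZeroDivisors.ne_zero hb, fun a c ha h => ?_⟩
  have hak : algebraMap D K a ≠ 0 := fun h0 => ha (IsFractionRing.injective D K (h0.trans (map_zero _).symm))
  have hmem : algebraMap D K c / algebraMap D K a ∈ hullSubalgebra D := fun p hp hp1 => by
    obtain ⟨s, hs, hsc⟩ := h p hp hp1
    obtain ⟨d, hd⟩ := Ideal.mem_span_singleton'.1 hsc
    refine ⟨s, hs, d, ?_⟩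
    rw [← mul_div_assoc, eq_div_iff hak, ← map_mul, ← map_mul, hd]
  obtain ⟨e, he⟩ := hall ⟨_, hmem⟩
  refine Ideal.mem_span_singleton'.2 ⟨e, IsFractionRing.injective D K ?_⟩
  rw [map_mul, map_mul, he]
  exact (mul_assoc _ _ _).trans (congrArg _ (div_mul_cancel₀ _ hak))

theorem hullBdd_of_ringEquiv {D E : Type u} [CommRing D] [CommRing E] (e : D ≃+* E) (hD : HullBdd D) :
    HullBdd E := by
  obtain ⟨b, hb, h⟩ := hD
  refine ⟨e b, fun h0 => hb (e.injective (h0.trans (map_zero _).symm)), fun a c ha hc => ?_⟩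
  obtain ⟨a, rfl⟩ := e.surjective a
  obtain ⟨c, rfl⟩ := e.surjective c
  have key : ∀ x, e x ∈ Ideal.span {e a} ↔ x ∈ Ideal.span {a} := fun x => by
    simp only [Ideal.mem_span_singleton, map_dvd_iff]
  rw [← map_mul, key]
  refine h a c (fun h0 => ha (by rw [h0, map_zero])) fun p hp hp1 => ?_
  haveI := hp
  obtain ⟨s, hs, hsc⟩ := hc (p.comap e.symm) (Ideal.comap_isPrime _ _)
    ((RingEquiv.height_comap e.symm p).trans hp1)
  obtain ⟨s, rfl⟩ := e.surjective s
  refine ⟨s, fun h' => hs ?_, (key _).1 (by rwa [map_mul])⟩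
  rw [Ideal.mem_comap, e.symm_apply_apply]
  exact h'

theorem hullBdd_quotient_of_surjective {A D : Type u} [CommRing A] [CommRing D] (π : A →+* D)
    (hπ : Function.Surjective π) (h : ∀ (p : Ideal A) [p.IsPrime], HullBdd (A ⧸ p)) (r : Ideal D)
    [r.IsPrime] : HullBdd (D ⧸ r) :=
  hullBdd_of_ringEquiv
    ((Ideal.quotEquivOfEq (by rw [← RingHom.comap_ker, Ideal.mk_ker])).trans
      (RingHom.quotientKerEquivOfSurjective (f := (Ideal.Quotient.mk r).comp π)
        (Ideal.Quotient.mk_surjective.comp hπ))) (h (r.comap π))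

section flat

variable {D T : Type u} [CommRing D] [IsDomain D] [IsNoetherianRing D] [CommRing T] [IsNoetherianRing T]
  [Algebra D T] [Module.Flat D T]

omit [IsNoetherianRing D] in
theorem comap_eq_bot_of_associatedPrime {P : Ideal T} (hP : P ∈ associatedPrimes T T) :
    P.comap (algebraMap D T) = ⊥ := by
  refine (Submodule.eq_bot_iff _).2 fun x hx => ?_
  by_contra hx0
  have hreg : IsSMulRegular T x :=
    Module.Flat.isSMulRegular_of_nonZeroDivisors (mem_nonZeroDivisors_of_ne_zero hx0)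
  have hreg' : IsSMulRegular T (algebraMap D T x) := fun a b hab => hreg (by
    simpa [Algebra.smul_def] using hab)
  have : algebraMap D T x ∈ {r : T | IsSMulRegular T r}ᶜ := by
    rw [← biUnion_associatedPrimes_eq_compl_regular]
    exact Set.mem_biUnion hP hx
  exact this hreg'

omit [IsDomain D] [IsNoetherianRing T] in
/-- `(J T : I) = (J : I) T` for a flat algebra. -/
theorem exists_mem_map_colon {I J : Ideal D} (w : T)
    (h : ∀ x ∈ I, algebraMap D T x * w ∈ J.map (algebraMap D T)) :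
    ∃ C : Ideal D, (∀ c ∈ C, ∀ x ∈ I, x * c ∈ J) ∧ w ∈ C.map (algebraMap D T) := by
  classical
  obtain ⟨S, hS⟩ := IsNoetherian.noetherian I
  refine ⟨S.inf fun x => J.colon {x}, fun c hc => ?_, ?_⟩
  · have hle : I ≤ J.colon {c} := by
      rw [← hS]
      refine Submodule.span_le.2 fun x hx => ?_
      have h1 : c ∈ J.colon {x} := (Finset.inf_le hx : S.inf (fun x => J.colon {x}) ≤ _) hc
      rw [Submodule.mem_colon_singleton, smul_eq_mul, mul_comm] at h1
      exact Submodule.mem_colon_singleton.2 h1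
    exact fun x hx => Submodule.mem_colon_singleton.1 (hle hx)
  · have : ∀ S' : Finset D, (∀ x ∈ S', w ∈ (J.colon {x}).map (algebraMap D T)) →
        w ∈ (S'.inf fun x => J.colon {x}).map (algebraMap D T) := by
      intro S'
      induction S' using Finset.induction with
      | empty => intro _; rw [Finset.inf_empty, Ideal.map_top]; trivial
      | insert x S'' _ ih =>
        intro h
        rw [Finset.inf_insert, map_inf_of_flat]
        exact ⟨h x (Finset.mem_insert_self _ _), ih fun v hv => h v (Finset.mem_insert_of_mem hv)⟩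
    exact this S fun x hx => FlatFibres.mem_map_colon J x w (h x (hS ▸ Submodule.subset_span hx))

/-- Bounded closures at `q`: the condition on the associated primes of a flat algebra. -/
theorem two_le_height_of_bdd
    {p' : Ideal T} (hp' : p' ∈ associatedPrimes T T) (Q' : Ideal T) [Q'.IsPrime] (hle : p' ≤ Q')
    (hq : (2 : ℕ∞) ≤ (Q'.comap (algebraMap D T)).height)
    (hfin : ∃ b : D, b ≠ 0 ∧ ∀ a c : D, a ≠ 0 →
      (∃ M : ℕ, ∀ x ∈ Q'.comap (algebraMap D T) ^ M, x * c ∈ Ideal.span {a}) →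
        ∃ s, s ∉ Q'.comap (algebraMap D T) ∧ s * (b * c) ∈ Ideal.span {a}) :
    (2 : ℕ∞) ≤ (Q'.map (Ideal.Quotient.mk p')).height := by
  classical
  by_contra hlt
  obtain ⟨hp'p, w, hw⟩ := isAssociatedPrime_iff.1 hp'
  haveI := hp'p
  have hwmem : ∀ x, x ∈ p' ↔ x * w = 0 := fun x => by
    rw [hw, Submodule.mem_colon_singleton, Submodule.mem_bot, smul_eq_mul]
  let q := Q'.comap (algebraMap D T)
  have hq0 : q ≠ ⊥ := fun h => by
    have h2 : (2 : ℕ∞) ≤ q.height := hq
    rw [h, Ideal.height_bot] at h2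
    simp at h2
  obtain ⟨a, haq, ha0⟩ := Submodule.exists_mem_ne_zero_of_ne_bot hq0
  set a' := algebraMap D T a with ha'
  have hap : a' ∉ p' := fun h => ha0 (by
    have h' : a ∈ p'.comap (algebraMap D T) := h
    rwa [comap_eq_bot_of_associatedPrime hp'] at h')
  obtain ⟨b, hb0, hb⟩ := hfin
  have hmin : ∀ (N : ℕ) (R : Ideal T), R.IsPrime → p' ⊔ Ideal.span {a' ^ N} ≤ R → R ≤ Q' → R = Q' := by
    intro N R hR hJR hRQ
    by_contra hne
    have hlt' : R < Q' := lt_of_le_of_ne hRQ hne
    have hpR : p' ≤ R := le_sup_left.trans hJR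
    have haR : a' ∈ R := hR.mem_of_pow_mem N (hJR (Ideal.mem_sup_right (Ideal.mem_span_singleton_self _)))
    haveI := hR
    have hker : ∀ {I : Ideal T}, p' ≤ I → RingHom.ker (Ideal.Quotient.mk p') ≤ I := fun h => by rwa [Ideal.mk_ker]
    haveI : (R.map (Ideal.Quotient.mk p')).IsPrime :=
      Ideal.map_isPrime_of_surjective Ideal.Quotient.mk_surjective (hker hpR)
    have hc : ∀ {I : Ideal T}, p' ≤ I → (I.map (Ideal.Quotient.mk p')).comap (Ideal.Quotient.mk p') = I := fun h => by
      rw [Ideal.comap_map_of_surjective _ Ideal.Quotient.mk_surjective, ← RingHom.ker_eq_comap_bot,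
        sup_eq_left.2 (hker h)]
    have hst : R.map (Ideal.Quotient.mk p') < Q'.map (Ideal.Quotient.mk p') :=
      lt_of_le_of_ne (Ideal.map_mono hRQ) fun h => hne (by rw [← hc hpR, h, hc hle])
    have h0 : (R.map (Ideal.Quotient.mk p')).height = 0 := by
      have h1 := (Ideal.height_strict_mono_of_isPrime hst).trans_le
        ((ENat.lt_add_one_iff ENat.one_ne_top).1 (show (Q'.map (Ideal.Quotient.mk p')).height < 1 + 1 by
          rw [one_add_one_eq_two]; exact not_le.1 hlt))
      exact Order.lt_one_iff.1 h1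
    rw [Ideal.height_eq_zero_iff_eq_bot] at h0
    refine hap ?_
    rw [← Ideal.Quotient.eq_zero_iff_mem, ← Submodule.mem_bot (T ⧸ p'), ← h0]
    exact Ideal.mem_map_of_mem _ haR
  have key : ∀ N : ℕ, ∃ s : T, s ∉ Q' ∧ algebraMap D T b * (s * w) ∈ Ideal.span {a' ^ N} := by
    intro N
    let J := p' ⊔ Ideal.span {a' ^ N}
    have hrad : ∀ x ∈ q, ∃ s : T, s ∉ Q' ∧ ∃ m : ℕ, s * algebraMap D T x ^ m ∈ J := by
      intro x hx
      by_contra hcon
      push Not at hcon
      let M : Submonoid T :=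
        { carrier := {y | ∃ s, s ∉ Q' ∧ ∃ m : ℕ, y = s * algebraMap D T x ^ m}
          one_mem' := ⟨1, fun h => Ideal.IsPrime.ne_top ‹_› ((Ideal.eq_top_iff_one _).2 h), 0, by simp⟩
          mul_mem' := by
            rintro _ _ ⟨s, hs, m, rfl⟩ ⟨s', hs', m', rfl⟩
            exact ⟨s * s', fun h => (Ideal.IsPrime.mem_or_mem ‹_› h).elim hs hs', m + m', by ring⟩ }
      obtain ⟨R, hR, hJR, hdisj⟩ := Ideal.exists_le_prime_disjoint J M
        (Set.disjoint_left.2 fun y hy hyM => by
          obtain ⟨s, hs, m, rfl⟩ := hyM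
          exact hcon s hs m hy)
      have hRQ : R ≤ Q' := fun y hy => by
        by_contra hyQ
        exact Set.disjoint_left.1 hdisj hy ⟨y, hyQ, 0, by simp⟩
      rw [hmin N R hR hJR hRQ] at hdisj
      exact Set.disjoint_left.1 hdisj (show algebraMap D T x ∈ Q' from hx)
        ⟨1, fun h => Ideal.IsPrime.ne_top ‹_› ((Ideal.eq_top_iff_one _).2 h), 1, by simp⟩
    obtain ⟨G, hG⟩ := IsNoetherian.noetherian q
    have hrad' : ∀ x : G, ∃ s : T, s ∉ Q' ∧ ∃ m : ℕ, s * algebraMap D T x ^ m ∈ J := fun x =>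
      hrad x (hG ▸ Submodule.subset_span x.2)
    choose s hs m hm using hrad'
    let s0 := ∏ x : G, s x
    have hs0 : s0 ∉ Q' := fun h => by
      obtain ⟨y, -, hy⟩ := (Ideal.IsPrime.prod_mem_iff (p := Q')).1 h
      exact hs y hy
    have hle' : q ≤ ((J.colon {s0}).comap (algebraMap D T)).radical := by
      rw [← hG]
      refine Submodule.span_le.2 fun x hx => ⟨m ⟨x, hx⟩, ?_⟩
      rw [Ideal.mem_comap, map_pow, Submodule.mem_colon_singleton, smul_eq_mul]
      show algebraMap D T x ^ m ⟨x, hx⟩ * s0 ∈ J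
      rw [show s0 = (∏ y ∈ Finset.univ.erase ⟨x, hx⟩, s y) * s ⟨x, hx⟩ from
        (Finset.prod_erase_mul _ _ (Finset.mem_univ _)).symm, mul_left_comm, mul_comm (algebraMap D T x ^ _)]
      exact Ideal.mul_mem_left _ _ (hm ⟨x, hx⟩)
    obtain ⟨M, hM⟩ := Ideal.exists_pow_le_of_le_radical_of_fg hle' (IsNoetherian.noetherian q)
    have hcol : ∀ x ∈ q ^ M, algebraMap D T x * (s0 * w) ∈ (Ideal.span {a ^ N}).map (algebraMap D T) := by
      intro x hx
      have h1 := Submodule.mem_colon_singleton.1 (hM hx)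
      rw [smul_eq_mul] at h1
      obtain ⟨π, hπ, y, hy, hsum⟩ := Submodule.mem_sup.1 h1
      obtain ⟨t, rfl⟩ := Ideal.mem_span_singleton'.1 hy
      rw [← mul_assoc, ← hsum, add_mul, (hwmem π).1 hπ, zero_add, Ideal.map_span, Set.image_singleton,
        map_pow, ← ha']
      exact Ideal.mul_mem_right _ _ (Ideal.mul_mem_left _ _ (Ideal.mem_span_singleton_self _))
    obtain ⟨C, hC, hwC⟩ := exists_mem_map_colon (s0 * w) hcol
    obtain ⟨GC, hGC⟩ := IsNoetherian.noetherian C
    choose sc hsc hscb using fun c : GC => hb _ (c : D) (pow_ne_zero N ha0)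
      ⟨M, hC c (hGC ▸ Submodule.subset_span c.2)⟩
    let s1 := ∏ c : GC, sc c
    have hs1 : s1 ∉ q := fun h => by
      obtain ⟨y, -, hy⟩ := (Ideal.IsPrime.prod_mem_iff (p := q)).1 h
      exact hsc y hy
    refine ⟨algebraMap D T s1 * s0, fun h => (Ideal.IsPrime.mem_or_mem ‹_› h).elim hs1 hs0, ?_⟩
    have hbC : (Ideal.span {s1 * b} * C).map (algebraMap D T) ≤ Ideal.span {a' ^ N} := by
      have hsp : Ideal.span {a' ^ N} = (Ideal.span {a ^ N}).map (algebraMap D T) := by
        rw [Ideal.map_span, Set.image_singleton, map_pow]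
      rw [hsp]
      refine Ideal.map_mono ?_
      rw [← hGC, Ideal.submodule_span_eq, Ideal.span_mul_span', Ideal.span_le]
      rintro _ ⟨_, rfl, c, hc, rfl⟩
      show s1 * b * c ∈ _
      rw [show s1 * b * c = (∏ y ∈ Finset.univ.erase ⟨c, hc⟩, sc y) * (sc ⟨c, hc⟩ * (b * c)) by
        rw [← mul_assoc, Finset.prod_erase_mul _ _ (Finset.mem_univ _), mul_assoc]]
      exact Ideal.mul_mem_left _ _ (hscb ⟨c, hc⟩)
    refine hbC ?_
    rw [Ideal.map_mul, Ideal.map_span, Set.image_singleton,
      show algebraMap D T b * (algebraMap D T s1 * s0 * w) = algebraMap D T (s1 * b) * (s0 * w) by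
        rw [map_mul]; ring]
    exact Ideal.mul_mem_mul (Ideal.mem_span_singleton_self _) hwC
  -- Krull intersection in the local ring at `Q'`
  let L := Localization.AtPrime Q'
  haveI : IsNoetherianRing L := IsLocalization.isNoetherianRing Q'.primeCompl L inferInstance
  have hbot : algebraMap T L (algebraMap D T b * w) = 0 := by
    have hne : Ideal.span {algebraMap T L a'} ≠ ⊤ := by
      refine ne_top_of_le_ne_top (maximalIdeal.isMaximal L).ne_top ((Ideal.span_singleton_le_iff_mem _).2 ?_)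
      exact (IsLocalization.AtPrime.to_map_mem_maximal_iff L Q' a').2 haq
    have hmem : ∀ N : ℕ, algebraMap T L (algebraMap D T b * w) ∈ Ideal.span {algebraMap T L a'} ^ N := by
      intro N
      obtain ⟨s, hs, hsN⟩ := key N
      have h1 := Ideal.mem_map_of_mem (algebraMap T L) hsN
      rw [Ideal.map_span, Set.image_singleton, map_pow, mul_left_comm, map_mul] at h1
      rw [Ideal.span_singleton_pow]
      exact (Ideal.unit_mul_mem_iff_mem _ (IsLocalization.map_units L (⟨s, hs⟩ : Q'.primeCompl))).1 h1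
    have h2 := Ideal.mem_iInf.2 hmem
    rwa [Ideal.iInf_pow_eq_bot_of_isLocalRing _ hne, Ideal.mem_bot] at h2
  obtain ⟨⟨s, hs⟩, hs0⟩ := (IsLocalization.map_eq_zero_iff Q'.primeCompl L _).1 hbot
  have h3 : (s * algebraMap D T b) * w = 0 := by rw [mul_assoc]; exact hs0
  rcases hp'p.mem_or_mem ((hwmem _).2 h3) with h' | h'
  · exact hs (hle h')
  · refine hb0 ?_
    have h'' : b ∈ p'.comap (algebraMap D T) := h'
    rwa [comap_eq_bot_of_associatedPrime hp'] at h''

/-- Finite height one hull: the condition on the associated primes of a flat algebra. -/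
theorem two_le_height_of_hullBdd (hfin : HullBdd D)
    {p' : Ideal T} (hp' : p' ∈ associatedPrimes T T) (Q' : Ideal T) [Q'.IsPrime] (hle : p' ≤ Q')
    (hq : (2 : ℕ∞) ≤ (Q'.comap (algebraMap D T)).height) :
    (2 : ℕ∞) ≤ (Q'.map (Ideal.Quotient.mk p')).height := by
  obtain ⟨b, hb0, hb⟩ := hfin
  refine two_le_height_of_bdd hp' Q' hle hq ⟨b, hb0, fun a c ha ⟨M, hM⟩ =>
    ⟨1, fun h => (Ideal.comap_isPrime (algebraMap D T) Q').ne_top ((Ideal.eq_top_iff_one _).2 h), ?_⟩⟩
  rw [one_mul]
  refine hb a c ha fun p hp hp1 => ?_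
  have hnle : ¬ Q'.comap (algebraMap D T) ^ M ≤ p := fun h => by
    have h2 := hq.trans (Ideal.height_mono (hp.le_of_pow_le h))
    rw [hp1] at h2
    simp at h2
  obtain ⟨x, hx, hxp⟩ := SetLike.not_le_iff_exists.1 hnle
  exact ⟨x, hxp, hM x hx⟩

open ZClosLib.HullModule in
/-- The converse: the condition on a faithfully flat algebra gives finiteness of the height one hull. -/
theorem heightOneHullFinite_of_condition [Module.FaithfullyFlat D T]
    (hT : ∀ P ∈ associatedPrimes T T, ∀ [P.IsPrime], EGA4.HeightOneHullFinite (T ⧸ P))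
    (hcond : ∀ P ∈ associatedPrimes T T, ∀ (Q' : Ideal T) [Q'.IsPrime], P ≤ Q' →
      (2 : ℕ∞) ≤ (Q'.comap (algebraMap D T)).height → (2 : ℕ∞) ≤ (Q'.map (Ideal.Quotient.mk P)).height) :
    EGA4.HeightOneHullFinite D := by
  classical
  let Z' : Set (PrimeSpectrum T) := {y | (2 : ℕ∞) ≤ (y.asIdeal.comap (algebraMap D T)).height}
  have hZass : ∀ x : PrimeSpectrum T, x.asIdeal ∈ associatedPrimes T T → x ∉ Z' := fun x hx h => by
    have h' : (2 : ℕ∞) ≤ (x.asIdeal.comap (algebraMap D T)).height := h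
    rw [comap_eq_bot_of_associatedPrime hx, Ideal.height_bot] at h'
    simp at h'
  have hpure : Pure Z' T := fun I hI m hm => by
    by_contra hm0
    obtain ⟨P, hP, hle⟩ := exists_le_isAssociatedPrime_of_isNoetherianRing T m hm0
    refine hZass ⟨P, hP.isPrime⟩ hP (hI ((PrimeSpectrum.mem_zeroLocus _ _).2 fun a ha => hle ?_))
    rw [Submodule.mem_colon_singleton, Submodule.mem_bot]
    exact hm a ha
  obtain ⟨I₀, hI₀, hext⟩ := extends_of_heightOneHullFinite (A := T) (M := T) (Z := Z') hZass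
    (fun x hx => hT x.asIdeal hx) (fun x hx y hy hle => hcond x.asIdeal hx y.asIdeal hle hy)
  let K := FractionRing D
  have hinjK : Function.Injective (algebraMap D K) := IsFractionRing.injective D K
  have hreg : ∀ a : D, a ≠ 0 → ∀ t : T, algebraMap D T a * t = 0 → t = 0 := fun a ha t ht => by
    have h1 : IsSMulRegular T a :=
      Module.Flat.isSMulRegular_of_nonZeroDivisors (mem_nonZeroDivisors_of_ne_zero ha)
    exact h1 (by show a • t = a • (0 : T); rw [smul_zero, Algebra.smul_def]; exact ht)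
  -- multiplication by an element of the hull
  have hψ : ∀ f : hullSubalgebra D, ∃ (a c : D) (ψ : I₀ →ₗ[T] T), a ≠ 0 ∧
      algebraMap D K a * (f : K) = algebraMap D K c ∧
        ∀ v : I₀, algebraMap D T a * ψ v = algebraMap D T c * (v : T) := by
    intro f
    obtain ⟨⟨c, ⟨a, ha⟩⟩, hca⟩ := IsLocalization.surj (nonZeroDivisors D) (f : K)
    have hac : algebraMap D K a * (f : K) = algebraMap D K c := by rw [mul_comm]; exact hca
    have ha0 : a ≠ 0 := nonZeroDivisors.ne_zero ha
    let J : Ideal D := Submodule.comap (LinearMap.toSpanSingleton D K (f : K))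
      (LinearMap.range (Algebra.linearMap D K))
    have hJmem : ∀ x, x ∈ J ↔ ∃ d, algebraMap D K d = algebraMap D K x * (f : K) := fun x => by
      change (∃ d, algebraMap D K d = x • (f : K)) ↔ _
      simp only [Algebra.smul_def]
      rfl
    have hI : Supp Z' (J.map (algebraMap D T)) := by
      intro y hy
      have hJy : J ≤ y.asIdeal.comap (algebraMap D T) :=
        Ideal.map_le_iff_le_comap.1 ((PrimeSpectrum.mem_zeroLocus _ _).1 hy)
      show (2 : ℕ∞) ≤ (y.asIdeal.comap (algebraMap D T)).height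
      by_contra hlt
      rcases eq_or_ne (y.asIdeal.comap (algebraMap D T)).height 0 with h0 | h0
      · rw [Ideal.height_eq_zero_iff_eq_bot] at h0
        exact ha0 ((Submodule.mem_bot D).1 (h0 ▸ hJy ((hJmem a).2 ⟨c, hac.symm⟩)))
      · obtain ⟨x, hx, d, hd⟩ := f.2 _ (le_antisymm ((ENat.lt_add_one_iff ENat.one_ne_top).1
          (show (y.asIdeal.comap (algebraMap D T)).height < 1 + 1 by rw [one_add_one_eq_two]; exact not_le.1 hlt))
            (Order.one_le_iff_pos.2 (pos_iff_ne_zero.2 h0)))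
        exact hx (hJy ((hJmem x).2 ⟨d, hd⟩))
    have hex : ∀ v ∈ J.map (algebraMap D T), ∃ t, algebraMap D T a * t = algebraMap D T c * v := by
      intro v hv
      induction hv using Submodule.span_induction with
      | mem v hv =>
        obtain ⟨x, hx, rfl⟩ := hv
        obtain ⟨d, hd⟩ := (hJmem x).1 hx
        refine ⟨algebraMap D T d, ?_⟩
        rw [← map_mul, ← map_mul]
        congr 1
        apply hinjK
        rw [map_mul, map_mul, hd, ← hac]
        ring
      | zero => exact ⟨0, by rw [mul_zero, mul_zero]⟩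
      | add v v' _ _ hv hv' =>
        obtain ⟨t, ht⟩ := hv
        obtain ⟨t', ht'⟩ := hv'
        exact ⟨t + t', by rw [mul_add, mul_add, ht, ht']⟩
      | smul r v _ hv =>
        obtain ⟨t, ht⟩ := hv
        exact ⟨r * t, by rw [smul_eq_mul, mul_left_comm, ht, mul_left_comm]⟩
    choose g hg using fun v : J.map (algebraMap D T) => hex v v.2
    have huniq : ∀ t t', algebraMap D T a * t = algebraMap D T a * t' → t = t' := fun t t' h =>
      sub_eq_zero.1 (hreg a ha0 _ (by rw [mul_sub, h, sub_self]))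
    let φ : J.map (algebraMap D T) →ₗ[T] T :=
      { toFun := g
        map_add' := fun v v' => huniq _ _ (by rw [hg, mul_add, hg, hg, Submodule.coe_add, mul_add])
        map_smul' := fun r v => huniq _ _ (by
          rw [hg, RingHom.id_apply, smul_eq_mul, mul_left_comm, hg, SetLike.val_smul, smul_eq_mul,
            mul_left_comm]) }
    obtain ⟨ψ, hψ⟩ := hext _ hI φ
    refine ⟨a, c, ψ, ha0, hac, fun v => sub_eq_zero.1 (hpure _ hI _ fun x hx => ?_)⟩
    have hxv : x * (v : T) ∈ J.map (algebraMap D T) := Ideal.mul_mem_right _ _ hx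
    have h1 := hψ _ (I₀.mul_mem_left x v.2) hxv
    have h2 : ψ ⟨x * (v : T), I₀.mul_mem_left x v.2⟩ = x * ψ v := by
      rw [show (⟨x * (v : T), I₀.mul_mem_left x v.2⟩ : I₀) = x • v from rfl, map_smul, smul_eq_mul]
    have h3 : algebraMap D T a * (x * ψ v) = algebraMap D T c * (x * (v : T)) := by
      rw [← h2, h1]; exact hg ⟨_, hxv⟩
    rw [smul_eq_mul, mul_sub, mul_left_comm, h3]
    ring
  choose a c ψ ha hac hψ using hψ
  haveI : IsNoetherian T (I₀ →ₗ[T] T) := inferInstance
  let F0 : Finset (hullSubalgebra D) → Submodule T (I₀ →ₗ[T] T) := fun F => Submodule.span T (ψ '' F)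
  obtain ⟨_, ⟨F, rfl⟩, hFmax⟩ := (set_has_maximal_iff_noetherian.2 inferInstance) (Set.range F0)
    ⟨_, ∅, rfl⟩
  rw [heightOneHullFinite_iff_finite]
  refine ⟨⟨F, eq_top_iff.2 fun f _ => ?_⟩⟩
  have hf : ψ f ∈ F0 F := by
    have hle : F0 F ≤ F0 (insert f F) := Submodule.span_mono (Set.image_mono (by simp))
    have := (eq_of_le_of_not_lt hle (hFmax _ ⟨_, rfl⟩))
    rw [this]
    exact Submodule.subset_span ⟨f, by simp, rfl⟩
  let A0 : D := (∏ i ∈ F, a i) * a f
  let num : hullSubalgebra D → D := fun i => if i = f then c f * ∏ j ∈ F, a j else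
    c i * ((∏ j ∈ F.erase i, a j) * a f)
  have hnum : ∀ i, (i = f ∨ i ∈ F) → algebraMap D K (num i) = algebraMap D K A0 * (i : K) ∧
      ∀ v : I₀, algebraMap D T A0 * ψ i v = algebraMap D T (num i) * (v : T) := by
    intro i hi
    by_cases h : i = f
    · subst h
      simp only [num, if_pos, A0, map_mul]
      refine ⟨by rw [← hac i]; ring, fun v => ?_⟩
      rw [mul_assoc, hψ i v]; ring
    · have hiF := hi.resolve_left h
      have hprod : ∏ j ∈ F, a j = (∏ j ∈ F.erase i, a j) * a i := (Finset.prod_erase_mul _ _ hiF).symm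
      simp only [num, if_neg h, A0, hprod, map_mul]
      refine ⟨by rw [← hac i]; ring, fun v => ?_⟩
      calc _ = algebraMap D T (∏ j ∈ F.erase i, a j) * algebraMap D T (a f) * (algebraMap D T (a i) * ψ i v) := by ring
        _ = _ := by rw [hψ i v]; ring
  let E : Ideal D := Ideal.span (num '' (F : Set (hullSubalgebra D)))
  obtain ⟨τ, hτ, hτf⟩ : ∃ τ ∈ E.map (algebraMap D T), ∀ v : I₀, algebraMap D T A0 * ψ f v = τ * (v : T) := by
    have : ∀ ξ ∈ F0 F, ∃ τ ∈ E.map (algebraMap D T), ∀ v : I₀, algebraMap D T A0 * ξ v = τ * (v : T) := by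
      intro ξ hξ
      induction hξ using Submodule.span_induction with
      | mem ξ hξ =>
        obtain ⟨i, hi, rfl⟩ := hξ
        exact ⟨_, Ideal.mem_map_of_mem _ (Ideal.subset_span ⟨i, hi, rfl⟩), (hnum i (Or.inr hi)).2⟩
      | zero => exact ⟨0, zero_mem _, fun v => by simp⟩
      | add ξ ξ' _ _ h h' =>
        obtain ⟨τ, hτ, hτv⟩ := h
        obtain ⟨τ', hτ', hτv'⟩ := h'
        exact ⟨τ + τ', add_mem hτ hτ', fun v => by rw [LinearMap.add_apply, mul_add, hτv, hτv', add_mul]⟩
      | smul r ξ _ h =>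
        obtain ⟨τ, hτ, hτv⟩ := h
        exact ⟨r * τ, Ideal.mul_mem_left _ _ hτ, fun v => by
          rw [LinearMap.smul_apply, smul_eq_mul, mul_left_comm, hτv, mul_assoc]⟩
    exact this _ hf
  have heq : algebraMap D T (num f) = τ := sub_eq_zero.1 (hpure I₀ hI₀ _ fun v hv => by
    rw [smul_eq_mul, mul_comm, sub_mul, ← (hnum f (Or.inl rfl)).2 ⟨v, hv⟩, hτf ⟨v, hv⟩, sub_self])
  have hmemE : num f ∈ E := by
    rw [← Ideal.comap_map_eq_self_of_faithfullyFlat (B := T) E, Ideal.mem_comap, heq]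
    exact hτ
  have hA0 : algebraMap D K A0 ≠ 0 := fun h =>
    mul_ne_zero (Finset.prod_ne_zero_iff.2 fun i _ => ha i) (ha f) (hinjK (h.trans (map_zero _).symm))
  obtain ⟨g, hg, hgeq⟩ : ∃ g ∈ Submodule.span D (F : Set (hullSubalgebra D)),
      algebraMap D K (num f) = algebraMap D K A0 * (g : K) := by
    have : ∀ e ∈ E, ∃ g ∈ Submodule.span D (F : Set (hullSubalgebra D)),
        algebraMap D K e = algebraMap D K A0 * (g : K) := by
      intro e he
      induction he using Submodule.span_induction with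
      | mem e he =>
        obtain ⟨i, hi, rfl⟩ := he
        exact ⟨i, Submodule.subset_span hi, (hnum i (Or.inr hi)).1⟩
      | zero => exact ⟨0, zero_mem _, by simp⟩
      | add e e' _ _ h h' =>
        obtain ⟨g, hg, hge⟩ := h
        obtain ⟨g', hg', hge'⟩ := h'
        exact ⟨g + g', add_mem hg hg', by rw [map_add, hge, hge', Subalgebra.coe_add, mul_add]⟩
      | smul r e _ h =>
        obtain ⟨g, hg, hge⟩ := h
        exact ⟨r • g, Submodule.smul_mem _ r hg, by
          rw [smul_eq_mul, map_mul, hge, SetLike.val_smul, Algebra.smul_def]; ring⟩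
    exact this _ hmemE
  have : f = g := Subtype.ext (mul_left_cancel₀ hA0 ((hnum f (Or.inl rfl)).1.symm.trans hgeq))
  exact this ▸ hg

end flat

theorem heightOneHullFinite_of_isAdicComplete (T : Type u) [CommRing T] [IsNoetherianRing T] [IsLocalRing T]
    [IsAdicComplete (maximalIdeal T) T] (P : Ideal T) [P.IsPrime] : EGA4.HeightOneHullFinite (T ⧸ P) := by
  refine ZClosLib.HeightOneHull.heightOneHullFinite_of_univCatenary (T ⧸ P)
    (isUniversallyCatenary_of_surjective _ Ideal.Quotient.mk_surjective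
      (isExcellent_of_isAdicComplete T).2.1) ?_
  exact (Groth.Agent.S0568.result T).2 P (FractionRing (T ⧸ P)) inferInstance

end Groth.Agent.EGA4Lib
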