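import Groth.Agent.EGA41Lib.NagataCrit
import Groth.Agent.EGA4Lib.DerKernel
import Groth.Agent.Hoch95.Basic
import Mathlib

/-!
# Extending derivations to tensor products and completions
-/

set_option autoImplicit false
set_option linter.style.haveILetI false

open TensorProduct Polynomial IsLocalRing

namespace Groth.Agent.EGA4Lib.Jac

universe u

attribute [local instance 2000] Ring.toIntAlgebra

/-- A derivation of `P` extends to `P ⊗[R] C`. -/
def Ext (R C : Type u) [CommRing R] [CommRing C] [Algebra R C] {P : Type u} [CommRing P] [Algebra R P]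
    (D : Derivation ℤ P P) : Prop :=
  ∃ E : Derivation ℤ (P ⊗[R] C) (P ⊗[R] C), ∀ x : P, E (x ⊗ₜ[R] (1 : C)) = D x ⊗ₜ[R] (1 : C)

section

variable {R C P : Type u} [CommRing R] [CommRing C] [Algebra R C] [CommRing P] [Algebra R P]

theorem Ext.zero : Ext R C (0 : Derivation ℤ P P) := ⟨0, fun x => by simp⟩

theorem Ext.add {D D' : Derivation ℤ P P} (h : Ext R C D) (h' : Ext R C D') : Ext R C (D + D') := by
  obtain ⟨E, hE⟩ := h
  obtain ⟨E', hE'⟩ := h'
  exact ⟨E + E', fun x => by simp [hE, hE', TensorProduct.add_tmul]⟩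

theorem Ext.neg {D : Derivation ℤ P P} (h : Ext R C D) : Ext R C (-D) := by
  obtain ⟨E, hE⟩ := h
  exact ⟨-E, fun x => by simp [hE, TensorProduct.neg_tmul]⟩

theorem Ext.smul (c : P) {D : Derivation ℤ P P} (h : Ext R C D) : Ext R C (c • D) := by
  obtain ⟨E, hE⟩ := h
  refine ⟨(c ⊗ₜ[R] (1 : C)) • E, fun x => ?_⟩
  show (c ⊗ₜ[R] (1 : C)) * E (x ⊗ₜ 1) = (c * D x) ⊗ₜ 1
  rw [hE, Algebra.TensorProduct.tmul_mul_tmul, mul_one]

theorem Ext.bracket {D D' : Derivation ℤ P P} (h : Ext R C D) (h' : Ext R C D') : Ext R C ⁅D, D'⁆ := by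
  obtain ⟨E, hE⟩ := h
  obtain ⟨E', hE'⟩ := h'
  exact ⟨⁅E, E'⁆, fun x => by
    simp [Derivation.commutator_apply, hE, hE', TensorProduct.sub_tmul]⟩

theorem Ext.iterPow (p : ℕ) [Fact p.Prime] [CharP R p] {D Dp : Derivation ℤ P P}
    (hDp : ∀ b, Dp b = D^[p] b) (h : Ext R C D) : Ext R C Dp := by
  by_cases hT : Subsingleton (P ⊗[R] C)
  · exact ⟨0, fun x => Subsingleton.elim _ _⟩
  haveI := not_subsingleton_iff_nontrivial.mp hT
  haveI : CharP (P ⊗[R] C) p := by
    have hzero : (p : P ⊗[R] C) = 0 := by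
      rw [← map_natCast (algebraMap R (P ⊗[R] C)), CharP.cast_eq_zero, map_zero]
    exact CharP.charP_iff_prime_eq_zero (Fact.out : p.Prime) |>.mpr hzero
  obtain ⟨E, hE⟩ := h
  obtain ⟨Ep, hEp⟩ := Hoch95.exists_iterPow p E
  refine ⟨Ep, fun x => ?_⟩
  rw [hEp, hDp]
  have : ∀ n, E^[n] (x ⊗ₜ[R] (1 : C)) = (D^[n] x) ⊗ₜ 1 := fun n => by
    induction n with
    | zero => rfl
    | succ n ih => rw [Function.iterate_succ_apply', Function.iterate_succ_apply', ih, hE]
  exact this p

end

/-- Two derivations which agree on `P` glue on `P' ⊗[P] T`. -/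
theorem exists_derivation_tensor {P P' T : Type u} [CommRing P] [CommRing P'] [CommRing T]
    [Algebra P P'] [Algebra P T] (D : Derivation ℤ P P) (D' : Derivation ℤ P' P')
    (hD' : ∀ r, D' (algebraMap P P' r) = algebraMap P P' (D r))
    (E : Derivation ℤ T T) (hE : ∀ r, E (algebraMap P T r) = algebraMap P T (D r)) :
    ∃ F : Derivation ℤ (P' ⊗[P] T) (P' ⊗[P] T),
      ∀ x t, F (x ⊗ₜ[P] t) = D' x ⊗ₜ[P] t + x ⊗ₜ[P] E t := by
  let B : P' →+ T →+ P' ⊗[P] T :=
    { toFun := fun x =>
        { toFun := fun t => D' x ⊗ₜ[P] t + x ⊗ₜ[P] E t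
          map_zero' := by simp
          map_add' := fun a b => by rw [map_add, TensorProduct.tmul_add, TensorProduct.tmul_add]; abel }
      map_zero' := by ext t; simp
      map_add' := fun a b => by
        ext t
        simp only [AddMonoidHom.coe_mk, ZeroHom.coe_mk, map_add, TensorProduct.add_tmul, AddMonoidHom.add_apply]
        abel }
  have hB : ∀ (r : P) (m : P') (n : T), B (r • m) n = B m (r • n) := by
    intro r m n
    show D' (r • m) ⊗ₜ[P] n + (r • m) ⊗ₜ[P] E n = D' m ⊗ₜ[P] (r • n) + m ⊗ₜ[P] E (r • n)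
    rw [Algebra.smul_def r m, Algebra.smul_def r n, D'.leibniz, E.leibniz, hD', hE]
    simp only [smul_eq_mul, TensorProduct.add_tmul, TensorProduct.tmul_add]
    rw [mul_comm m, mul_comm n, ← Algebra.smul_def, ← Algebra.smul_def, ← Algebra.smul_def,
      ← Algebra.smul_def, ← Algebra.smul_def, ← Algebra.smul_def]
    simp only [TensorProduct.smul_tmul]
    abel
  let F₀ : P' ⊗[P] T →+ P' ⊗[P] T := TensorProduct.liftAddHom B hB
  have hF₀ : ∀ x t, F₀ (x ⊗ₜ[P] t) = D' x ⊗ₜ[P] t + x ⊗ₜ[P] E t := fun x t => rfl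
  refine ⟨Derivation.mk' F₀.toIntLinearMap fun a b => ?_, fun x t => hF₀ x t⟩
  show F₀ (a * b) = a * F₀ b + b * F₀ a
  induction a using TensorProduct.induction_on with
  | zero => simp
  | add a a' ha ha' => rw [add_mul, map_add, map_add, ha, ha']; ring
  | tmul x t =>
    induction b using TensorProduct.induction_on with
    | zero => simp
    | add b b' hb hb' => rw [mul_add, map_add, map_add, hb, hb']; ring
    | tmul y s =>
      rw [Algebra.TensorProduct.tmul_mul_tmul, hF₀, hF₀, hF₀, D'.leibniz, E.leibniz]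
      simp only [smul_eq_mul, TensorProduct.add_tmul, TensorProduct.tmul_add, mul_add,
        Algebra.TensorProduct.tmul_mul_tmul]
      rw [mul_comm s t, mul_comm y x]
      abel

/-- The coefficientwise extension of `D` to `P[X]` with any value at `X` still extends to the
tensor product. -/
theorem ext_polyDer {R C P : Type u} [CommRing R] [CommRing C] [Algebra R C] [CommRing P] [Algebra R P]
    {D : Derivation ℤ P P} (hD : Ext R C D) (v : P[X]) : Ext R C (DerKernel.polyDer D v) := by
  obtain ⟨E, hE⟩ := hD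
  obtain ⟨F, hF⟩ := exists_derivation_tensor (T := P ⊗[R] C) D (DerKernel.polyDer D v)
    (fun r => DerKernel.polyDer_C D v r) E (fun r => hE r)
  let e : P[X] ⊗[P] (P ⊗[R] C) ≃+* P[X] ⊗[R] C :=
    (Algebra.TensorProduct.cancelBaseChange R P P[X] P[X] C).toRingEquiv
  refine ⟨Derivation.mk' ((e.toAddMonoidHom.comp
      (F.toLinearMap.toAddMonoidHom.comp e.symm.toAddMonoidHom)).toIntLinearMap) fun a b => ?_, fun x => ?_⟩
  · show e (F (e.symm (a * b))) = a * e (F (e.symm b)) + b * e (F (e.symm a))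
    rw [map_mul, F.leibniz, map_add, smul_eq_mul, smul_eq_mul, map_mul, map_mul, e.apply_symm_apply,
      e.apply_symm_apply]
  · show e (F (e.symm (x ⊗ₜ[R] (1 : C)))) = _
    have h1 : e.symm (x ⊗ₜ[R] (1 : C)) = x ⊗ₜ[P] ((1 : P) ⊗ₜ[R] (1 : C)) := by
      apply e.injective
      rw [e.apply_symm_apply]
      simp [e]
    rw [h1, hF]
    have h2 : E ((1 : P) ⊗ₜ[R] (1 : C)) = 0 := E.map_one_eq_zero
    rw [h2, TensorProduct.tmul_zero, add_zero]
    simp [e]

/-- Derivations of `R` extend to `R ⊗[R] C` as soon as they extend to `C`. -/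
theorem ext_of_extends {R C : Type u} [CommRing R] [CommRing C] [Algebra R C] (D : Derivation ℤ R R)
    (E : Derivation ℤ C C) (hE : ∀ r, E (algebraMap R C r) = algebraMap R C (D r)) :
    Ext R C D := by
  let e : R ⊗[R] C ≃+* C := (Algebra.TensorProduct.lid R C).toRingEquiv
  refine ⟨Derivation.mk' ((e.symm.toAddMonoidHom.comp
      (E.toLinearMap.toAddMonoidHom.comp e.toAddMonoidHom)).toIntLinearMap) fun a b => ?_, fun x => ?_⟩
  · show e.symm (E (e (a * b))) = a * e.symm (E (e b)) + b * e.symm (E (e a))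
    rw [map_mul, E.leibniz, map_add, smul_eq_mul, smul_eq_mul, map_mul, map_mul, e.symm_apply_apply,
      e.symm_apply_apply]
  · show e.symm (E (e (x ⊗ₜ[R] (1 : C)))) = _
    apply e.injective
    rw [e.apply_symm_apply]
    simp [e, Algebra.smul_def, hE]

/-- Derivations extend to adic completions. -/
theorem exists_derivation_adicCompletion {A : Type u} [CommRing A] (I : Ideal A)
    (D : Derivation ℤ A A) :
    ∃ E : Derivation ℤ (AdicCompletion I A) (AdicCompletion I A),
      ∀ a, E (algebraMap A _ a) = algebraMap A _ (D a) := by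
  have hD : ∀ n, ∀ x ∈ I ^ (n + 1), D x ∈ I ^ n := by
    intro n
    induction n with
    | zero => simp
    | succ n ih =>
      intro x hx
      rw [pow_succ] at hx
      refine Submodule.mul_induction_on hx (fun a ha b hb => ?_) fun a b ha hb => ?_
      · rw [D.leibniz]
        refine Ideal.add_mem _ (Ideal.mul_mem_right _ _ ha) ?_
        rw [pow_succ', smul_eq_mul]
        exact Ideal.mul_mem_mul hb (ih a ha)
      · rw [map_add]; exact Ideal.add_mem _ ha hb
  have hsm : ∀ (n : ℕ) (x : A), x ∈ (I ^ n • ⊤ : Submodule A A) ↔ x ∈ I ^ n := fun n x => by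
    rw [smul_eq_mul, Ideal.mul_top]
  let δ : ∀ n, A ⧸ (I ^ (n + 1) • ⊤ : Submodule A A) →+ A ⧸ (I ^ n • ⊤ : Submodule A A) := fun n =>
    QuotientAddGroup.lift (I ^ (n + 1) • ⊤ : Submodule A A).toAddSubgroup
      ((Submodule.mkQ (I ^ n • ⊤ : Submodule A A)).toAddMonoidHom.comp D.toLinearMap.toAddMonoidHom)
      fun x hx => by
        show Submodule.Quotient.mk (D x) = 0
        rw [Submodule.Quotient.mk_eq_zero, hsm]
        exact hD n x ((hsm _ x).mp hx)
  have hδ : ∀ n a, δ n (Submodule.Quotient.mk a) = Submodule.Quotient.mk (D a) := fun n a => rfl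
  let F : AdicCompletion I A → AdicCompletion I A := fun x =>
    ⟨fun n => δ n (x.val (n + 1)), fun {m n} hmn => by
      obtain ⟨a, ha⟩ := Submodule.Quotient.mk_surjective _ (x.val (n + 1))
      have hm : x.val (m + 1) = Submodule.Quotient.mk a := by
        rw [← x.2 (Nat.succ_le_succ hmn), ← ha]
        rfl
      show AdicCompletion.transitionMap I A hmn (δ n (x.val (n + 1))) = δ m (x.val (m + 1))
      rw [← ha, hm, hδ, hδ]
      rfl⟩
  have hFv : ∀ x n, (F x).val n = δ n (x.val (n + 1)) := fun x n => rfl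
  let E₀ : AdicCompletion I A →+ AdicCompletion I A :=
    { toFun := F
      map_zero' := by ext n; rw [hFv, AdicCompletion.val_zero_apply, map_zero, AdicCompletion.val_zero_apply]
      map_add' := fun x y => by
        ext n
        rw [hFv, AdicCompletion.val_add_apply, map_add, AdicCompletion.val_add_apply]
        }
  refine ⟨Derivation.mk' E₀.toIntLinearMap fun x y => ?_, fun a => ?_⟩
  · show F (x * y) = x * F y + y * F x
    ext n
    obtain ⟨a, ha⟩ := Submodule.Quotient.mk_surjective _ (x.val (n + 1))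
    obtain ⟨b, hb⟩ := Submodule.Quotient.mk_surjective _ (y.val (n + 1))
    have ha' : x.val n = Submodule.Quotient.mk a := by rw [← x.2 (Nat.le_succ n), ← ha]; rfl
    have hb' : y.val n = Submodule.Quotient.mk b := by rw [← y.2 (Nat.le_succ n), ← hb]; rfl
    rw [hFv, AdicCompletion.val_mul, ← ha, ← hb, AdicCompletion.val_add_apply, AdicCompletion.val_mul,
      AdicCompletion.val_mul, hFv, hFv, ← ha, ← hb, ha', hb']
    show δ n (Submodule.Quotient.mk (a * b)) = Submodule.Quotient.mk (a * D b) + Submodule.Quotient.mk (b * D a)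
    rw [hδ, D.leibniz, ← Submodule.Quotient.mk_add]
    rfl
  · show F (algebraMap A _ a) = _
    ext n
    rfl

end Groth.Agent.EGA4Lib.Jac
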