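import Groth.Agent.EGA4Lib.JacTower
import Groth.Agent.EGA4Lib.SmoothRegular
import Groth.Agent.EGA4Lib.GenericRegular
import Groth.Agent.CAlg99.CotGen

/-!
# Regularity of tensor products from Jacobian models (EGA 0_IV 22.7.3, IV 7.4.4)
-/

set_option autoImplicit false
set_option linter.style.haveILetI false

open TensorProduct IsLocalRing

namespace Groth.Agent.EGA4Lib.Jac

universe u

attribute [local instance 2000] Ring.toIntAlgebra

/-- Jacobian criterion for `ℤ`-derivations. -/
theorem isRegular_of_det {A : Type u} [CommRing A] {q p : Ideal A} [p.IsPrime]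
    [(p.map (Ideal.Quotient.mk q)).IsPrime] [IsRegularLocalRing (Localization.AtPrime p)] (hqp : q ≤ p)
    {ι : Type} [Fintype ι] [DecidableEq ι] (D : ι → Derivation ℤ A A) (f : ι → A) (hfq : ∀ i, f i ∈ q)
    (hgen : q.map (algebraMap A (Localization.AtPrime p)) =
      Ideal.span (Set.range fun i => algebraMap A (Localization.AtPrime p) (f i)))
    (hdet : (Matrix.of fun i j => D i (f j)).det ∉ p) :
    IsRegularLocalRing (Localization.AtPrime (p.map (Ideal.Quotient.mk q))) := by
  let Ap := Localization.AtPrime p
  haveI : IsRegularLocalRing Ap := ‹_›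
  have hmax : maximalIdeal Ap = p.map (algebraMap A Ap) := Localization.AtPrime.map_eq_maximalIdeal.symm
  let m := Fintype.card ι
  let σ := (Fintype.equivFin ι).symm
  let F : Fin m → maximalIdeal Ap := fun i => ⟨algebraMap A Ap (f (σ i)), by
    rw [hmax]; exact Ideal.mem_map_of_mem _ (hqp (hfq _))⟩
  have hdet : (Matrix.of fun i j : Fin m => D (σ i) (f (σ j))).det ∉ p := by
    rw [← Matrix.det_submatrix_equiv_self σ] at hdet
    exact hdet
  have hli : LinearIndependent (ResidueField Ap) (fun i => (maximalIdeal Ap).toCotangent (F i)) := by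
    rw [Fintype.linearIndependent_iff]
    intro g hg i
    choose c hc using fun j => residue_surjective (g j)
    obtain ⟨⟨u, hu⟩, hint⟩ := IsLocalization.exist_integer_multiples_of_finite p.primeCompl c
    choose a ha using hint
    have h0 : (maximalIdeal Ap).toCotangent (∑ j, c j • F j) = 0 := by
      rw [← hg, map_sum]
      refine Finset.sum_congr rfl fun j _ => ?_
      rw [map_smul, ← hc j]
      exact (algebraMap_smul (ResidueField Ap) (c j) _).symm
    rw [Ideal.toCotangent_eq_zero] at h0
    have h1 : algebraMap A Ap (∑ j, a j * f (σ j)) ∈ (p ^ 2).map (algebraMap A Ap) := by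
      rw [Ideal.map_pow, ← hmax]
      have : algebraMap A Ap (∑ j, a j * f (σ j)) =
          algebraMap A Ap u * ((∑ j, c j • F j : maximalIdeal Ap) : Ap) := by
        rw [map_sum, Submodule.coe_sum, Finset.mul_sum]
        refine Finset.sum_congr rfl fun j _ => ?_
        rw [map_mul, ha, Algebra.smul_def, Submodule.coe_smul, smul_eq_mul]
        simp only [F]
        ring
      rw [this]
      exact Ideal.mul_mem_left _ _ h0
    obtain ⟨w, hw, hwp⟩ := (IsLocalization.algebraMap_mem_map_algebraMap_iff p.primeCompl Ap (p ^ 2) _).mp h1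
    have hD : ∀ (E : Derivation ℤ A A) (x : A), x ∈ p ^ 2 → E x ∈ p := by
      intro E x hx
      rw [pow_two] at hx
      refine Submodule.mul_induction_on hx (fun y hy z hz => ?_) fun y z hy hz => ?_
      · rw [E.leibniz]
        exact p.add_mem (p.mul_mem_right _ hy) (p.mul_mem_right _ hz)
      · rw [map_add]; exact p.add_mem hy hz
    have hpi : ∀ j, Ideal.Quotient.mk p (f (σ j)) = 0 := fun j =>
      Ideal.Quotient.eq_zero_iff_mem.mpr (hqp (hfq _))
    let π := Ideal.Quotient.mk p
    have hsys : ∀ i, ∑ j, π (a j) * π (D (σ i) (f (σ j))) = 0 := by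
      intro i
      have := Ideal.Quotient.eq_zero_iff_mem.mpr (hD (D (σ i)) _ hwp)
      rw [(D (σ i)).leibniz, map_add, smul_eq_mul, smul_eq_mul, map_mul, map_mul, map_sum (D (σ i)),
        map_sum, map_sum] at this
      simp only [Derivation.leibniz, map_add, smul_eq_mul, map_mul, hpi, zero_mul, add_zero, mul_zero,
        Finset.sum_const_zero] at this
      exact (mul_eq_zero.mp this).resolve_left fun h => hw (Ideal.Quotient.eq_zero_iff_mem.mp h)
    have hdet' : ((Matrix.of fun i j : Fin m => D (σ i) (f (σ j))).map π).det ≠ 0 := by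
      rw [← RingHom.mapMatrix_apply, ← RingHom.map_det]
      exact fun h => hdet (Ideal.Quotient.eq_zero_iff_mem.mp h)
    have hv := Matrix.eq_zero_of_mulVec_eq_zero hdet' (v := fun j => π (a j)) (funext fun i => by
      simpa [Matrix.mulVec, dotProduct, mul_comm] using hsys i)
    have hai : a i ∈ p := Ideal.Quotient.eq_zero_iff_mem.mp (congrFun hv i)
    rw [← hc i, residue_eq_zero_iff, hmax]
    have hu' : IsUnit (algebraMap A Ap u) := IsLocalization.map_units Ap (⟨u, hu⟩ : p.primeCompl)
    refine (Ideal.unit_mul_mem_iff_mem _ hu').mp ?_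
    rw [show algebraMap A Ap u * c i = algebraMap A Ap (a i) by
      rw [ha]; exact (Algebra.smul_def u (c i)).symm]
    exact Ideal.mem_map_of_mem _ hai
  haveI := CAlg99.CotGen.isRegularLocalRing_quotient_of_indep F hli
  obtain ⟨e⟩ := EGA41Lib.NagataCrit.nonempty_quotientEquiv (q := q) hqp
  have hF : Ideal.span (Set.range fun i => (F i : Ap)) = q.map (algebraMap A Ap) := by
    rw [hgen]
    exact congrArg Ideal.span (σ.surjective.range_comp fun i => algebraMap A Ap (f i))
  exact IsRegularLocalRing.of_ringEquiv ((Ideal.quotEquivOfEq hF).trans e)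

/-- The fibre over a field with a Jacobian model is regular. -/
theorem isRegularRing_tensor_of_model {R C P L : Type u} [CommRing R] [CommRing C] [Algebra R C]
    [IsNoetherianRing C] [IsRegularRing C] [CommRing P] [Algebra R P] [Field L] [Algebra R L]
    (π : P →ₐ[R] L) (hπ : IsModel R C π) : IsRegularRing (L ⊗[R] C) := by
  classical
  obtain ⟨hsm, hfrac, ι, _, _, D, f, hDe, hf, hgenf, hdet⟩ := hπ
  haveI := hsm
  haveI : IsNoetherianRing (C ⊗[R] P) := Algebra.FiniteType.isNoetherianRing C _
  haveI hT' : IsRegularRing (C ⊗[R] P) := isRegularRing_iff.mpr fun Q hQ =>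
    mem_regLocus_of_smooth (R := C) ⟨Q, hQ⟩
      (IsRegularRing.isRegularLocalRing_localization _)
  let T := P ⊗[R] C
  haveI : IsRegularRing T :=
    IsRegularRing.of_ringEquiv (Algebra.TensorProduct.comm R C P).toRingEquiv
  -- the domain `B = P / ker π`
  let a : Ideal P := RingHom.ker π
  let B := P ⧸ a
  letI : Algebra B L := (Ideal.Quotient.lift a π.toRingHom fun x hx => hx).toAlgebra
  haveI : IsScalarTower R B L := IsScalarTower.of_algebraMap_eq fun r => by
    show algebraMap R L r = π (algebraMap R P r)
    rw [π.commutes]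
  have hBinj : Function.Injective (algebraMap B L) := by
    refine (injective_iff_map_eq_zero _).2 fun x hx => ?_
    obtain ⟨x, rfl⟩ := Ideal.Quotient.mk_surjective x
    exact Ideal.Quotient.eq_zero_iff_mem.2 hx
  haveI : IsDomain B := hBinj.isDomain (algebraMap B L)
  haveI : FaithfulSMul B L := (faithfulSMul_iff_algebraMap_injective B L).2 hBinj
  haveI : IsFractionRing B L := IsFractionRing.of_field B L fun z => by
    obtain ⟨x, y, hy, hxy⟩ := hfrac z
    refine ⟨Ideal.Quotient.mk a x, Ideal.Quotient.mk a y, ?_⟩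
    show z = π x / π y
    rw [← hxy, mul_div_cancel_right₀ _ hy]
  let W := B ⊗[R] C
  let U := L ⊗[R] C
  letI : Algebra W U :=
    (Algebra.TensorProduct.map (IsScalarTower.toAlgHom R B L) (AlgHom.id R C)).toRingHom.toAlgebra
  let ρ : T →ₐ[R] W := Algebra.TensorProduct.map (Ideal.Quotient.mkₐ R a) (AlgHom.id R C)
  have hρ : Function.Surjective ρ := by
    intro w
    induction w using TensorProduct.induction_on with
    | zero => exact ⟨0, map_zero _⟩
    | add x y hx hy =>
      obtain ⟨x, rfl⟩ := hx
      obtain ⟨y, rfl⟩ := hy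
      exact ⟨x + y, map_add _ _ _⟩
    | tmul b c =>
      obtain ⟨b, rfl⟩ := Ideal.Quotient.mk_surjective b
      exact ⟨b ⊗ₜ c, rfl⟩
  let incl : P →ₐ[R] T := Algebra.TensorProduct.includeLeft
  have hker : RingHom.ker ρ = a.map incl := by
    have h := Algebra.TensorProduct.rTensor_ker (R := R) (S := R) (C := C) (Ideal.Quotient.mkₐ R a)
      (Ideal.Quotient.mkₐ_surjective R a)
    rw [show RingHom.ker (Ideal.Quotient.mkₐ R a) = a from Ideal.Quotient.mkₐ_ker R a] at h
    exact h
  letI : Algebra B W := Algebra.TensorProduct.leftAlgebra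
  letI : Algebra B U := Algebra.TensorProduct.leftAlgebra
  haveI : IsScalarTower B W U := IsScalarTower.of_algebraMap_eq fun b => by
    show algebraMap B L b ⊗ₜ[R] (1 : C) =
      Algebra.TensorProduct.map (IsScalarTower.toAlgHom R B L) (AlgHom.id R C) (b ⊗ₜ[R] (1 : C))
    simp
  haveI : IsLocalization (Algebra.algebraMapSubmonoid W (nonZeroDivisors B)) U :=
    IsLocalization.tensorProduct_tensorProduct R C (nonZeroDivisors B) L (RingHom.ext fun c => by
      show Algebra.TensorProduct.map (IsScalarTower.toAlgHom R B L) (AlgHom.id R C) ((1 : B) ⊗ₜ[R] c) = _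
      simp)
  haveI : IsNoetherianRing T := isNoetherianRing_of_ringEquiv _ (Algebra.TensorProduct.comm R C P).toRingEquiv
  haveI : IsNoetherianRing W := isNoetherianRing_of_surjective T W ρ.toRingHom hρ
  haveI : IsNoetherianRing U :=
    IsLocalization.isNoetherianRing (Algebra.algebraMapSubmonoid W (nonZeroDivisors B)) U inferInstance
  refine isRegularRing_iff.mpr fun Q hQ => ?_
  let QW : Ideal W := Q.comap (algebraMap W U)
  haveI : QW.IsPrime := hQ.comap _
  let p : Ideal T := QW.comap ρ
  haveI : p.IsPrime := Ideal.IsPrime.comap _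
  haveI : IsRegularLocalRing (Localization.AtPrime p) := IsRegularRing.isRegularLocalRing_localization p
  have hJp : a.map incl ≤ p := by
    rw [← hker]
    intro x hx
    show ρ x ∈ QW
    rw [hx]; exact QW.zero_mem
  haveI : (p.map (Ideal.Quotient.mk (a.map incl))).IsPrime :=
    Ideal.map_isPrime_of_surjective Ideal.Quotient.mk_surjective (by rw [Ideal.mk_ker]; exact hJp)
  have hnotmem : ∀ s : P, π s ≠ 0 → incl s ∉ p := by
    intro s hs hmem
    have h1 : algebraMap W U (ρ (incl s)) ∈ Q := hmem
    refine hQ.ne_top (Q.eq_top_of_isUnit_mem h1 ?_)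
    have h2 : algebraMap W U (ρ (incl s)) = algebraMap L U (π s) := by
      simp [RingHom.algebraMap_toAlgebra, ρ, incl, W, U]
      rfl
    rw [h2]
    exact (isUnit_iff_ne_zero.mpr hs).map _
  choose E hE using hDe
  have hreg : IsRegularLocalRing (Localization.AtPrime (p.map (Ideal.Quotient.mk (a.map incl)))) := by
    refine isRegular_of_det hJp E (fun j => incl (f j))
      (fun i => Ideal.mem_map_of_mem _ (hf i)) ?_ ?_
    · refine le_antisymm ?_ (Ideal.span_le.2 ?_)
      · rw [Ideal.map_le_iff_le_comap, Ideal.map_le_iff_le_comap]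
        intro x hx
        obtain ⟨s, hs, hsx⟩ := hgenf x hx
        rw [Ideal.mem_comap, Ideal.mem_comap]
        refine (Ideal.unit_mul_mem_iff_mem _ (IsLocalization.map_units (Localization.AtPrime p)
          (⟨incl s, hnotmem s hs⟩ : p.primeCompl))).mp ?_
        show algebraMap T _ (incl s) * algebraMap T _ (incl x) ∈ _
        rw [← map_mul, ← map_mul]
        have h3 := Ideal.mem_map_of_mem ((algebraMap T (Localization.AtPrime p)).comp incl.toRingHom) hsx
        rw [Ideal.map_span, ← Set.range_comp] at h3
        exact h3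
      · rintro _ ⟨i, rfl⟩
        exact Ideal.mem_map_of_mem _ (Ideal.mem_map_of_mem _ (hf i))
    · have h4 : (Matrix.of fun i j => E i (incl (f j))) =
          (Matrix.of fun i j => D i (f j)).map incl.toRingHom := by
        ext i j
        show E i (f j ⊗ₜ[R] (1 : C)) = D i (f j) ⊗ₜ[R] (1 : C)
        exact hE i (f j)
      rw [h4, ← RingHom.mapMatrix_apply, ← RingHom.map_det]
      refine hnotmem _ ?_
      show π.toRingHom _ ≠ 0
      rw [RingHom.map_det]
      exact hdet
  -- transport to `W` and localise
  let e : (T ⧸ a.map incl) ≃+* W :=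
    (Ideal.quotEquivOfEq hker.symm).trans (RingHom.quotientKerEquivOfSurjective hρ)
  have hcomap : QW.comap e.toRingHom = p.map (Ideal.Quotient.mk (a.map incl)) := by
    refine (Ideal.map_comap_of_surjective _ Ideal.Quotient.mk_surjective (QW.comap e.toRingHom)).symm.trans ?_
    congr 1
  haveI : IsRegularLocalRing (Localization.AtPrime (QW.comap e.toRingHom)) := by
    have main : ∀ (Q' : Ideal (T ⧸ a.map incl)) (_ : Q'.IsPrime),
        p.map (Ideal.Quotient.mk (a.map incl)) = Q' → IsRegularLocalRing (Localization.AtPrime Q') := by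
      rintro _ _ rfl
      exact hreg
    exact main _ inferInstance hcomap.symm
  haveI : IsRegularLocalRing (Localization.AtPrime QW) :=
    IsRegularLocalRing.of_ringEquiv (R := Localization.AtPrime (QW.comap e.toRingHom)) (IsLocalization.ringEquivOfRingEquiv
      (Localization.AtPrime (QW.comap e.toRingHom)) (Localization.AtPrime QW) e
      (M := (QW.comap e.toRingHom).primeCompl) (T := QW.primeCompl) (by
        ext x
        exact ⟨fun ⟨y, hy, hyx⟩ => hyx ▸ hy, fun hx => ⟨e.symm x, by
          show e (e.symm x) ∉ QW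
          rwa [e.apply_symm_apply], e.apply_symm_apply x⟩⟩))
  haveI : IsLocalization.AtPrime (Localization.AtPrime Q) QW :=
    IsLocalization.isLocalization_isLocalization_atPrime_isLocalization
      (Algebra.algebraMapSubmonoid W (nonZeroDivisors B)) (Localization.AtPrime Q) Q
  exact IsRegularLocalRing.of_ringEquiv (R := Localization.AtPrime QW) (IsLocalization.algEquiv QW.primeCompl
    (Localization.AtPrime QW) (Localization.AtPrime Q)).toRingEquiv

/-- `L` has a Jacobian model whose derivations cut out the `p`-th powers. -/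
def GoodJ (p : ℕ) (R C L : Type u) [CommRing R] [CommRing C] [Algebra R C] [Field L] [Algebra R L] : Prop :=
  ∃ (P : Type u) (_ : CommRing P) (_ : Algebra R P) (π : P →ₐ[R] L), IsModel R C π ∧ PK p R C π

theorem goodJ_of_isPurelyInseparable {p : ℕ} [Fact p.Prime] {R C : Type u} [CommRing R] [CharP R p]
    [CommRing C] [Algebra R C] (d : ℕ) :
    ∀ (M L : Type u) [Field M] [Field L] [Algebra R M] [Algebra R L] [Algebra M L]
      [IsScalarTower R M L] [Module.Finite M L] [IsPurelyInseparable M L] [CharP M p],
      Module.finrank M L ≤ d → GoodJ p R C M → GoodJ p R C L := by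
  induction d with
  | zero =>
    intro M L _ _ _ _ _ _ _ _ _ hd _
    exact absurd hd (by have := Module.finrank_pos (R := M) (M := L); omega)
  | succ d ih =>
    intro M L _ _ _ _ _ _ _ _ _ hd hM
    haveI : CharP L p := DerKernel.charP_of_algebra p M L
    haveI : ExpChar M p := ExpChar.prime Fact.out
    by_cases hsurj : Function.Surjective (algebraMap M L)
    · haveI : Algebra.IsSeparable M L := ⟨fun x => by
        obtain ⟨m, rfl⟩ := hsurj x
        exact isSeparable_algebraMap m⟩
      obtain ⟨P, _, _, π, hπ, hPK⟩ := hM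
      obtain ⟨P₁, i1, i2, π₁, h1, h2⟩ := exists_model_separable (L₁ := L) π hπ
      exact ⟨P₁, i1, i2, π₁, h1, h2 p hPK⟩
    obtain ⟨y₀, hy₀⟩ := not_forall.mp hsurj
    obtain ⟨y, hyM, hyp⟩ : ∃ y : L, y ∉ Set.range (algebraMap M L) ∧
        y ^ p ∈ Set.range (algebraMap M L) := by
      obtain ⟨n, hn⟩ := IsPurelyInseparable.pow_mem M p y₀
      have hn' : y₀ ^ p ^ n ∈ Set.range (algebraMap M L) := hn
      clear hn
      induction n generalizing y₀ with
      | zero => exact absurd (by simpa using hn') (by simpa using hy₀)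
      | succ n ihn =>
        by_cases hp1 : y₀ ^ p ∈ Set.range (algebraMap M L)
        · exact ⟨y₀, by simpa using hy₀, hp1⟩
        · exact ihn (y₀ ^ p) (by simpa using hp1) (by rw [← pow_mul, ← pow_succ']; exact hn')
    obtain ⟨f, hf⟩ := hyp
    let M₁ := IntermediateField.adjoin M ({y} : Set L)
    haveI : IsScalarTower R M M₁ := IsScalarTower.of_algebraMap_eq fun x =>
      Subtype.ext (IsScalarTower.algebraMap_apply R M L x)
    haveI : IsScalarTower R M₁ L := IsScalarTower.of_algebraMap_eq fun x => rfl
    haveI : CharP M₁ p := DerKernel.charP_of_algebra p M M₁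
    have hM₁ : GoodJ p R C M₁ := by
      obtain ⟨P, _, _, π, hπ, hPK⟩ := hM
      refine exists_model_pthRoot p π hπ hPK
        (⟨y, IntermediateField.mem_adjoin_simple_self M y⟩ : M₁) f (Subtype.ext hf.symm) ?_ ?_
      · rw [eq_top_iff]
        rintro ⟨z, hz⟩ -
        have hz' : z ∈ Algebra.adjoin M ({y} : Set L) := by
          rw [← IntermediateField.adjoin_simple_toSubalgebra_of_isAlgebraic
            (Algebra.IsAlgebraic.isAlgebraic y)]
          exact hz
        rw [Algebra.adjoin_singleton_eq_range_aeval] at hz' ⊢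
        obtain ⟨Q, hQ⟩ := hz'
        refine ⟨Q, Subtype.ext ?_⟩
        exact (Polynomial.aeval_algHom_apply (IntermediateField.val M₁) _ Q).symm.trans hQ
      · intro z hz
        refine hyM ⟨z, frobenius_inj L p ?_⟩
        rw [frobenius_def, frobenius_def, ← map_pow, hz, hf]
    haveI : IsPurelyInseparable M₁ L := IsPurelyInseparable.tower_top M M₁ L
    refine ih M₁ L ?_ hM₁
    have h1 : 1 < Module.finrank M M₁ := by
      rcases Nat.lt_or_ge 1 (Module.finrank M M₁) with h | h
      · exact h
      · exfalso
        have h2 := Module.finrank_pos (R := M) (M := M₁)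
        have hbot : M₁ = ⊥ := IntermediateField.finrank_eq_one_iff.mp (by omega)
        have hy : y ∈ (⊥ : IntermediateField M L) := hbot ▸ IntermediateField.mem_adjoin_simple_self M y
        exact hyM (IntermediateField.mem_bot.mp hy)
    have h2 := Module.finrank_mul_finrank M M₁ L
    have h3 := Module.finrank_pos (R := M₁) (M := L)
    nlinarith

theorem goodJ_of_finite {p : ℕ} [Fact p.Prime] {R C K L : Type u} [CommRing R] [CharP R p]
    [CommRing C] [Algebra R C]
    [Field K] [Field L] [Algebra R K] [Algebra R L] [Algebra K L] [IsScalarTower R K L]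
    [Module.Finite K L] [CharP K p] (h : GoodJ p R C K) : GoodJ p R C L := by
  haveI : CharP L p := DerKernel.charP_of_algebra p K L
  let Ls := separableClosure K L
  haveI : IsScalarTower R Ls L := IsScalarTower.of_algebraMap_eq fun x => rfl
  haveI : IsScalarTower R K Ls := IsScalarTower.of_algebraMap_eq fun x =>
    Subtype.ext (IsScalarTower.algebraMap_apply R K L x)
  haveI : CharP Ls p := DerKernel.charP_of_algebra p K Ls
  obtain ⟨P, _, _, π, hπ, hPK⟩ := h
  obtain ⟨P₁, i1, i2, π₁, h1, h2⟩ := exists_model_separable (L₁ := Ls) π hπ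
  exact goodJ_of_isPurelyInseparable _ Ls L le_rfl ⟨P₁, i1, i2, π₁, h1, h2 p hPK⟩

theorem isModel_self (R C K : Type u) [CommRing R] [CommRing C] [Algebra R C] [Field K] [Algebra R K]
    [IsFractionRing R K] : IsModel R C (Algebra.ofId R K) := by
  haveI : IsDomain R := (IsFractionRing.injective R K).isDomain (algebraMap R K)
  refine ⟨inferInstance, fun z => ?_, PEmpty, inferInstance, inferInstance, PEmpty.elim, PEmpty.elim,
    fun i => i.elim, fun i => i.elim, fun x hx => ?_, by simp⟩
  · obtain ⟨a, b, hb, rfl⟩ := IsFractionRing.div_surjective (A := R) z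
    have hb0 : algebraMap R K b ≠ 0 :=
      (map_ne_zero_iff _ (IsFractionRing.injective R K)).2 (nonZeroDivisors.ne_zero hb)
    exact ⟨a, b, hb0, div_mul_cancel₀ _ hb0⟩
  · obtain rfl : x = 0 := (map_eq_zero_iff _ (IsFractionRing.injective R K)).1 hx
    exact ⟨1, by simp, by simp⟩

/-- Regularity of the fibres over finite extensions of the fraction field. -/
theorem isRegularRing_tensor_of_base {R C K F : Type u} [CommRing R] [IsDomain R] [CommRing C]
    [Algebra R C] [IsNoetherianRing C] [IsRegularRing C] [Field K] [Algebra R K] [IsFractionRing R K]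
    [Field F] [Algebra R F] [Algebra K F] [IsScalarTower R K F] [Module.Finite K F]
    (h : CharZero R ∨ ∃ p : ℕ, p.Prime ∧ CharP R p ∧ DerKernel.PKer p R K ∧
      ∀ D : Derivation ℤ R R, ∃ E : Derivation ℤ C C, ∀ r, E (algebraMap R C r) = algebraMap R C (D r)) :
    IsRegularRing (F ⊗[R] C) := by
  rcases h with h0 | ⟨p, hp, hchar, hker, hext⟩
  · haveI : CharZero K := charZero_of_injective_algebraMap (IsFractionRing.injective R K)
    obtain ⟨P₁, _, _, π₁, h1, -⟩ := exists_model_separable (L₁ := F) _ (isModel_self R C K)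
    exact isRegularRing_tensor_of_model π₁ h1
  · haveI : Fact p.Prime := ⟨hp⟩
    haveI : CharP K p := charP_of_injective_algebraMap (IsFractionRing.injective R K) p
    have hK : GoodJ p R C K := by
      refine ⟨R, inferInstance, inferInstance, Algebra.ofId R K, isModel_self R C K, fun x hx => ?_⟩
      refine hker x fun D => (map_eq_zero_iff _ (IsFractionRing.injective R K)).1 (hx D ⟨?_, ?_⟩)
      · obtain ⟨E, hE⟩ := hext D
        exact ext_of_extends D E hE
      · intro z hz
        obtain rfl : z = 0 := (map_eq_zero_iff _ (IsFractionRing.injective R K)).1 hz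
        simp
    obtain ⟨P₁, _, _, π₁, h1, -⟩ := goodJ_of_finite (L := F) hK
    exact isRegularRing_tensor_of_model π₁ h1

end Groth.Agent.EGA4Lib.Jac
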