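import Groth.Agent.EGA4Lib.JacExt
import Groth.Agent.EGA4Lib.DerModel

/-!
# Jacobian models of field extensions (EGA 0_IV 22.7, IV 7.4)
-/

set_option autoImplicit false
set_option linter.style.haveILetI false

open TensorProduct Polynomial

namespace Groth.Agent.EGA4Lib.Jac

universe u

attribute [local instance 2000] Ring.toIntAlgebra

variable {R Cc : Type u} [CommRing R] [CommRing Cc] [Algebra R Cc]

/-- `L` is generated by a smooth algebra with kernel cut out by a Jacobian with extendable rows. -/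
def IsModel (R Cc : Type u) [CommRing R] [CommRing Cc] [Algebra R Cc] {P L : Type u} [CommRing P]
    [Algebra R P] [Field L] [Algebra R L] (π : P →ₐ[R] L) : Prop :=
  Algebra.Smooth R P ∧ (∀ z : L, ∃ a b : P, π b ≠ 0 ∧ z * π b = π a) ∧
    ∃ (ι : Type) (_ : Fintype ι) (_ : DecidableEq ι) (D : ι → Derivation ℤ P P) (f : ι → P),
      (∀ i, Ext R Cc (D i)) ∧ (∀ i, π (f i) = 0) ∧
      (∀ x, π x = 0 → ∃ s, π s ≠ 0 ∧ s * x ∈ Ideal.span (Set.range f)) ∧
      (Matrix.of fun i j => π (D i (f j))).det ≠ 0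

/-- An extendable derivation preserving the kernel. -/
def Adm (R Cc : Type u) [CommRing R] [CommRing Cc] [Algebra R Cc] {P L : Type u} [CommRing P]
    [Algebra R P] [Field L] [Algebra R L] (π : P →ₐ[R] L) (D : Derivation ℤ P P) : Prop :=
  Ext R Cc D ∧ ∀ z, π z = 0 → π (D z) = 0

/-- The admissible derivations cut out the `p`-th powers. -/
def PK (p : ℕ) (R Cc : Type u) [CommRing R] [CommRing Cc] [Algebra R Cc] {P L : Type u} [CommRing P]
    [Algebra R P] [Field L] [Algebra R L] (π : P →ₐ[R] L) : Prop :=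
  ∀ x : P, (∀ D : Derivation ℤ P P, Adm R Cc π D → π (D x) = 0) → ∃ y : L, y ^ p = π x

theorem derivation_iterate_zero {P : Type u} [CommRing P] (D : Derivation ℤ P P) (n : ℕ) :
    D^[n] 0 = 0 := Function.iterate_fixed (map_zero D) n

/-- The Frobenius linear algebra behind the inseparable step. -/
theorem exists_pow_of_forall' {p : ℕ} [Fact p.Prime] {P M : Type u} [CommRing P] [Field M]
    [CharP P p] [CharP M p] (χ : P →+* M) (S : Derivation ℤ P P → Prop)
    (hpres : ∀ D, S D → ∀ z, χ z = 0 → χ (D z) = 0)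
    (hsub : ∀ D D' (a b : P), S D → S D' → S (a • D + b • D'))
    (hbr : ∀ D D', S D → S D' → S ⁅D, D'⁆)
    (hit : ∀ D Dp : Derivation ℤ P P, S D → (∀ b, Dp b = D^[p] b) → S Dp)
    (hker : ∀ x : P, (∀ D, S D → χ (D x) = 0) → ∃ z : M, z ^ p = χ x)
    (E : Derivation ℤ P P) (hES : S E) (f e : P) (hE : E f = e)
    (he : ∀ D : Derivation ℤ P P, D e = 0) (he0 : χ e ≠ 0) (hpe : ∃ z : M, z ^ p = χ e)
    (hf : ∃ z : M, z ^ p = χ f) (a : P)
    (ha : ∀ D, S D → χ (D f) = 0 → χ (D a) = 0) : ∃ z : M, z ^ p = χ a := by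
  have hp : p.Prime := Fact.out
  let W : Set P := {a | ∀ D, S D → χ (D f) = 0 → χ (D a) = 0}
  have hWE : ∀ a ∈ W, E a ∈ W := by
    intro a ha D hDS hD
    have hcomm : χ (⁅D, E⁆ f) = 0 := by
      rw [Derivation.commutator_apply, hE, he D, map_sub, map_zero, hpres E hES _ hD, sub_zero]
    have h2 := ha _ (hbr D E hDS hES) hcomm
    rw [Derivation.commutator_apply, map_sub, hpres E hES _ (ha D hDS hD), sub_zero] at h2
    exact h2
  have hWEi : ∀ (i : ℕ) (a : P), a ∈ W → E^[i] a ∈ W := fun i => by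
    induction i with
    | zero => exact fun a ha => ha
    | succ i ih => intro a ha; rw [Function.iterate_succ_apply]; exact ih _ (hWE a ha)
  have hall : ∀ a ∈ W, χ (E a) = 0 → ∀ D, S D → χ (D a) = 0 := by
    intro a ha h0 D hDS
    have hD' : χ ((e • D + (-D f) • E) f) = 0 := by
      simp [hE]; ring
    have h := ha _ (hsub D E e (-D f) hDS hES) hD'
    simp only [Derivation.coe_add, Pi.add_apply, Derivation.coe_smul, Pi.smul_apply, smul_eq_mul,
      map_add, map_mul, h0, mul_zero, add_zero] at h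
    exact (mul_eq_zero.mp h).resolve_left he0
  have key : ∀ i : ℕ, i < p → ∀ a ∈ W, χ (E^[i + 1] a) = 0 → ∃ z : M, z ^ p = χ a := by
    intro i
    induction i with
    | zero => exact fun _ a ha h0 => hker a (hall a ha h0)
    | succ i ih =>
      intro hi a ha h0
      set y := E^[i + 1] a with hy
      have hy0 : ∀ D, S D → χ (D y) = 0 :=
        hall y (hWEi _ a ha) (by rw [hy, ← Function.iterate_succ_apply' E (i + 1) a]; exact h0)
      have hyf : ∀ j m : ℕ,
          χ (E^[j] (y * f ^ m) - (m.descFactorial j : P) * e ^ j * (y * f ^ (m - j))) = 0 := by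
        intro j
        induction j with
        | zero => intro m; simp
        | succ j ihj =>
          intro m
          have h3 := hpres E hES _ (ihj m)
          rw [map_sub, ← Function.iterate_succ_apply' E, map_sub] at h3
          rw [map_sub, sub_eq_zero.mp h3, ← map_sub]
          simp only [Derivation.leibniz, Derivation.map_natCast, Derivation.leibniz_pow, he E, hE,
            Nat.descFactorial_succ, Nat.cast_mul, Nat.sub_sub]
          simp only [smul_eq_mul, nsmul_eq_mul, mul_zero, add_zero, map_add, map_sub, map_mul,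
            map_pow, map_natCast, hy0 E hES]
          ring
      have hlin : ∀ (j : ℕ) (c : P), (∀ D : Derivation ℤ P P, D c = 0) → ∀ u v : P,
          E^[j] (c * u - v) = c * E^[j] u - E^[j] v := by
        intro j c hc
        induction j with
        | zero => simp
        | succ j ihj =>
          intro u v
          simp only [Function.iterate_succ_apply', ihj, map_sub, Derivation.leibniz, hc,
            smul_zero, add_zero, smul_eq_mul, mul_zero]
      let c : P := ((i + 1).factorial : P) * e ^ (i + 1)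
      have hc : ∀ D : Derivation ℤ P P, D c = 0 := fun D => by
        simp [c, Derivation.leibniz, Derivation.leibniz_pow, he D]
      let a' : P := c * a - y * f ^ (i + 1)
      have ha' : a' ∈ W := fun D hDS hD => by
        show χ (D (c * a - y * f ^ (i + 1))) = 0
        rw [map_sub, Derivation.leibniz, hc D, Derivation.leibniz, Derivation.leibniz_pow]
        simp [hy0 D hDS, hD, ha D hDS hD]
      have h1 : χ (E^[i + 1] a') = 0 := by
        have h4 := hyf (i + 1) (i + 1)
        rw [Nat.descFactorial_self, Nat.sub_self, pow_zero, mul_one, map_sub, sub_eq_zero] at h4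
        rw [hlin _ c hc, map_sub, h4, ← hy, ← map_sub]
        simp [c]
      obtain ⟨z₁, hz₁⟩ := ih (by omega) a' ha' h1
      obtain ⟨z₂, hz₂⟩ := hker y hy0
      obtain ⟨z₃, hz₃⟩ := hf
      obtain ⟨z₄, hz₄⟩ := hpe
      have hfac : ((i + 1).factorial : M) ≠ 0 := by
        rw [Ne, CharP.cast_eq_zero_iff M p, hp.dvd_factorial]
        omega
      obtain ⟨w, hw⟩ : ∃ w : M, w ^ p = ((i + 1).factorial : M) :=
        ⟨((i + 1).factorial : M), by rw [← frobenius_def, map_natCast]⟩
      refine ⟨(z₁ + z₂ * z₃ ^ (i + 1)) / (w * z₄ ^ (i + 1)), ?_⟩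
      rw [div_pow, mul_pow w, hw, add_pow_char, mul_pow, hz₁, hz₂, ← pow_mul z₃, ← pow_mul z₄,
        mul_comm (i + 1) p, pow_mul, hz₃, pow_mul, hz₄,
        div_eq_iff (mul_ne_zero hfac (pow_ne_zero _ he0))]
      show χ (c * a - y * f ^ (i + 1)) + χ y * χ f ^ (i + 1) = _
      simp only [c, map_sub, map_mul, map_pow, map_natCast]
      ring
  refine key (p - 1) (by have := hp.pos; omega) a ha ?_
  rw [Nat.sub_add_cancel hp.one_le]
  obtain ⟨Ep, hEp⟩ := Hoch95.exists_iterPow p E
  rw [← hEp]
  refine ha Ep (hit E Ep hES hEp) ?_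
  rw [hEp, show p = (p - 2) + 1 + 1 by have := hp.two_le; omega, Function.iterate_succ_apply,
    hE, Function.iterate_succ_apply, he E, derivation_iterate_zero, map_zero]

theorem coeff_polyDer {P : Type u} [CommRing P] (D : Derivation ℤ P P) (Q : P[X]) (i : ℕ) :
    (DerKernel.polyDer D 0 Q).coeff i = D (Q.coeff i) := by
  induction Q using Polynomial.induction_on' with
  | add a b ha hb => rw [map_add, coeff_add, coeff_add, map_add, ha, hb]
  | monomial n b =>
    rw [← C_mul_X_pow_eq_monomial, Derivation.leibniz, Derivation.leibniz_pow, DerKernel.polyDer_X,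
      DerKernel.polyDer_C]
    simp only [smul_zero, smul_eq_mul, zero_add, mul_comm (X ^ n : P[X]), coeff_C_mul_X_pow]
    split_ifs with h <;> simp [coeff_monomial, h, eq_comm]

section step

variable {P L L₁ : Type u} [CommRing P] [Algebra R P] [Field L] [Algebra R L] [Field L₁]
  [Algebra R L₁] [Algebra L L₁] [IsScalarTower R L L₁] (π : P →ₐ[R] L) (α : L₁)

/-- The extended map `P[X] → L₁`. -/
noncomputable def ev : P[X] →ₐ[R] L₁ :=
  { eval₂RingHom ((algebraMap L L₁).comp π.toRingHom) α with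
    commutes' := fun r => by
      show eval₂ ((algebraMap L L₁).comp π.toRingHom) α (algebraMap R P[X] r) = _
      rw [IsScalarTower.algebraMap_apply R P P[X], Polynomial.algebraMap_eq, eval₂_C,
        RingHom.comp_apply, AlgHom.toRingHom_eq_coe, RingHom.coe_coe, π.commutes,
        ← IsScalarTower.algebraMap_apply] }

theorem ev_apply (Q : P[X]) : ev π α Q = aeval α (Q.map π.toRingHom) := by
  rw [aeval_def, eval₂_map]
  rfl

theorem ev_C (x : P) : ev π α (C x) = algebraMap L L₁ (π x) := eval₂_C _ _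

theorem ev_X : ev π α (X : P[X]) = α := eval₂_X _ _

variable {π α}

theorem ev_eq_zero {g Q : P[X]} (hg : g.Monic) (hmap : g.map π.toRingHom = minpoly L α)
    (h : ev π α Q = 0) : ∀ i, π ((Q %ₘ g).coeff i) = 0 := by
  intro i
  haveI : Nontrivial P := π.toRingHom.domain_nontrivial
  have h1 : ev π α (Q %ₘ g) = 0 := by
    have hg0 : ev π α g = 0 := by rw [ev_apply, hmap, minpoly.aeval]
    conv_lhs at h => rw [← Polynomial.modByMonic_add_div Q g, map_add, map_mul, hg0, zero_mul, add_zero]
    exact h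
  rw [ev_apply] at h1
  by_contra hne
  have hR : (Q %ₘ g).map π.toRingHom ≠ 0 := fun h0 => hne (by
    simpa using congrArg (fun q : L[X] => q.coeff i) h0)
  have h2 := minpoly.degree_le_of_ne_zero L α hR h1
  rw [← hmap, hg.degree_map] at h2
  exact absurd ((h2.trans (degree_map_le)).trans_lt (Polynomial.degree_modByMonic_lt Q hg)) (lt_irrefl _)

theorem ev_eq_zero_of_coeff {Q : P[X]} (h : ∀ i, π (Q.coeff i) = 0) : ev π α Q = 0 := by
  have h0 : Q.map π.toRingHom = 0 := Polynomial.ext fun i => by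
    rw [coeff_map, coeff_zero]; exact h i
  rw [ev_apply, h0, map_zero]

theorem adm_polyDer {g : P[X]} (hg : g.Monic) (hmap : g.map π.toRingHom = minpoly L α)
    {D : Derivation ℤ P P} (hD : Adm R Cc π D) {v : P[X]}
    (hv : ev π α (DerKernel.polyDer D v g) = 0) : Adm R Cc (ev π α) (DerKernel.polyDer D v) := by
  refine ⟨ext_polyDer hD.1 v, fun Q hQ => ?_⟩
  have hc := ev_eq_zero hg hmap hQ
  have hg0 : ev π α g = 0 := by rw [ev_apply, hmap, minpoly.aeval]
  have hr : ev π α (DerKernel.polyDer D v (Q %ₘ g)) = 0 := by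
    rw [DerKernel.polyDer_eq, map_add, map_mul,
      ev_eq_zero_of_coeff (Q := DerKernel.polyDer D 0 (Q %ₘ g))
        (fun i => by rw [coeff_polyDer]; exact hD.2 _ (hc i)),
      ev_eq_zero_of_coeff (Q := derivative (Q %ₘ g))
        (fun i => by rw [coeff_derivative, map_mul, hc, zero_mul]), mul_zero, add_zero]
  conv_lhs => rw [← Polynomial.modByMonic_add_div Q g]
  rw [map_add, Derivation.leibniz, map_add, map_add, hr, smul_eq_mul, smul_eq_mul, map_mul, map_mul,
    hv, hg0, mul_zero, zero_mul, add_zero, add_zero]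

theorem ev_sub_modByMonic {g : P[X]} (hmap : g.map π.toRingHom = minpoly L α) (Q : P[X]) :
    ev π α (Q - Q %ₘ g) = 0 := by
  have hg0 : ev π α g = 0 := by rw [ev_apply, hmap, minpoly.aeval]
  rw [show Q - Q %ₘ g = g * (Q /ₘ g) by
    conv_lhs => arg 1; rw [← Polynomial.modByMonic_add_div Q g]
    ring, map_mul, hg0, zero_mul]

theorem exists_frac (hπ : ∀ z : L, ∃ a b : P, π b ≠ 0 ∧ z * π b = π a)
    (hgen : Algebra.adjoin L {α} = ⊤) (z : L₁) :
    ∃ (A : P[X]) (b : P), π b ≠ 0 ∧ z * algebraMap L L₁ (π b) = ev π α A := by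
  obtain ⟨Q, rfl⟩ : ∃ Q : L[X], aeval α Q = z := by
    have hz : z ∈ Algebra.adjoin L {α} := hgen ▸ Algebra.mem_top
    rw [Algebra.adjoin_singleton_eq_range_aeval] at hz
    exact hz
  induction Q using Polynomial.induction_on' with
  | add q r hq hr =>
    obtain ⟨A, b, hb, hA⟩ := hq
    obtain ⟨A', b', hb', hA'⟩ := hr
    refine ⟨A * C b' + A' * C b, b * b', by rw [map_mul]; exact mul_ne_zero hb hb', ?_⟩
    simp only [map_add, map_mul, ev_C, ← hA, ← hA']
    ring
  | monomial n c =>
    obtain ⟨a, b, hb, hab⟩ := hπ c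
    refine ⟨C a * X ^ n, b, hb, ?_⟩
    rw [aeval_monomial, map_mul, map_pow, ev_C, ev_X, ← hab, map_mul]
    ring

theorem isModel_step [IsDomain L] {g : P[X]} (hg : g.Monic) (hmap : g.map π.toRingHom = minpoly L α)
    (hgen : Algebra.adjoin L {α} = ⊤) (hπ : IsModel R Cc π) (Dlast : Derivation ℤ P[X] P[X])
    (hext : Ext R Cc Dlast) (hzero : ∀ x, π x = 0 → ev π α (Dlast (C x)) = 0)
    (hne : ev π α (Dlast g) ≠ 0) : IsModel R Cc (ev π α) := by
  classical
  obtain ⟨hsm, hfrac, ι, _, _, D, f, hDe, hf, hgenf, hdet⟩ := hπ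
  haveI := hsm
  haveI : Algebra.Smooth P P[X] := ⟨inferInstance, Algebra.FinitePresentation.equiv (MvPolynomial.uniqueAlgEquiv.{_, 0} P PUnit)⟩
  refine ⟨Algebra.Smooth.comp R P P[X], fun z => ?_, ι ⊕ Unit, inferInstance, inferInstance,
    Sum.elim (fun i => DerKernel.polyDer (D i) 0) (fun _ => Dlast),
    Sum.elim (fun j => C (f j)) (fun _ => g), ?_, ?_, ?_, ?_⟩
  · obtain ⟨A, b, hb, hA⟩ := exists_frac hfrac hgen z
    refine ⟨A, C b, ?_, by rw [ev_C]; exact hA⟩
    rw [ev_C]
    exact (_root_.map_ne_zero _).mpr hb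
  · rintro (i | i)
    · exact ext_polyDer (hDe i) 0
    · exact hext
  · rintro (i | i)
    · show ev π α (C (f i)) = 0
      rw [ev_C, hf, map_zero]
    · show ev π α g = 0
      rw [ev_apply, hmap, minpoly.aeval]
  · intro Q hQ
    have hc := ev_eq_zero hg hmap hQ
    choose s hs hsf using fun i => hgenf _ (hc i)
    refine ⟨C (∏ i ∈ (Q %ₘ g).support, s i), ?_, ?_⟩
    · rw [ev_C, map_prod, map_prod, Finset.prod_ne_zero_iff]
      exact fun i _ => (_root_.map_ne_zero _).mpr (hs i)
    · rw [Set.Sum.elim_range, Ideal.span_union]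
      rw [show C (∏ i ∈ (Q %ₘ g).support, s i) * Q = C (∏ i ∈ (Q %ₘ g).support, s i) * (Q %ₘ g) +
        C (∏ i ∈ (Q %ₘ g).support, s i) * (g * (Q /ₘ g)) by
          rw [← mul_add, Polynomial.modByMonic_add_div]]
      refine Submodule.add_mem_sup ?_
        (Ideal.mul_mem_left _ _ (Ideal.mul_mem_right _ _ (Ideal.subset_span ⟨(), rfl⟩)))
      have h1 : Ideal.span (Set.range fun j => C (f j)) = (Ideal.span (Set.range f)).map C := by
        rw [Ideal.map_span, ← Set.range_comp]; rfl
      rw [h1, Ideal.mem_map_C_iff]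
      intro n
      rw [coeff_C_mul]
      by_cases hn : n ∈ (Q %ₘ g).support
      · rw [← Finset.prod_erase_mul _ _ hn, mul_assoc]
        exact Ideal.mul_mem_left _ _ (hsf n)
      · rw [notMem_support_iff.mp hn, mul_zero]
        exact Ideal.zero_mem _
  · let M := Matrix.of fun (i j : ι ⊕ Unit) =>
      ev π α (Sum.elim (fun i => DerKernel.polyDer (D i) 0) (fun _ => Dlast) i
        (Sum.elim (fun j => C (f j)) (fun _ => g) j))
    show M.det ≠ 0
    have hM : M = Matrix.fromBlocks ((Matrix.of fun i j => π (D i (f j))).map (algebraMap L L₁))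
        (Matrix.of fun i (_ : Unit) => ev π α (DerKernel.polyDer (D i) 0 g)) 0
        (Matrix.of fun (_ : Unit) (_ : Unit) => ev π α (Dlast g)) := by
      ext i j
      rcases i with i | i <;> rcases j with j | j
      · show ev π α (DerKernel.polyDer (D i) 0 (C (f j))) = _
        rw [DerKernel.polyDer_C, ev_C]
        rfl
      · rfl
      · exact hzero _ (hf j)
      · rfl
    rw [hM, Matrix.det_fromBlocks_zero₂₁]
    refine mul_ne_zero ?_ (by rw [Matrix.det_unique]; exact hne)
    rw [← RingHom.mapMatrix_apply, ← RingHom.map_det]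
    exact (_root_.map_ne_zero _).mpr hdet

theorem adm_zero_one {g : P[X]} (hg : g.Monic) (hmap : g.map π.toRingHom = minpoly L α)
    (h : ev π α (derivative g) = 0) :
    Adm R Cc (ev π α) (DerKernel.polyDer (0 : Derivation ℤ P P) 1) :=
  adm_polyDer hg hmap ⟨Ext.zero, fun z _ => by simp⟩ (by rw [DerKernel.polyDer_zero]; exact h)

end step

theorem exists_scaled_minpoly {P L L₁ : Type u} [CommRing P] [Algebra R P] [Field L] [Algebra R L]
    [Field L₁] [Algebra L L₁] [Module.Finite L L₁] (π : P →ₐ[R] L)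
    (hπ : ∀ z : L, ∃ a b : P, π b ≠ 0 ∧ z * π b = π a) (α : L₁)
    (hgen : Algebra.adjoin L {α} = ⊤) :
    ∃ (α' : L₁) (g : P[X]), g.Monic ∧ Algebra.adjoin L {α'} = ⊤ ∧
      g.map π.toRingHom = minpoly L α' := by
  classical
  have hint : IsIntegral L α := IsIntegral.of_finite L α
  set μ := minpoly L α
  choose a b hb hab using fun i => hπ (μ.coeff i)
  let s : P := ∏ i ∈ Finset.range μ.natDegree, b i
  have hs : π s ≠ 0 := by
    rw [map_prod, Finset.prod_ne_zero_iff]; exact fun i _ => hb i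
  let α' := algebraMap L L₁ (π s) * α
  have hgen' : Algebra.adjoin L {α'} = ⊤ := by
    rw [eq_top_iff, ← hgen]
    refine Algebra.adjoin_le (Set.singleton_subset_iff.mpr ?_)
    rw [show α = algebraMap L L₁ (π s)⁻¹ * α' by
      simp only [α']
      rw [← mul_assoc, ← map_mul, inv_mul_cancel₀ hs, map_one, one_mul]]
    exact mul_mem (Subalgebra.algebraMap_mem _ _) (Algebra.subset_adjoin (Set.mem_singleton _))
  have hfin : ∀ x : L₁, Algebra.adjoin L {x} = ⊤ → (minpoly L x).natDegree = Module.finrank L L₁ := by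
    intro x hx
    refine (Field.primitive_element_iff_minpoly_natDegree_eq L x).mp ?_
    apply IntermediateField.toSubalgebra_injective
    rw [IntermediateField.adjoin_simple_toSubalgebra_of_isAlgebraic (IsIntegral.of_finite L x).isAlgebraic,
      hx, IntermediateField.top_toSubalgebra]
  have hmin : μ.scaleRoots (π s) = minpoly L α' := by
    refine minpoly.unique L α' ((monic_scaleRoots_iff _).mpr (minpoly.monic hint))
      (scaleRoots_aeval_eq_zero (minpoly.aeval L α)) fun q hq hq0 => ?_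
    refine le_trans ?_ (minpoly.min L α' hq hq0)
    rw [degree_scaleRoots, degree_eq_natDegree (minpoly.ne_zero hint),
      degree_eq_natDegree (minpoly.ne_zero (IsIntegral.of_finite L α')), hfin α hgen, hfin α' hgen']
  have hlifts : μ.scaleRoots (π s) ∈ Polynomial.lifts π.toRingHom := by
    rw [lifts_iff_coeff_lifts]
    intro n
    rw [coeff_scaleRoots]
    rcases lt_trichotomy n μ.natDegree with hn | hn | hn
    · refine ⟨a n * (∏ i ∈ (Finset.range μ.natDegree).erase n, b i) * s ^ (μ.natDegree - n - 1), ?_⟩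
      show π _ = _
      rw [map_mul, map_mul, map_pow, ← hab, show π s ^ (μ.natDegree - n) =
        π s * π s ^ (μ.natDegree - n - 1) by rw [← pow_succ']; congr 1; omega]
      have hps : π s = π (∏ i ∈ (Finset.range μ.natDegree).erase n, b i) * π (b n) := by
        rw [← map_mul, Finset.prod_erase_mul _ _ (Finset.mem_range.mpr hn)]
      rw [hps]; ring
    · refine ⟨1, ?_⟩
      subst hn
      simp [(minpoly.monic hint).coeff_natDegree, μ]
    · exact ⟨0, by simp [coeff_eq_zero_of_natDegree_lt hn]⟩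
  obtain ⟨g, hg, -, hgm⟩ := lifts_and_degree_eq_and_monic hlifts ((monic_scaleRoots_iff _).mpr (minpoly.monic hint))
  exact ⟨α', g, hgm, hgen', hg.trans hmin⟩

/-- The separable step. -/
theorem exists_model_separable {P L L₁ : Type u} [CommRing P] [Algebra R P] [Field L] [Algebra R L]
    [Field L₁] [Algebra R L₁] [Algebra L L₁] [IsScalarTower R L L₁] [Module.Finite L L₁]
    [Algebra.IsSeparable L L₁] (π : P →ₐ[R] L) (hπ : IsModel R Cc π) :
    ∃ (P₁ : Type u) (_ : CommRing P₁) (_ : Algebra R P₁) (π₁ : P₁ →ₐ[R] L₁), IsModel R Cc π₁ ∧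
      ∀ (p : ℕ) [Fact p.Prime] [CharP L p], PK p R Cc π → PK p R Cc π₁ := by
  classical
  obtain ⟨α₀, hα₀⟩ := Field.exists_primitive_element L L₁
  have hgen₀ : Algebra.adjoin L {α₀} = ⊤ := by
    rw [← IntermediateField.adjoin_simple_toSubalgebra_of_isAlgebraic
      (Algebra.IsAlgebraic.isAlgebraic α₀), hα₀, IntermediateField.top_toSubalgebra]
  obtain ⟨α, g, hg, hgen, hmap⟩ := exists_scaled_minpoly π hπ.2.1 α₀ hgen₀
  have hsep : IsSeparable L α := Algebra.IsSeparable.isSeparable L α
  have hder : ev π α (derivative g) ≠ 0 := by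
    rw [ev_apply, ← derivative_map, hmap]
    exact hsep.aeval_derivative_ne_zero (minpoly.aeval L α)
  have hmodel := isModel_step hg hmap hgen hπ (DerKernel.polyDer (0 : Derivation ℤ P P) 1)
    (ext_polyDer Ext.zero 1) (fun x _ => by rw [DerKernel.polyDer_C]; simp)
    (by rw [DerKernel.polyDer_zero]; exact hder)
  refine ⟨P[X], inferInstance, inferInstance, ev π α, hmodel, ?_⟩
  intro p _ _ hPK
  have hp : p.Prime := Fact.out
  haveI : CharP L₁ p := DerKernel.charP_of_algebra p L L₁
  have hαint : IsIntegral L α := hsep.isIntegral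
  have htop : Algebra.adjoin L {α ^ p} = ⊤ := by
    rw [← IntermediateField.adjoin_simple_toSubalgebra_of_isAlgebraic (hαint.pow p).isAlgebraic,
      ← IntermediateField.adjoin_simple_eq_adjoin_pow_expChar_of_isSeparable L L₁ hsep p,
      IntermediateField.adjoin_simple_toSubalgebra_of_isAlgebraic hαint.isAlgebraic, hgen]
  let pb := PowerBasis.ofAdjoinEqTop (hαint.pow p) htop
  have hpb : pb.gen = α ^ p := PowerBasis.ofAdjoinEqTop_gen _ _
  intro x hx
  choose a b hb hab using fun i => hπ.2.1 (pb.basis.repr (ev π α x) i)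
  let s : P := ∏ i, b i
  let γ : Fin pb.dim → P := fun i => s ^ (p - 1) * (a i * ∏ j ∈ Finset.univ.erase i, b j)
  have hs : π s ≠ 0 := by rw [map_prod, Finset.prod_ne_zero_iff]; exact fun i _ => hb i
  have hγ : ∀ i, π (γ i) = π s ^ p * pb.basis.repr (ev π α x) i := by
    intro i
    have hps : π s = π (∏ j ∈ Finset.univ.erase i, b j) * π (b i) := by
      rw [← map_mul, Finset.prod_erase_mul _ _ (Finset.mem_univ i)]
    rw [map_mul, map_mul, map_pow, ← hab, ← pow_sub_one_mul hp.ne_zero (π s)]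
    rw [hps]; ring
  let z : P[X] := C s ^ p * x - ∑ i, C (γ i) * (X ^ (i : ℕ)) ^ p
  have hz : ev π α z = 0 := by
    have hsum : ev π α x = ∑ i, pb.basis.repr (ev π α x) i • pb.basis i := (pb.basis.sum_repr _).symm
    simp only [z, map_sub, map_mul, map_pow, map_sum, ev_C, ev_X]
    rw [sub_eq_zero, hsum, Finset.mul_sum]
    refine Finset.sum_congr rfl fun i _ => ?_
    rw [pb.coe_basis]
    simp only [hpb, Algebra.smul_def, hγ, map_mul, map_pow, ← pow_mul]
    ring
  haveI : CharP P[X] p ∨ True := Or.inr trivial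
  have hkill : ∀ i, ∀ D : Derivation ℤ P P, Adm R Cc π D → π (D (γ i)) = 0 := by
    intro i D hD
    obtain ⟨A, c, hc, hA⟩ := exists_frac hπ.2.1 hgen
      (-(ev π α (DerKernel.polyDer D 0 g)) / ev π α (derivative g))
    have hv : ev π α (DerKernel.polyDer (c • D) A g) = 0 := by
      rw [DerKernel.polyDer_eq, DerKernel.polyDer_smul, map_add, map_mul, map_mul, ev_C, ← hA]
      field_simp
      ring
    have hD' : Adm R Cc (ev π α) (DerKernel.polyDer (c • D) A) :=
      adm_polyDer hg hmap ⟨hD.1.smul c, fun w hw => by simp [hD.2 w hw]⟩ hv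
    set D' := DerKernel.polyDer (c • D) A
    have h0 := hD'.2 z hz
    have hpow : ∀ w : P[X], ev π α (D' (w ^ p)) = 0 := fun w => by
      rw [Derivation.leibniz_pow, map_nsmul, ← Nat.cast_smul_eq_nsmul L₁, CharP.cast_eq_zero,
        zero_smul]
    have h1 : ev π α (D' (C s ^ p * x)) = 0 := by
      rw [Derivation.leibniz, map_add, smul_eq_mul, smul_eq_mul, map_mul, map_mul, hpow, hx D' hD',
        mul_zero, mul_zero, add_zero]
    rw [map_sub, map_sub, h1, zero_sub, neg_eq_zero, map_sum, map_sum] at h0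
    have h4 := Fintype.linearIndependent_iff.mp pb.basis.linearIndependent
      (fun j => π c * π (D (γ j))) (by
        rw [← h0]
        refine Finset.sum_congr rfl fun j _ => ?_
        rw [Derivation.leibniz D', map_add, smul_eq_mul, smul_eq_mul, map_mul (ev π α), map_mul (ev π α), hpow, mul_zero,
          zero_add, pb.coe_basis]
        simp only [D', DerKernel.polyDer_C, ev_C, map_pow, ev_X, hpb, Algebra.smul_def,
          Derivation.coe_smul, Pi.smul_apply, Algebra.algebraMap_self, RingHom.id_apply, map_mul, ← pow_mul]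
        ring) i
    exact (mul_eq_zero.mp h4).resolve_left hc
  choose y hy using fun i => hPK (γ i) (hkill i)
  refine ⟨(∑ i, algebraMap L L₁ (y i) * α ^ (i : ℕ)) / algebraMap L L₁ (π s), ?_⟩
  rw [div_pow, sum_pow_char, div_eq_iff (pow_ne_zero _ ((_root_.map_ne_zero _).mpr hs))]
  have hsum : ev π α x = ∑ i, pb.basis.repr (ev π α x) i • pb.basis i := (pb.basis.sum_repr _).symm
  rw [hsum, Finset.sum_mul]
  refine Finset.sum_congr rfl fun i _ => ?_
  rw [mul_pow, ← map_pow, hy, hγ, pb.coe_basis]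
  simp only [hpb, Algebra.smul_def, map_mul, map_pow, ← pow_mul]
  ring

/-- The inseparable step. -/
theorem exists_model_pthRoot (p : ℕ) [Fact p.Prime] [CharP R p] {P L L₁ : Type u} [CommRing P]
    [Algebra R P] [Field L] [Algebra R L] [CharP L p] [Field L₁] [Algebra R L₁] [Algebra L L₁]
    [IsScalarTower R L L₁] (π : P →ₐ[R] L) (hπ : IsModel R Cc π) (hPK : PK p R Cc π) (α₀ : L₁) (f₀ : L)
    (hα₀ : α₀ ^ p = algebraMap L L₁ f₀) (hgen₀ : Algebra.adjoin L {α₀} = ⊤)
    (hf₀ : ∀ y : L, y ^ p ≠ f₀) :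
    ∃ (P₁ : Type u) (_ : CommRing P₁) (_ : Algebra R P₁) (π₁ : P₁ →ₐ[R] L₁),
      IsModel R Cc π₁ ∧ PK p R Cc π₁ := by
  have hp : p.Prime := Fact.out
  haveI : CharP L₁ p := DerKernel.charP_of_algebra p L L₁
  haveI : Nontrivial P := π.toRingHom.domain_nontrivial
  haveI : CharP P p := (CharP.charP_iff_prime_eq_zero hp).mpr (by
    rw [← map_natCast (algebraMap R P), CharP.cast_eq_zero, map_zero])
  obtain ⟨a, b, hb, hab⟩ := hπ.2.1 f₀
  let f : P := a * b ^ (p - 1)
  have hf : π f = f₀ * π b ^ p := by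
    rw [map_mul, map_pow, ← hab, ← pow_sub_one_mul hp.ne_zero (π b)]
    ring
  have hnp : ∀ y : L, y ^ p ≠ π f := fun y hy => hf₀ (y / π b) (by
    rw [div_pow, hy, hf, mul_div_cancel_right₀ _ (pow_ne_zero _ hb)])
  let α : L₁ := α₀ * algebraMap L L₁ (π b)
  have hα : α ^ p = algebraMap L L₁ (π f) := by
    rw [mul_pow, hα₀, hf, map_mul, map_pow]
  have hgen : Algebra.adjoin L {α} = ⊤ := by
    rw [eq_top_iff, ← hgen₀]
    refine Algebra.adjoin_le (Set.singleton_subset_iff.mpr ?_)
    rw [show α₀ = algebraMap L L₁ (π b)⁻¹ * α by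
      simp only [α]
      rw [mul_comm α₀, ← mul_assoc, ← map_mul, inv_mul_cancel₀ hb, map_one, one_mul]]
    exact mul_mem (Subalgebra.algebraMap_mem _ _) (Algebra.subset_adjoin (Set.mem_singleton _))
  obtain ⟨D, hD, hDf⟩ : ∃ D : Derivation ℤ P P, Adm R Cc π D ∧ π (D f) ≠ 0 := by
    by_contra hcon
    push Not at hcon
    obtain ⟨y, hy⟩ := hPK f hcon
    exact hnp y hy
  let E : Derivation ℤ P P := (D f) ^ (p - 1) • D
  let e : P := (D f) ^ p
  have hE : E f = e := by
    show (D f) ^ (p - 1) * D f = (D f) ^ p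
    exact pow_sub_one_mul hp.ne_zero _
  have he : ∀ D' : Derivation ℤ P P, D' e = 0 := fun D' => DerKernel.derivation_pow_char p D' _
  have he0 : π e ≠ 0 := by rw [map_pow]; exact pow_ne_zero _ hDf
  have hEadm : Adm R Cc π E := ⟨hD.1.smul _, fun z hz => by simp [E, hD.2 z hz]⟩
  let g : P[X] := X ^ p - C f
  have hg : g.Monic := monic_X_pow_sub_C _ hp.ne_zero
  have hmap' : g.map π.toRingHom = X ^ p - C (π f) := by simp [g]
  have hmap : g.map π.toRingHom = minpoly L α := by
    refine minpoly.eq_of_irreducible_of_monic ?_ ?_ (hg.map _)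
    · rw [hmap']; exact X_pow_sub_C_irreducible_of_prime hp hnp
    · rw [hmap']; simp [hα]
  have hgp : derivative g = 0 := by
    rw [derivative_sub, derivative_X_pow, derivative_C, sub_zero, CharP.cast_eq_zero P p, map_zero,
      zero_mul]
  have hpolyg : ∀ D' : Derivation ℤ P P, ev π α (DerKernel.polyDer D' 0 g) = -algebraMap L L₁ (π (D' f)) := by
    intro D'
    rw [map_sub, Derivation.leibniz_pow, DerKernel.polyDer_X, DerKernel.polyDer_C]
    simp [ev_C]
  have hmodel := isModel_step hg hmap hgen hπ (DerKernel.polyDer E 0) (ext_polyDer hEadm.1 0)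
    (fun x hx => by rw [DerKernel.polyDer_C, ev_C, hEadm.2 x hx, map_zero])
    (by rw [hpolyg, hE]; simpa using he0)
  refine ⟨P[X], inferInstance, inferInstance, ev π α, hmodel, fun x hx => ?_⟩
  set r := x %ₘ g with hr
  have hxr : ev π α x = ev π α r := by
    rw [← sub_eq_zero, ← map_sub]; exact ev_sub_modByMonic hmap x
  have hev : ∀ D', Adm R Cc (ev π α) D' → ev π α (D' r) = 0 := fun D' hD' => by
    have := hD'.2 _ (ev_sub_modByMonic hmap x)
    rw [map_sub, map_sub, hx D' hD', zero_sub, neg_eq_zero] at this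
    exact this
  have hdeg : r.degree < (p : WithBot ℕ) := by
    have := Polynomial.degree_modByMonic_lt x hg
    rwa [degree_X_pow_sub_C hp.pos f] at this
  have hzero : ∀ Q : L[X], Q.degree < (p : WithBot ℕ) → aeval α Q = 0 → Q = 0 := fun Q hQ h0 => by
    by_contra hne
    have := minpoly.degree_le_of_ne_zero L α hne h0
    rw [← hmap, hmap', degree_X_pow_sub_C hp.pos] at this
    exact absurd hQ (not_lt.mpr this)
  have hder : derivative (r.map π.toRingHom) = 0 := by
    refine hzero _ ((degree_derivative_le).trans_lt (lt_of_le_of_lt degree_map_le hdeg)) ?_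
    have := hev _ (adm_zero_one hg hmap (by rw [hgp, map_zero]))
    rwa [DerKernel.polyDer_zero, ev_apply, ← derivative_map] at this
  have hcoef : ∀ n, n ≠ 0 → π (r.coeff n) = 0 := by
    intro n hn
    obtain ⟨m, rfl⟩ := Nat.exists_eq_succ_of_ne_zero hn
    by_cases hm : r.coeff (m + 1) = 0
    · rw [hm, map_zero]
    have hlt : m + 1 < p := by
      exact_mod_cast (Polynomial.le_degree_of_ne_zero hm).trans_lt hdeg
    have h2 := congrArg (fun Q : L[X] => Q.coeff m) hder
    rw [coeff_derivative, coeff_zero, coeff_map] at h2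
    refine (mul_eq_zero.mp h2).resolve_right fun h3 => ?_
    rw [← Nat.cast_one, ← Nat.cast_add, CharP.cast_eq_zero_iff L p] at h3
    exact absurd (Nat.le_of_dvd (Nat.succ_pos m) h3) (not_le.mpr hlt)
  have hrC : ∀ Q : P[X], (∀ n, n ≠ 0 → π (Q.coeff n) = 0) →
      ev π α Q = algebraMap L L₁ (π (Q.coeff 0)) := by
    intro Q hQ
    have h0 : Q.map π.toRingHom = C (π (Q.coeff 0)) := Polynomial.ext fun n => by
      rw [coeff_map, coeff_C]
      split_ifs with h
      · subst h; rfl
      · exact hQ n h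
    rw [ev_apply, h0, aeval_C]
  rw [hxr, hrC r hcoef]
  refine exists_pow_of_forall' ((algebraMap L L₁).comp π.toRingHom) (Adm R Cc π) ?_ ?_ ?_ ?_ ?_ E
    hEadm f e hE he (by simpa using he0) ⟨algebraMap L L₁ (π (D f)), ?_⟩ ⟨α, ?_⟩ _ ?_
  · intro D' hD' z hz
    have hz' : π z = 0 := (map_eq_zero (algebraMap L L₁)).mp hz
    show algebraMap L L₁ (π (D' z)) = 0
    rw [hD'.2 z hz', map_zero]
  · exact fun D₁ D₂ c d h₁ h₂ => ⟨(h₁.1.smul c).add (h₂.1.smul d), fun z hz => by
      simp [h₁.2 z hz, h₂.2 z hz]⟩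
  · exact fun D₁ D₂ h₁ h₂ => ⟨h₁.1.bracket h₂.1, fun z hz => by
      rw [Derivation.commutator_apply, map_sub, h₁.2 _ (h₂.2 z hz), h₂.2 _ (h₁.2 z hz), sub_zero]⟩
  · intro D₁ Dp h₁ hDp
    refine ⟨h₁.1.iterPow p hDp, fun z hz => ?_⟩
    rw [hDp]
    have : ∀ n, π (D₁^[n] z) = 0 := fun n => by
      induction n with
      | zero => exact hz
      | succ n ih => rw [Function.iterate_succ_apply']; exact h₁.2 _ ih
    exact this p
  · intro y hy
    obtain ⟨w, hw⟩ := hPK y fun D' hD' => (map_eq_zero (algebraMap L L₁)).mp (hy D' hD')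
    exact ⟨algebraMap L L₁ w, by rw [← map_pow, hw]; rfl⟩
  · show _ = algebraMap L L₁ (π e)
    rw [← map_pow (algebraMap L L₁), map_pow π]
  · exact hα
  · intro D' hD' hD'f
    have hD'' : Adm R Cc (ev π α) (DerKernel.polyDer D' 0) := adm_polyDer hg hmap hD' (by
      rw [hpolyg, neg_eq_zero]; exact hD'f)
    have h := hev _ hD''
    rw [hrC (DerKernel.polyDer D' 0 r) (fun n hn => by
      rw [coeff_polyDer]; exact hD'.2 _ (hcoef n hn)), coeff_polyDer] at h
    exact h

end Groth.Agent.EGA4Lib.Jac
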