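import Groth.Agent.RegLoc.Miracle
import Groth.Prelude.Def_EGA4b
import Mathlib.RingTheory.Regular.RegularSequence
import Mathlib.RingTheory.KrullDimension.Regular
import Mathlib.RingTheory.Support
import Mathlib.Algebra.Module.SpanRank

/-!
# Miracle flatness for modules
-/

set_option autoImplicit false
set_option linter.style.haveILetI false

universe u

open IsLocalRing TensorProduct
open scoped Pointwise

namespace Groth.Agent.EGA4Lib.MiracleModule

section Local

variable {B : Type u} [CommRing B] [IsNoetherianRing B] [IsLocalRing B]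

theorem supportDim_le_add_length : ∀ (ys : List B) (N : Type u) [AddCommGroup N] [Module B N]
    [Module.Finite B N], (∀ y ∈ ys, y ∈ maximalIdeal B) →
      Module.supportDim B N ≤ Module.supportDim B (N ⧸ (Ideal.ofList ys • ⊤ : Submodule B N)) + (ys.length : ℕ∞) := by
  intro ys
  induction ys with
  | nil =>
    intro N _ _ _ _
    rw [List.length_nil, Nat.cast_zero, WithBot.coe_zero, add_zero]
    exact (Module.supportDim_eq_of_equiv (Submodule.quotEquivOfEqBot _ (by simp))).ge
  | cons y ys ih =>
    intro N _ _ _ hmem
    refine le_trans (Module.supportDim_le_supportDim_quotSMulTop_succ (hmem y List.mem_cons_self)) ?_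
    refine le_trans (add_le_add (ih (QuotSMulTop y N) fun z hz => hmem z (List.mem_cons_of_mem y hz)) le_rfl) ?_
    rw [Module.supportDim_eq_of_equiv (Submodule.quotOfListConsSMulTopEquivQuotSMulTopInner N y ys),
      List.length_cons, Nat.cast_succ, WithBot.coe_add, add_assoc]
    rfl

theorem isSMulRegular_of_dim_drop {N : Type u} [AddCommGroup N] [Module B N] [Module.Finite B N]
    (hCM : LocCoh.IsCohenMacaulayModule B N) (y : B) (hy : y ∈ maximalIdeal B)
    (h : Module.supportDim B (QuotSMulTop y N) + 1 ≤ Module.supportDim B N) : IsSMulRegular N y := by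
  haveI := Depth.nontrivial_of_isCohenMacaulayModule hCM
  by_contra hc
  have : y ∈ ⋃ p ∈ associatedPrimes B N, (p : Set B) := by
    rw [biUnion_associatedPrimes_eq_compl_regular B N]; exact hc
  simp only [Set.mem_iUnion, SetLike.mem_coe, exists_prop] at this
  obtain ⟨P, hP, hyP⟩ := this
  haveI := hP.isPrime
  have h1 := Depth.ringKrullDim_quotient_associatedPrime hCM hP
  have hmem : (⟨P, hP.isPrime⟩ : PrimeSpectrum B) ∈ Module.support B (QuotSMulTop y N) := by
    rw [Module.support_quotSMulTop]
    refine ⟨?_, fun z hz => ?_⟩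
    · rw [Module.support_eq_zeroLocus]; exact Depth.annihilator_le_associatedPrime hP
    · rw [Set.mem_singleton_iff.1 hz]; exact hyP
  rw [Module.support_eq_zeroLocus] at hmem
  have hle : ringKrullDim (B ⧸ P) ≤ Module.supportDim B (QuotSMulTop y N) := by
    rw [Module.supportDim_eq_ringKrullDim_quotient_annihilator]
    exact ringKrullDim_le_of_surjective (Ideal.Quotient.factor hmem) (Ideal.Quotient.factor_surjective _)
  rw [h1] at hle
  have hlt : Module.supportDim B N < ((⊤ : ℕ∞) : WithBot ℕ∞) :=
    (Module.supportDim_le_ringKrullDim B N).trans_lt ringKrullDim_lt_top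
  have h2 : Module.supportDim B N + 1 ≤ Module.supportDim B N :=
    le_trans (add_le_add hle le_rfl) h
  obtain ⟨d, hd⟩ := WithBot.ne_bot_iff_exists.1 (Module.supportDim_ne_bot_of_nontrivial B N)
  rw [← hd, ← WithBot.coe_one, ← WithBot.coe_add, WithBot.coe_le_coe] at h2
  rw [← hd, WithBot.coe_lt_coe] at hlt
  exact ((ENat.add_one_le_iff hlt.ne).1 h2).false

/-- In a Cohen–Macaulay module, a sequence dropping the dimension by its length is regular. -/
theorem isWeaklyRegular_of_dim_drop : ∀ (ys : List B) (N : Type u) [AddCommGroup N] [Module B N]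
    [Module.Finite B N], LocCoh.IsCohenMacaulayModule B N → (∀ y ∈ ys, y ∈ maximalIdeal B) →
      Module.supportDim B (N ⧸ (Ideal.ofList ys • ⊤ : Submodule B N)) + (ys.length : ℕ∞) ≤ Module.supportDim B N →
      RingTheory.Sequence.IsWeaklyRegular N ys := by
  intro ys
  induction ys with
  | nil => intro N _ _ _ _ _ _; exact .nil B N
  | cons y ys ih =>
    intro N _ _ _ hCM hmem h
    have hy := hmem y List.mem_cons_self
    have hys : ∀ z ∈ ys, z ∈ maximalIdeal B := fun z hz => hmem z (List.mem_cons_of_mem y hz)
    have hA := supportDim_le_add_length ys (QuotSMulTop y N) hys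
    rw [← Module.supportDim_eq_of_equiv (Submodule.quotOfListConsSMulTopEquivQuotSMulTopInner N y ys)] at hA
    rw [List.length_cons, Nat.cast_succ, WithBot.coe_add, ← add_assoc] at h
    have h1 : Module.supportDim B (QuotSMulTop y N) + 1 ≤ Module.supportDim B N :=
      le_trans (add_le_add hA le_rfl) h
    have hreg := isSMulRegular_of_dim_drop hCM y hy h1
    have heq : Module.supportDim B (QuotSMulTop y N) + 1 = Module.supportDim B N :=
      le_antisymm h1 (Module.supportDim_le_supportDim_quotSMulTop_succ hy)
    refine (RingTheory.Sequence.isWeaklyRegular_cons_iff N y ys).2 ⟨hreg,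
      ih (QuotSMulTop y N) ((Depth.isCohenMacaulayModule_quotSMulTop_iff hy hreg).2 hCM) hys ?_⟩
    rw [← heq] at h
    rw [Module.supportDim_eq_of_equiv (Submodule.quotOfListConsSMulTopEquivQuotSMulTopInner N y ys)] at h
    exact ENat.WithBot.add_le_add_one_right_iff.1 h

end Local

/-- A module on which generators of the maximal ideal of the base form a regular sequence is flat. -/
theorem flat_of_isWeaklyRegular : ∀ (n : ℕ) (A : Type u) [CommRing A] [IsNoetherianRing A] [IsLocalRing A]
    (rs : List A), rs.length = n → Ideal.ofList rs = maximalIdeal A →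
    ∀ (B : Type u) [CommRing B] [IsNoetherianRing B] [IsLocalRing B] [Algebra A B]
      [IsLocalHom (algebraMap A B)] (N : Type u) [AddCommGroup N] [Module B N] [Module A N]
      [IsScalarTower A B N] [Module.Finite B N],
      RingTheory.Sequence.IsWeaklyRegular N rs → Module.Flat A N := by
  intro n
  induction n with
  | zero =>
    intro A _ _ _ rs hlen hrs B _ _ _ _ _ N _ _ _ _ _ _
    rw [List.eq_nil_of_length_eq_zero hlen, Ideal.ofList_nil] at hrs
    letI := (IsLocalRing.isField_iff_maximalIdeal_eq.2 hrs.symm).toField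
    exact inferInstance
  | succ n ih =>
    intro A _ _ _ rs hlen hrs B _ _ _ _ _ N _ _ _ _ _ hreg
    obtain ⟨x, rs', rfl⟩ := List.exists_cons_of_length_eq_add_one hlen
    rw [List.length_cons, Nat.succ_inj] at hlen
    rw [RingTheory.Sequence.isWeaklyRegular_cons_iff] at hreg
    have hx : x ∈ maximalIdeal A := hrs ▸ Ideal.subset_span List.mem_cons_self
    let I := (Ideal.span {x}).map (algebraMap A B)
    have hI : I = Ideal.span {algebraMap A B x} := by simp [I, Ideal.map_span]
    have hy : algebraMap A B x ∈ maximalIdeal B := map_nonunit (algebraMap A B) x hx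
    haveI := RegLoc.isLocalRing_quotient (R := B) (I := I) (hI ▸ (Ideal.span_singleton_le_iff_mem _).mpr hy)
    haveI := RegLoc.isLocalRing_quotient (R := A) (I := Ideal.span {x})
      ((Ideal.span_singleton_le_iff_mem _).mpr hx)
    haveI : IsLocalHom (algebraMap (A ⧸ Ideal.span {x}) (B ⧸ I)) := by
      refine ⟨fun a ha => ?_⟩
      obtain ⟨a, rfl⟩ := Ideal.Quotient.mk_surjective a
      by_contra hna
      have ha' : a ∈ maximalIdeal A := fun hu => hna (hu.map _)
      have h1 : Ideal.Quotient.mk I (algebraMap A B a) ∈ maximalIdeal (B ⧸ I) := by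
        rw [RegLoc.maximalIdeal_quotient_eq_map]
        exact Ideal.mem_map_of_mem _ (map_nonunit (algebraMap A B) a ha')
      exact h1 ha
    let N' := N ⧸ (I • (⊤ : Submodule B N))
    letI : Module (A ⧸ Ideal.span {x}) N' := Module.compHom N' (algebraMap (A ⧸ Ideal.span {x}) (B ⧸ I))
    haveI : IsScalarTower (A ⧸ Ideal.span {x}) (B ⧸ I) N' := IsScalarTower.of_algebraMap_smul fun _ _ => rfl
    haveI : IsScalarTower A (A ⧸ Ideal.span {x}) N' := IsScalarTower.of_algebraMap_smul fun a m => by
      show Ideal.Quotient.mk I (algebraMap A B a) • m = a • m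
      rw [← algebraMap_smul B a m]
      rfl
    haveI : Module.Finite (B ⧸ I) N' := Module.Finite.of_restrictScalars_finite B (B ⧸ I) N'
    have hsmul : x • (⊤ : Submodule A N) = (I • (⊤ : Submodule B N)).restrictScalars A := by
      rw [Ideal.smul_restrictScalars, Submodule.restrictScalars_top, Submodule.ideal_span_singleton_smul]
    let eA : QuotSMulTop x N ≃ₗ[A] N' :=
      (Submodule.quotEquivOfEq _ _ hsmul).trans
        ((Submodule.Quotient.restrictScalarsEquiv A (I • (⊤ : Submodule B N))).restrictScalars A)
    have hflat : Module.Flat (A ⧸ Ideal.span {x}) N' := by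
      refine ih (A ⧸ Ideal.span {x}) (rs'.map (algebraMap A (A ⧸ Ideal.span {x})))
        (by rw [List.length_map, hlen]) ?_ (B ⧸ I) N' ?_
      · rw [← Ideal.map_ofList, RegLoc.maximalIdeal_quotient_eq_map, ← hrs, Ideal.ofList_cons,
          Ideal.map_sup, Ideal.Quotient.algebraMap_eq, Ideal.map_quotient_self, bot_sup_eq]
      · rw [RingTheory.Sequence.isWeaklyRegular_map_algebraMap_iff]
        exact (LinearEquiv.isWeaklyRegular_congr eA rs').1 hreg.2
    have hne : Ideal.span {x} ≠ ⊤ := fun e =>
      (maximalIdeal.isMaximal A).ne_top (top_le_iff.mp (e ▸ (Ideal.span_singleton_le_iff_mem _).mpr hx))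
    refine LocFlat.flat_criterion (S := B) N (Ideal.span {x}) (LocFlat.map_le_jacobson _ hne) ?_ ?_
    · rw [injective_iff_map_eq_zero]
      intro z hz
      have hz' : ∃ s : N, (⟨x, Ideal.mem_span_singleton_self x⟩ : Ideal.span {x}) ⊗ₜ[A] s = z := by
        clear hz
        induction z with
        | zero => exact ⟨0, TensorProduct.tmul_zero _ _⟩
        | tmul a s =>
          obtain ⟨c, hc⟩ := Ideal.mem_span_singleton'.mp a.2
          refine ⟨c • s, ?_⟩
          rw [← TensorProduct.smul_tmul]
          congr 1
          exact Subtype.ext hc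
        | add a b ha hb =>
          obtain ⟨s, rfl⟩ := ha
          obtain ⟨t, rfl⟩ := hb
          exact ⟨s + t, TensorProduct.tmul_add _ _ _⟩
      obtain ⟨s, rfl⟩ := hz'
      have h0 := congrArg (TensorProduct.lid A N) hz
      rw [LinearMap.rTensor_tmul, TensorProduct.lid_tmul, map_zero] at h0
      have hs : s = 0 := hreg.1 (h0.trans (smul_zero x).symm)
      rw [hs, TensorProduct.tmul_zero]
    · have e : ((A ⧸ Ideal.span {x}) ⊗[A] N) ≃ₗ[A] N' :=
        (TensorProduct.quotTensorEquivQuotSMul N (Ideal.span {x})).trans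
          ((Submodule.quotEquivOfEq _ _ (Submodule.ideal_span_singleton_smul x ⊤)).trans eA)
      exact Module.Flat.of_linearEquiv (e.extendScalarsOfSurjective Ideal.Quotient.mk_surjective)

/-- Miracle flatness for modules. -/
theorem flat_of_supportDim_eq {A B : Type u} [CommRing A] [CommRing B] [IsRegularLocalRing A]
    [IsNoetherianRing B] [IsLocalRing B] [Algebra A B] [IsLocalHom (algebraMap A B)]
    (M : Type u) [AddCommGroup M] [Module B M] [Module A M] [IsScalarTower A B M] [Module.Finite B M]
    (hCM : LocCoh.IsCohenMacaulayModule B M)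
    (hdim : Module.supportDim B M = ringKrullDim A + Module.supportDim B (EGA4.FibMod A B M)) :
    Module.Flat A M := by
  have hfg : (maximalIdeal A).FG := IsNoetherian.noetherian _
  let s := Submodule.generators (maximalIdeal A)
  have hsfin : s.Finite := Submodule.FG.finite_generators hfg
  let rs := hsfin.toFinset.toList
  have hrs : Ideal.ofList rs = maximalIdeal A := by
    have h : {r | r ∈ rs} = s := by ext r; simp [rs]
    show Ideal.span {r | r ∈ rs} = _
    rw [h]
    exact Submodule.span_generators _
  have hlen : rs.length = (maximalIdeal A).spanFinrank := by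
    rw [← Submodule.FG.generators_ncard hfg, Set.ncard_eq_toFinset_card _ hsfin]
    simp [rs, s]
  refine flat_of_isWeaklyRegular rs.length A rs rfl hrs B M ?_
  rw [← RingTheory.Sequence.isWeaklyRegular_map_algebraMap_iff B M]
  refine isWeaklyRegular_of_dim_drop _ M hCM (fun y hy => ?_) ?_
  · obtain ⟨r, hr, rfl⟩ := List.mem_map.1 hy
    exact map_nonunit (algebraMap A B) r (show r ∈ maximalIdeal A from hrs ▸ Ideal.subset_span hr)
  · rw [List.length_map, hlen, hdim, ← Ideal.map_ofList, hrs, add_comm (ringKrullDim A),
      ← IsRegularLocalRing.spanFinrank_maximalIdeal (R := A)]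
    exact le_rfl

end Groth.Agent.EGA4Lib.MiracleModule
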