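import Groth.Agent.EGA4Lib.FormallyEquidim
import Groth.Agent.EGA4Lib.Fibers
import Groth.Agent.EGA4Lib.CompletionFinite
import Mathlib.RingTheory.Ideal.AssociatedPrime.Localization

/-!
# Cohen–Macaulay formal fibres and strictly formally catenary rings (EGA IV 6.3.8, 7.2.?)
-/

set_option autoImplicit false
set_option linter.style.haveILetI false

open IsLocalRing TensorProduct

namespace Groth.Agent.EGA4Lib

universe u

theorem eq_of_add_eq_add {a b : WithBot ℕ∞} {d1 d2 : ℕ∞} (ha : (d1 : WithBot ℕ∞) ≤ a)
    (hb : (d2 : WithBot ℕ∞) ≤ b) (h1 : d1 < ⊤) (heq : a + b = (d1 : WithBot ℕ∞) + (d2 : WithBot ℕ∞)) :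
    b = (d2 : WithBot ℕ∞) := by
  cases a with
  | bot => simp at ha
  | coe a =>
  cases b with
  | bot => simp at hb
  | coe b =>
    rw [WithBot.coe_le_coe] at ha hb
    rw [← WithBot.coe_add, ← WithBot.coe_add, WithBot.coe_inj] at heq
    exact congrArg _ (le_antisymm (WithTop.le_of_add_le_add_left h1.ne
      (le_trans (add_le_add ha le_rfl) heq.le)) hb)

variable (A : Type u) [CommRing A] [IsLocalRing A] [IsNoetherianRing A]

theorem nontrivial_of_support_eq_univ (M : Type u) [AddCommGroup M] [Module A M]
    (hsupp : Module.support A M = Set.univ) : Nontrivial M := by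
  by_contra hn
  rw [not_nontrivial_iff_subsingleton] at hn
  haveI := hn
  rw [Module.support_eq_empty] at hsupp
  exact Set.empty_ne_univ hsupp

/-- A Cohen–Macaulay module of full support stays so over the completion. -/
theorem cm_tensor_cpl (M : Type u) [AddCommGroup M] [Module A M] [Module.Finite A M]
    (hCM : LocCoh.IsCohenMacaulayModule A M) (hsupp : Module.support A M = Set.univ) :
    LocCoh.IsCohenMacaulayModule (AdicCompletion (maximalIdeal A) A)
        (AdicCompletion (maximalIdeal A) A ⊗[A] M) ∧
      Module.support (AdicCompletion (maximalIdeal A) A) (AdicCompletion (maximalIdeal A) A ⊗[A] M) =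
        Set.univ := by
  let T := AdicCompletion (maximalIdeal A) A
  haveI : IsNoetherianRing T := RegLoc.Completion.isNoetherianRing_adicCompletion' _
  haveI : Nontrivial M := nontrivial_of_support_eq_univ A M hsupp
  haveI : Nontrivial (EGA4.FibMod A T T) := by
    refine Submodule.Quotient.nontrivial_iff.2 fun htop => ?_
    rw [smul_eq_mul, Ideal.mul_top, show EGA4.mB A T = maximalIdeal T from fibre_cpl_eq A] at htop
    exact (maximalIdeal.isMaximal T).ne_top htop
  have hfib : LocCoh.IsCohenMacaulayModule (EGA4.FibRing A T) (EGA4.FibMod A T T) := by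
    refine le_antisymm ?_ Depth.depth_le_supportDim
    refine (Module.supportDim_le_ringKrullDim _ _).trans ?_
    rw [show ringKrullDim (EGA4.FibRing A T) = 0 from fibre_cpl_dim A]
    exact WithBot.coe_le_coe.mpr zero_le
  refine ⟨(Groth.Agent.S2604.result A T M T).2 ⟨hCM, hfib⟩, ?_⟩
  rw [Dim.support_tensor, hsupp, Set.preimage_univ, Set.inter_univ]
  rw [Module.support_eq_zeroLocus, Module.annihilator_eq_bot.2 inferInstance]
  exact PrimeSpectrum.zeroLocus_bot

theorem hasCMFormalFibres_of_cm_module (M : Type u) [AddCommGroup M] [Module A M] [Module.Finite A M]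
    (hCM : LocCoh.IsCohenMacaulayModule A M) (hsupp : Module.support A M = Set.univ) :
    EGA4.HasCMFormalFibres A := by
  let T := AdicCompletion (maximalIdeal A) A
  haveI : IsNoetherianRing T := RegLoc.Completion.isNoetherianRing_adicCompletion' _
  haveI : Nontrivial M := nontrivial_of_support_eq_univ A M hsupp
  show ∀ (p : Ideal A) [p.IsPrime], LocCoh.IsCohenMacaulayRing (p.Fiber T)
  rw [forall_isCohenMacaulayRing_fiber_iff]
  intro q _
  haveI := LocFlat.finite_tensor (R := A) (S := T) T M
  obtain ⟨hN, hNs⟩ := cm_tensor_cpl A M hCM hsupp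
  have hq : Nontrivial (LocalizedModule q.primeCompl (T ⊗[A] M)) :=
    Module.mem_support_iff.1 (hNs ▸ Set.mem_univ (⟨q, inferInstance⟩ : PrimeSpectrum T))
  have hp : Nontrivial (LocalizedModule (q.comap (algebraMap A T)).primeCompl M) :=
    Module.mem_support_iff.1 (hsupp ▸ Set.mem_univ (⟨q.comap (algebraMap A T), inferInstance⟩ : PrimeSpectrum A))
  have hT : Nontrivial (LocalizedModule q.primeCompl T) := by
    have hmem : (⟨q, inferInstance⟩ : PrimeSpectrum T) ∈ Module.support T T := by
      rw [Module.support_eq_zeroLocus, Module.annihilator_eq_bot.2 inferInstance, Submodule.bot_coe,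
        PrimeSpectrum.zeroLocus_singleton_zero]
      trivial
    exact Module.mem_support_iff.1 hmem
  haveI : Nontrivial (stalkFib A q T) := by
    refine Submodule.Quotient.nontrivial_iff.2 ?_
    exact Depth.smul_top_ne_top_of_le_maximalIdeal (map_le_maximalIdeal A q)
  have h := Depth.isCohenMacaulayModule_localizedModule hN q hq
  obtain ⟨hd, hs⟩ := depth_supportDim_stalk A q M T
  unfold LocCoh.IsCohenMacaulayModule at h
  rw [hs hp hT, hd, WithBot.coe_add] at h
  exact eq_of_add_eq_add Depth.depth_le_supportDim Depth.depth_le_supportDim Depth.depth_lt_top h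

/-- Formal fibres of a quotient are formal fibres. -/
theorem hasCMFormalFibres_of_surjective (B : Type u) [CommRing B] [IsLocalRing B] [Algebra A B]
    (hB : Function.Surjective (algebraMap A B)) (h : EGA4.HasCMFormalFibres A) :
    EGA4.HasCMFormalFibres B := by
  intro p _
  haveI : Module.Finite A B := Module.Finite.of_surjective (Algebra.linearMap A B) hB
  obtain ⟨e⟩ := nonempty_adicCompletion_finite (maximalIdeal A) B (maximalIdeal B)
    (IsLocalRing.map_maximalIdeal_of_surjective (algebraMap A B) hB).symm
  letI := residueAlgebra (A := A) p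
  obtain ⟨f⟩ := nonempty_fiber_baseChange e p
  obtain ⟨g⟩ := nonempty_ringEquiv_of_surjective (p.comap (algebraMap A B)).ResidueField p.ResidueField
    ((p.comap (algebraMap A B)).Fiber (AdicCompletion (maximalIdeal A) A))
    (residue_surjective (isQuotLike_of_surjective hB) p)
  exact GeomFieldLib.isCohenMacaulayRing_of_ringEquiv (g.trans f.symm.toRingEquiv) (h (p.comap (algebraMap A B)))

/-- With Cohen–Macaulay formal fibres the completion of a local domain has no embedded primes. -/
theorem mem_minimalPrimes_of_mem_associatedPrimes_cpl (D : Type u) [CommRing D] [IsDomain D]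
    [IsLocalRing D] [IsNoetherianRing D] (h : EGA4.HasCMFormalFibres D)
    {Q : Ideal (AdicCompletion (maximalIdeal D) D)}
    (hQ : Q ∈ associatedPrimes (AdicCompletion (maximalIdeal D) D) (AdicCompletion (maximalIdeal D) D)) :
    Q ∈ minimalPrimes (AdicCompletion (maximalIdeal D) D) := by
  let T := AdicCompletion (maximalIdeal D) D
  haveI : IsNoetherianRing T := RegLoc.Completion.isNoetherianRing_adicCompletion' _
  haveI : Q.IsPrime := IsAssociatedPrime.isPrime hQ
  have hbot : Q.comap (algebraMap D T) = ⊥ := by
    refine (Submodule.eq_bot_iff _).2 fun x hx => ?_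
    by_contra hx0
    have hreg : IsSMulRegular T x :=
      Module.Flat.isSMulRegular_of_nonZeroDivisors (mem_nonZeroDivisors_of_ne_zero hx0)
    have hreg' : IsSMulRegular T (algebraMap D T x) := fun a b hab => hreg (by
      simpa [Algebra.smul_def] using hab)
    have : algebraMap D T x ∈ {r : T | IsSMulRegular T r}ᶜ := by
      rw [← biUnion_associatedPrimes_eq_compl_regular]
      exact Set.mem_biUnion hQ hx
    exact this hreg'
  have hcm := (forall_isCohenMacaulayRing_fiber_iff D (B := T)).1
    (fun p _ => h p) Q
  have heq : ((Q.comap (algebraMap D T)).map (algebraMap D (Localization.AtPrime Q))) •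
      (⊤ : Submodule (Localization.AtPrime Q) (LocalizedModule Q.primeCompl T)) = ⊥ := by
    rw [hbot, Ideal.map_bot, Submodule.bot_smul]
  obtain ⟨h1, h2⟩ := depth_supportDim_congr (L := Localization.AtPrime Q)
    (Submodule.quotEquivOfEqBot _ heq : stalkFib D Q T ≃ₗ[Localization.AtPrime Q] LocalizedModule Q.primeCompl T)
  rw [h1, h2] at hcm
  have h3 := Depth.ringKrullDim_quotient_associatedPrime (R := Localization.AtPrime Q)
    (M := LocalizedModule Q.primeCompl T) hcm
    (Module.associatedPrimes.mem_associatedPrimes_atPrime_of_mem_associatedPrimes hQ)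
  rw [(depth_supportDim_congr (L := Localization.AtPrime Q)
    (Depth.localizedModuleSelfEquiv Q.primeCompl)).2, Module.supportDim_self_eq_ringKrullDim,
    ringKrullDim_eq_zero_of_isField ((Ideal.Quotient.maximal_ideal_iff_isField_quotient _).1
      (maximalIdeal.isMaximal _)), IsLocalization.AtPrime.ringKrullDim_eq_height Q] at h3
  rw [← Ideal.height_eq_zero_iff]
  exact (WithBot.coe_eq_zero.1 h3.symm)

theorem isFormallyStrictlyCatenary_of (hfc : EGA4.IsFormallyCatenary A) (h : EGA4.HasCMFormalFibres A) :
    EGA4.IsFormallyStrictlyCatenary A := by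
  intro p _ Q hQ
  haveI : IsLocalRing (A ⧸ p) := IsLocalRing.of_surjective' _ Ideal.Quotient.mk_surjective
  exact hfc p Q (mem_minimalPrimes_of_mem_associatedPrimes_cpl (A ⧸ p)
    (hasCMFormalFibres_of_surjective A (A ⧸ p) Ideal.Quotient.mk_surjective h) hQ)

theorem isFormallyStrictlyCatenary_of_cm_module (M : Type u) [AddCommGroup M] [Module A M] [Module.Finite A M]
    (hCM : LocCoh.IsCohenMacaulayModule A M) (hsupp : Module.support A M = Set.univ) :
    EGA4.IsFormallyStrictlyCatenary A :=
  isFormallyStrictlyCatenary_of A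
    (isFormallyCatenary_of_formallyEquidim (isFormallyEquidim_of_cm_module M hCM hsupp))
    (hasCMFormalFibres_of_cm_module A M hCM hsupp)

end Groth.Agent.EGA4Lib
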