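import Groth.Agent.VarDim.Scheme
import Mathlib.RingTheory.Ideal.KrullsHeightTheorem
import Mathlib.AlgebraicGeometry.Morphisms.FiniteType

/-!
# Dimension of the zero locus of a function
-/

set_option autoImplicit false
set_option linter.style.haveILetI false

universe u

open CategoryTheory AlgebraicGeometry Groth.Agent.VarDim

namespace Groth.Agent.EGA4Lib.ZeroLocusDim

attribute [local instance] Curv2.resAlgebra secAlgebra

variable {X : Scheme.{u}}

/-- The dimension of a closed subset is computed by the specialisation order. -/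
theorem topDim_eq {S : Set X} (hS : IsClosed S) : topologicalKrullDim S = Order.krullDim S := by
  haveI : QuasiSober S := hS.isClosedEmbedding_subtypeVal.quasiSober
  exact Order.krullDim_eq_of_orderIso
    { toEquiv := irreducibleSetEquivPoints.toEquiv
      map_rel_iff' := fun {a b} => (subtype_specializes_iff (irreducibleSetEquivPoints b)
        (irreducibleSetEquivPoints a)).symm.trans irreducibleSetEquivPoints.map_rel_iff' }

/-- A nowhere dense set contains no maximal point. -/
theorem exists_gt_of_interior_eq_empty [IsLocallyNoetherian X] {S : Set X} (hS : IsClosed S)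
    (h : interior S = ∅) {t : X} (ht : t ∈ S) : ∃ η, t < η := by
  by_contra hmax
  push_neg at hmax
  obtain ⟨V, hV, htV, -⟩ := exists_isAffineOpen_mem_and_subset (X := X) (x := t) (U := ⊤) trivial
  haveI : IsNoetherianRing Γ(X, V) := IsLocallyNoetherian.component_noetherian ⟨V, hV⟩
  set P := hV.primeIdealOf ⟨t, htV⟩
  have hPmin : ∀ q : PrimeSpectrum Γ(X, V), q ≤ P → P ≤ q := fun q hq => by
    obtain ⟨y, hy, rfl⟩ := exists_eq_primeIdealOf hV q
    rw [primeIdealOf_le_iff] at hq ⊢
    by_contra hne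
    exact hmax y (lt_iff_le_not_ge.2 ⟨hq, hne⟩)
  have hfin := minimalPrimes.finite_of_isNoetherianRing Γ(X, V)
  have hgood : ∀ q ∈ hfin.toFinset.filter (· ≠ P.asIdeal), ¬ q ≤ P.asIdeal := fun q hq hle => by
    rw [Finset.mem_filter, Set.Finite.mem_toFinset] at hq
    exact hq.2 (le_antisymm hle (hPmin ⟨q, hq.1.1.1⟩ hle))
  choose! a ha using fun q hq => Set.not_subset.1 (hgood q hq)
  let b := ∏ q ∈ hfin.toFinset.filter (· ≠ P.asIdeal), a q
  have hbP : b ∉ P.asIdeal := fun hb => by
    obtain ⟨q, hq, hq'⟩ := P.isPrime.prod_mem_iff.1 hb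
    exact (ha q hq).2 hq'
  have hsub : (X.basicOpen b : Set X) ⊆ S := by
    intro y hy
    have hyV : y ∈ V := X.basicOpen_le b hy
    have hby : b ∉ (hV.primeIdealOf ⟨y, hyV⟩).asIdeal := by
      rw [← evaluation_eq_zero_iff hV y hyV]
      exact (X.evaluation_ne_zero_iff_mem_basicOpen y hyV b).2 hy
    obtain ⟨m, hm, hmle⟩ :=
      Ideal.exists_minimalPrimes_le (bot_le : (⊥ : Ideal _) ≤ (hV.primeIdealOf ⟨y, hyV⟩).asIdeal)
    have hmP : m = P.asIdeal := by
      by_contra hne
      have hq : m ∈ hfin.toFinset.filter (· ≠ P.asIdeal) :=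
        Finset.mem_filter.2 ⟨hfin.mem_toFinset.2 hm, hne⟩
      obtain ⟨c, hc⟩ := Finset.dvd_prod_of_mem a hq
      exact hby (hmle (by rw [show b = a m * c from hc]; exact m.mul_mem_right _ (ha m hq).1))
    have hty : t ⤳ y := (primeIdealOf_le_iff hV t y htV hyV).1
      (show P.asIdeal ≤ (hV.primeIdealOf ⟨y, hyV⟩).asIdeal from hmP ▸ hmle)
    exact hty.mem_closed hS ht
  have : t ∈ interior S := interior_maximal hsub (X.basicOpen b).2
    ((X.evaluation_ne_zero_iff_mem_basicOpen t htV b).1 (by rwa [Ne, evaluation_eq_zero_iff hV t htV]))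
  rw [h] at this
  exact this

variable (k : Type u) [Field k] [X.Over (Spec (CommRingCat.of k))]
  [LocallyOfFiniteType (X ↘ Spec (CommRingCat.of k))]

theorem le_topDim {S : Set X} (hS : IsClosed S) {y : X} (hy : y ∈ S) :
    (dimPt k X y : WithBot ℕ∞) ≤ topologicalKrullDim S := by
  obtain ⟨z, hzy, -, hz⟩ := exists_le_dimPt_eq_zero k y ⊤ trivial
  obtain ⟨-, l, -, hl, hlen⟩ := exists_ltSeries_of_le k hzy
  rw [hz, zero_add] at hlen
  have hmem : ∀ i, l i ∈ S := fun i => ((l.monotone (Fin.le_last i)).trans hl : l i ≤ y).mem_closed hS hy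
  rw [topDim_eq hS]
  let L : LTSeries S := LTSeries.mk l.length (fun i => ⟨l i, hmem i⟩) fun i j hij => by
    exact l.strictMono hij
  refine le_trans ?_ (Order.LTSeries.length_le_krullDim L)
  exact_mod_cast hlen.ge

theorem topDim_le {S : Set X} (hS : IsClosed S) {n : ℕ} (h : ∀ y ∈ S, dimPt k X y ≤ n) :
    topologicalKrullDim S ≤ n := by
  rw [topDim_eq hS]
  have hg : StrictMono fun s : S => dimPt k X s.1 := fun a b hab =>
    dimPt_lt_of_lt k hab
  refine iSup_le fun l => ?_
  have h1 := LTSeries.head_add_length_le_nat (l.map _ hg)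
  have h2 := h _ l.last.2
  simp only [LTSeries.head_map, LTSeries.last_map] at h1
  have : (l.map (fun s : S => dimPt k X s.1) hg).length = l.length := rfl
  exact_mod_cast (by omega : l.length ≤ n)

include k in
theorem topDim_add_one_le {S : Set X} (hS : IsClosed S) (h : interior S = ∅) :
    topologicalKrullDim S + 1 ≤ topologicalKrullDim X := by
  haveI : IsLocallyNoetherian X := LocallyOfFiniteType.isLocallyNoetherian (X ↘ Spec (CommRingCat.of k))
  rcases S.eq_empty_or_nonempty with rfl | ⟨t₀, ht₀⟩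
  · rw [topDim_eq hS, Order.krullDim_eq_bot, WithBot.bot_add]
    exact bot_le
  have hge : ∀ t ∈ S, ((dimPt k X t : WithBot ℕ∞) + 1) ≤ topologicalKrullDim X := fun t ht => by
    obtain ⟨η, hη⟩ := exists_gt_of_interior_eq_empty hS h ht
    rw [topologicalKrullDim_eq_iSup k]
    refine le_iSup_of_le η ?_
    exact_mod_cast dimPt_lt_of_lt k hη
  by_cases htop : topologicalKrullDim X = ⊤
  · rw [htop]; exact le_top
  obtain ⟨n, hn⟩ : ∃ n : ℕ, topologicalKrullDim X = n := by
    have h0 : (0 : WithBot ℕ∞) ≤ topologicalKrullDim X := by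
      rw [topologicalKrullDim_eq_iSup k]; exact le_iSup_of_le t₀ (by exact_mod_cast Nat.zero_le _)
    revert htop h0
    generalize topologicalKrullDim X = d
    intro htop h0
    induction d with
    | bot => simp at h0
    | coe d =>
      induction d with
      | top => exact absurd rfl htop
      | coe d => exact ⟨d, rfl⟩
  have hle : ∀ t ∈ S, dimPt k X t + 1 ≤ n := fun t ht => by
    have := hge t ht
    rw [hn] at this
    exact_mod_cast this
  have hn1 : 1 ≤ n := by have := hle t₀ ht₀; omega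
  refine (add_le_add_left (topDim_le k hS (n := n - 1) fun t ht => by have := hle t ht; omega) 1).trans ?_
  rw [hn]
  exact_mod_cast (by omega : n - 1 + 1 ≤ n)

/-- The principal ideal theorem on points. -/
theorem exists_dimPt_le_add_one {η x : X} (hx : η ⤳ x) (g : Γ(X, ⊤)) (hg : x ∉ X.basicOpen g) :
    ∃ y, η ⤳ y ∧ y ∉ X.basicOpen g ∧ dimPt k X η ≤ dimPt k X y + 1 := by
  obtain ⟨V, hV, hxV, -⟩ := exists_isAffineOpen_mem_and_subset (X := X) (x := x) (U := ⊤) trivial
  have hηV : η ∈ V := hx.mem_open V.2 hxV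
  haveI := finiteType_sections k hV
  let g' : Γ(X, V) := X.presheaf.map (homOfLE (le_top (a := V))).op g
  have hmem : ∀ y (hy : y ∈ V), y ∉ X.basicOpen g ↔ g' ∈ (hV.primeIdealOf ⟨y, hy⟩).asIdeal := fun y hy => by
    rw [← evaluation_eq_zero_iff hV y hy]
    have : y ∈ X.basicOpen g' ↔ y ∈ X.basicOpen g := by
      show y ∈ X.basicOpen ((X.presheaf.map (homOfLE (le_top (a := V))).op) g) ↔ _
      rw [Scheme.basicOpen_res]
      exact ⟨fun h => h.2, fun h => ⟨hy, h⟩⟩
    rw [← this, ← X.evaluation_ne_zero_iff_mem_basicOpen y hy g', not_not]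
  set Q := hV.primeIdealOf ⟨η, hηV⟩
  set P := hV.primeIdealOf ⟨x, hxV⟩
  have hQP : Q.asIdeal ≤ P.asIdeal := (primeIdealOf_le_iff hV η x hηV hxV).2 hx
  haveI := finiteType_quotient k Γ(X, V) Q.asIdeal
  haveI : IsNoetherianRing (Γ(X, V) ⧸ Q.asIdeal) := Algebra.FiniteType.isNoetherianRing k _
  have hle : Ideal.span {Ideal.Quotient.mk Q.asIdeal g'} ≤ P.asIdeal.map (Ideal.Quotient.mk Q.asIdeal) := by
    rw [Ideal.span_le, Set.singleton_subset_iff]
    exact Ideal.mem_map_of_mem _ ((hmem x hxV).1 hg)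
  haveI : (P.asIdeal.map (Ideal.Quotient.mk Q.asIdeal)).IsPrime :=
    Ideal.map_isPrime_of_surjective Ideal.Quotient.mk_surjective (by rwa [Ideal.mk_ker])
  obtain ⟨p, hp, hpP⟩ := Ideal.exists_minimalPrimes_le hle
  haveI := hp.1.1
  have hht : p.height ≤ 1 := Ideal.height_le_one_of_isPrincipal_of_mem_minimalPrimes _ p hp
  obtain ⟨n, hn, hn'⟩ := trdeg_quotient_add_height k (Γ(X, V) ⧸ Q.asIdeal) p
  let R : PrimeSpectrum Γ(X, V) := ⟨p.comap (Ideal.Quotient.mk Q.asIdeal), inferInstance⟩
  obtain ⟨y, hy, hye⟩ := exists_eq_primeIdealOf hV R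
  have hQR : Q.asIdeal ≤ R.asIdeal := fun a ha => by
    show Ideal.Quotient.mk Q.asIdeal a ∈ p
    rw [Ideal.Quotient.eq_zero_iff_mem.2 ha]; exact zero_mem _
  have hgR : g' ∈ R.asIdeal := hp.1.2 (Ideal.subset_span rfl)
  have hmap : R.asIdeal.map (Ideal.Quotient.mk Q.asIdeal) = p :=
    Ideal.map_comap_of_surjective _ Ideal.Quotient.mk_surjective p
  rw [← hmap, trdeg_quotient_quotient k Γ(X, V) hQR, trdeg_quotient_primeIdealOf k hV η hηV, ← hye,
    trdeg_quotient_primeIdealOf k hV y hy] at hn'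
  refine ⟨y, (primeIdealOf_le_iff hV η y hηV hy).1 (by rw [hye]; exact hQR), (hmem y hy).2 (by rw [hye]; exact hgR), ?_⟩
  have h1 : dimPt k X y + n = dimPt k X η := by exact_mod_cast hn'
  have h2 : n ≤ 1 := by rw [hn] at hht; exact_mod_cast hht
  omega

include k in
theorem dim_zeroLocus (f : Γ(X, ⊤)) (hY : interior (X.zeroLocus (U := ⊤) {f}) = ∅) :
    topologicalKrullDim (X.zeroLocus (U := ⊤) {f}) + 1 ≤ topologicalKrullDim X ∧
      ((∃ Z ∈ irreducibleComponents (X : Type u), topologicalKrullDim Z = topologicalKrullDim X) →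
        (∀ Z ∈ irreducibleComponents (X : Type u), topologicalKrullDim Z = topologicalKrullDim X →
          (Z ∩ X.zeroLocus (U := ⊤) {f}).Nonempty) →
        topologicalKrullDim (X.zeroLocus (U := ⊤) {f}) + 1 = topologicalKrullDim X) := by
  have hcl : IsClosed (X.zeroLocus (U := ⊤) {f}) := by
    rw [Scheme.zeroLocus_singleton]; exact (X.basicOpen f).2.isClosed_compl
  have h1 := topDim_add_one_le k hcl hY
  refine ⟨h1, fun ⟨Z, hZ, hdim⟩ hmeet => le_antisymm h1 ?_⟩
  obtain ⟨x, hxZ, hxY⟩ := hmeet Z hZ hdim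
  have hZc : IsClosed Z := isClosed_of_mem_irreducibleComponents Z hZ
  obtain ⟨η, hη⟩ := QuasiSober.sober hZ.1 hZc
  rw [Scheme.zeroLocus_singleton] at hxY
  obtain ⟨y, hηy, hy, hd⟩ := exists_dimPt_le_add_one k (hη.specializes hxZ) f hxY
  have hZd : topologicalKrullDim Z ≤ dimPt k X η :=
    topDim_le k hZc fun z hz => (exists_ltSeries_of_le k (hη.specializes hz : z ≤ η)).1
  refine (hdim ▸ hZd).trans (le_trans ?_ (add_le_add_left (le_topDim k hcl
    (show y ∈ X.zeroLocus (U := ⊤) {f} by rw [Scheme.zeroLocus_singleton]; exact hy)) 1))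
  exact_mod_cast hd

end Groth.Agent.EGA4Lib.ZeroLocusDim
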